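import Groth.Agent.CAlg15.FlatImageDepth
import Groth.Agent.Matlis6.CompletionNoetherian
import Mathlib.RingTheory.AdicCompletion.AsTensorProduct
import Mathlib.RingTheory.Ideal.GoingDown

/-! Primes of an adic completion over a prime, and the depth of the completed module there. -/

set_option autoImplicit false

universe u

open IsLocalRing TensorProduct

namespace Groth.Agent.CAlgH3.DT

variable {R : Type u} [CommRing R] [IsNoetherianRing R] (I : Ideal R) (G : Type u) [AddCommGroup G]
  [Module R G] [Module.Finite R G]

/-- Depth of the completed module at a prime of the completion, over its contraction. -/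
theorem depth_completion_eq_add (q : Ideal (AdicCompletion I R)) [q.IsPrime] :
    letI := Localization.AtPrime.algebraOfLiesOver (q.under R) q
    _root_.LocCoh.depth (Localization.AtPrime q) (LocalizedModule q.primeCompl (AdicCompletion I G)) =
      _root_.LocCoh.depth (Localization.AtPrime (q.under R)) (LocalizedModule (q.under R).primeCompl G) +
        _root_.LocCoh.depth (Localization.AtPrime q) (Localization.AtPrime q ⧸
          (maximalIdeal (Localization.AtPrime (q.under R))).map
            (algebraMap (Localization.AtPrime (q.under R)) (Localization.AtPrime q)) •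
            (⊤ : Submodule (Localization.AtPrime q) (Localization.AtPrime q))) := by
  haveI := Matlis6.isNoetherianRing_adicCompletion I
  letI := Localization.AtPrime.algebraOfLiesOver (q.under R) q
  have e := IsLocalizedModule.mapEquiv q.primeCompl
    (LocalizedModule.mkLinearMap q.primeCompl (AdicCompletion I R ⊗[R] G))
    (LocalizedModule.mkLinearMap q.primeCompl (AdicCompletion I G)) (Localization.AtPrime q)
    (AdicCompletion.ofTensorProductEquivOfFiniteNoetherian I G)
  rw [← CAlgH3.depth_congr e, CAlg15.depth_localized_tensor (q.under R) q G]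

theorem le_depth_completion (q : Ideal (AdicCompletion I R)) [q.IsPrime] :
    _root_.LocCoh.depth (Localization.AtPrime (q.under R)) (LocalizedModule (q.under R).primeCompl G) ≤
      _root_.LocCoh.depth (Localization.AtPrime q) (LocalizedModule q.primeCompl (AdicCompletion I G)) := by
  rw [depth_completion_eq_add I G q]
  exact le_self_add

theorem depth_completion_eq_of_minimal (P : Ideal R) [P.IsPrime] (q : Ideal (AdicCompletion I R)) [q.IsPrime]
    [q.LiesOver P] (hq : q ∈ (P.map (algebraMap R (AdicCompletion I R))).minimalPrimes) :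
    _root_.LocCoh.depth (Localization.AtPrime q) (LocalizedModule q.primeCompl (AdicCompletion I G)) =
      _root_.LocCoh.depth (Localization.AtPrime P) (LocalizedModule P.primeCompl G) := by
  obtain rfl : P = q.under R := Ideal.LiesOver.over
  haveI := Matlis6.isNoetherianRing_adicCompletion I
  letI := Localization.AtPrime.algebraOfLiesOver (q.under R) q
  haveI : IsLocalHom (algebraMap (Localization.AtPrime (q.under R)) (Localization.AtPrime q)) :=
    Localization.isLocalHom_localRingHom (q.under R) q (algebraMap R (AdicCompletion I R)) Ideal.LiesOver.over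
  haveI : Nontrivial (Localization.AtPrime q ⧸ (maximalIdeal (Localization.AtPrime (q.under R))).map
      (algebraMap (Localization.AtPrime (q.under R)) (Localization.AtPrime q)) •
        (⊤ : Submodule (Localization.AtPrime q) (Localization.AtPrime q))) :=
    Submodule.Quotient.nontrivial_iff.2 (LocCoh.smul_top_ne_top_of_nontrivial _ fun h =>
      (maximalIdeal.isMaximal (Localization.AtPrime q)).ne_top
        (top_le_iff.1 (h ▸ ((local_hom_TFAE (algebraMap (Localization.AtPrime (q.under R)) (Localization.AtPrime q))).out 0 2 rfl rfl).1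
          inferInstance)))
  have h0 := CAlgH3.depth_le_supportDim (R := Localization.AtPrime q)
    (M := Localization.AtPrime q ⧸ (maximalIdeal (Localization.AtPrime (q.under R))).map
      (algebraMap (Localization.AtPrime (q.under R)) (Localization.AtPrime q)) •
        (⊤ : Submodule (Localization.AtPrime q) (Localization.AtPrime q)))
  rw [Module.supportDim_eq_of_equiv (Submodule.quotEquivOfEq _ ((maximalIdeal (Localization.AtPrime (q.under R))).map
      (algebraMap (Localization.AtPrime (q.under R)) (Localization.AtPrime q))) (by rw [smul_eq_mul, Ideal.mul_top])),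
    Module.supportDim_quotient_eq_ringKrullDim, CAlg15.ringKrullDim_fibre_eq_zero (q.under R) q hq,
    ← WithBot.coe_zero, WithBot.coe_le_coe, nonpos_iff_eq_zero] at h0
  rw [depth_completion_eq_add I G q, h0, add_zero]

/-- A prime over `P` all of whose specializations containing `I` are maximal, with the same depth. -/
theorem exists_point (m : Ideal R) [m.IsMaximal] (hIm : I ≤ m) (P : Ideal R) [P.IsPrime] (hPm : P ≤ m)
    (hIP : ¬ I ≤ P) (huniq : ∀ Q : Ideal R, Q.IsPrime → P ≤ Q → I ≤ Q → Q = m) :
    ∃ q : PrimeSpectrum (AdicCompletion I R), ¬ I.map (algebraMap R (AdicCompletion I R)) ≤ q.asIdeal ∧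
      (∀ q' : PrimeSpectrum (AdicCompletion I R), q ≤ q' → I.map (algebraMap R (AdicCompletion I R)) ≤ q'.asIdeal →
        q'.asIdeal.IsMaximal) ∧
      _root_.LocCoh.depth (Localization.AtPrime q.asIdeal) (LocalizedModule q.asIdeal.primeCompl (AdicCompletion I G)) =
        _root_.LocCoh.depth (Localization.AtPrime P) (LocalizedModule P.primeCompl G) := by
  set B := AdicCompletion I R
  set mI := m.map (Ideal.Quotient.mk I)
  haveI : mI.IsMaximal := (Ideal.map_eq_top_or_isMaximal_of_surjective _ Ideal.Quotient.mk_surjective
    inferInstance).resolve_left fun h => Ideal.IsMaximal.ne_top ‹m.IsMaximal› (by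
      have := congrArg (Ideal.comap (Ideal.Quotient.mk I)) h
      rwa [Ideal.comap_top, Ideal.comap_map_of_surjective _ Ideal.Quotient.mk_surjective, ← RingHom.ker_eq_comap_bot,
        Ideal.mk_ker, sup_eq_left.2 hIm] at this)
  set Q := mI.comap (AdicCompletion.evalOneₐ I).toRingHom
  haveI : Q.IsMaximal := Ideal.comap_isMaximal_of_surjective _ (AdicCompletion.evalOneₐ_surjective I)
  have hQ : Q.under R = m := by
    show (mI.comap (AdicCompletion.evalOneₐ I).toRingHom).comap (algebraMap R B) = m
    rw [Ideal.comap_comap, AdicCompletion.evalOneₐ_comp_algebraMap_eq_mk,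
      Ideal.comap_map_of_surjective _ Ideal.Quotient.mk_surjective, ← RingHom.ker_eq_comap_bot, Ideal.mk_ker,
      sup_eq_left.2 hIm]
  haveI : Q.LiesOver m := ⟨hQ.symm⟩
  obtain ⟨q₀, hq₀Q, hq₀, hq₀P⟩ := Ideal.exists_ideal_le_liesOver_of_le (S := B) Q hPm
  obtain ⟨q, hq, hqle⟩ := Ideal.exists_minimalPrimes_le (Ideal.map_le_iff_le_comap.2 hq₀P.over.le :
    P.map (algebraMap R B) ≤ q₀)
  haveI := hq.1.1
  haveI : q.LiesOver P := ⟨le_antisymm (Ideal.map_le_iff_le_comap.1 hq.1.2)
    ((Ideal.comap_mono hqle).trans hq₀P.over.ge)⟩
  have hover : P = q.under R := Ideal.LiesOver.over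
  refine ⟨⟨q, inferInstance⟩, fun h => hIP (hover.symm ▸ Ideal.map_le_iff_le_comap.1 h), ?_,
    depth_completion_eq_of_minimal I G P q hq⟩
  intro q' hqq' hI'
  have hm' : q'.asIdeal.under R = m := huniq _ inferInstance
    (hover.le.trans (Ideal.comap_mono hqq')) (Ideal.map_le_iff_le_comap.1 hI')
  suffices hle : Q ≤ q'.asIdeal by
    rw [← Ideal.IsMaximal.eq_of_le ‹Q.IsMaximal› q'.isPrime.ne_top hle]; infer_instance
  intro x hx
  obtain ⟨a, ha, hax⟩ := (Ideal.mem_map_iff_of_surjective _ Ideal.Quotient.mk_surjective).1 (Ideal.mem_comap.1 hx)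
  have hker : x - algebraMap R B a ∈ I.map (algebraMap R B) := by
    rw [← AdicCompletion.ker_evalOneₐ_eq_map I (IsNoetherian.noetherian _), RingHom.mem_ker, map_sub, sub_eq_zero,
      ← RingHom.comp_apply, AdicCompletion.evalOneₐ_comp_algebraMap_eq_mk]
    exact hax.symm
  have haq : algebraMap R B a ∈ q'.asIdeal := Ideal.mem_comap.1 (hm'.ge ha)
  simpa using add_mem (hI' hker) haq

end Groth.Agent.CAlgH3.DT
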