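import Groth.Agent.CAlgH3.DT.TorsCompletion
import Mathlib.RingTheory.Filtration
import Mathlib.RingTheory.AdicCompletion.Exactness

/-! Exactness and scalar actions for the completed Čech complex on sequences with the Artin–Rees property. -/

set_option autoImplicit false
set_option backward.isDefEq.respectTransparency false
set_option backward.isDefEq.respectTransparency.types false
set_option backward.defeqAttrib.useBackward true
set_option linter.style.haveILetI false

universe u

open CategoryTheory CategoryTheory.Limits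

attribute [local instance] HasDerivedCategory.standard

namespace Groth.Agent.CAlgH3.DT

open Groth.Agent.CAlgH3.RGam Groth.Agent.CAlgH3.RGam.CechF Groth.Agent.CAlgH3.RGam.Lam Groth.Agent.CAlgH3.ExtCech

variable {A : Type u} [CommRing A] (I : Ideal A)

/-- A short exact sequence with the Artin–Rees property. -/
structure Good {X Y Z : ModuleCat.{u} A} (g : X ⟶ Y) (h : Y ⟶ Z) : Prop where
  inj : Function.Injective g.hom
  exact : Function.Exact g.hom h.hom
  surj : Function.Surjective h.hom
  ar : ∃ c : ℕ, ∀ (n : ℕ) (x : X), g.hom x ∈ (I ^ (n + c) • ⊤ : Submodule A Y) → x ∈ (I ^ n • ⊤ : Submodule A X)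

theorem good_of_finite [IsNoetherianRing A] {X Y Z : ModuleCat.{u} A} [Module.Finite A Y] (g : X ⟶ Y) (h : Y ⟶ Z)
    (hg : Function.Injective g.hom) (he : Function.Exact g.hom h.hom) (hh : Function.Surjective h.hom) :
    Good I g h where
  inj := hg
  exact := he
  surj := hh
  ar := by
    obtain ⟨c, hc⟩ := Ideal.exists_pow_inf_eq_pow_smul I (LinearMap.range g.hom)
    refine ⟨c, fun n x hx => ?_⟩
    have h1 : g.hom x ∈ (I ^ (n + c - c) • (I ^ c • ⊤ ⊓ LinearMap.range g.hom) : Submodule A Y) :=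
      (hc (n + c) (by omega)) ▸ ⟨hx, x, rfl⟩
    rw [Nat.add_sub_cancel] at h1
    have h2 : g.hom x ∈ Submodule.map g.hom (I ^ n • ⊤) := by
      rw [Submodule.map_smul'', Submodule.map_top]
      exact Submodule.smul_mono le_rfl inf_le_right h1
    obtain ⟨x', hx', he'⟩ := h2
    rwa [← hg he']

theorem lu_map (f : A) {M N : ModuleCat.{u} A} (g : M ⟶ N) (m : M) :
    ((loc f).map g).hom (((lu f).app M).hom m) = ((lu f).app N).hom (g.hom m) :=
  IsLocalizedModule.map_apply (Submonoid.powers f) (LocalizedModule.mkLinearMap (Submonoid.powers f) M)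
    (LocalizedModule.mkLinearMap (Submonoid.powers f) N) g.hom m

theorem exists_pow_smul_eq (f : A) {M : ModuleCat.{u} A} (y : (loc f).obj M) :
    ∃ (k : ℕ) (m : M), f ^ k • y = ((lu f).app M).hom m := by
  obtain ⟨⟨m, ⟨_, k, rfl⟩⟩, hm⟩ := IsLocalizedModule.surj (Submonoid.powers f)
    (LocalizedModule.mkLinearMap (Submonoid.powers f) M) y
  exact ⟨k, m, hm⟩

theorem mem_of_pow_smul_mem (f : A) {M : ModuleCat.{u} A} (P : Submodule A ((loc f).obj M))
    (hP : ∀ (v : ((loc f).obj M) →ₗ[A] ((loc f).obj M)), P ≤ P.comap v) {k : ℕ} {y : (loc f).obj M}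
    (hy : f ^ k • y ∈ P) : y ∈ P := by
  obtain ⟨u, hu⟩ := IsUnit.exists_right_inv (IsLocalizedModule.map_units
    (LocalizedModule.mkLinearMap (Submonoid.powers f) M) (⟨f ^ k, k, rfl⟩ : Submonoid.powers f))
  let v : Module.End A ((loc f).obj M) := u
  have hv : v (f ^ k • y) = y := by
    rw [map_smul]; exact congrArg (fun φ : Module.End A ((loc f).obj M) => φ y) hu
  rw [← hv]
  exact hP v hy

theorem Good.loc {X Y Z : ModuleCat.{u} A} {g : X ⟶ Y} {h : Y ⟶ Z} (H : Good I g h) (f : A) :
    Good I ((CechF.loc f).map g) ((CechF.loc f).map h) where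
  inj := IsLocalizedModule.map_injective (Submonoid.powers f) (LocalizedModule.mkLinearMap (Submonoid.powers f) X)
    (LocalizedModule.mkLinearMap (Submonoid.powers f) Y) g.hom H.inj
  exact := loc_map_exact f g h H.exact
  surj := IsLocalizedModule.map_surjective (Submonoid.powers f) (LocalizedModule.mkLinearMap (Submonoid.powers f) Y)
    (LocalizedModule.mkLinearMap (Submonoid.powers f) Z) h.hom H.surj
  ar := by
    obtain ⟨c, hc⟩ := H.ar
    refine ⟨c, fun n x hx => ?_⟩
    obtain ⟨k, m, hm⟩ := exists_pow_smul_eq f x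
    have key : ∀ y ∈ (I ^ (n + c) • ⊤ : Submodule A ((CechF.loc f).obj Y)), ∃ (l : ℕ) (w : Y),
        w ∈ (I ^ (n + c) • ⊤ : Submodule A Y) ∧ f ^ l • y = ((lu f).app Y).hom w := by
      intro y hy
      refine Submodule.smul_induction_on hy (fun a ha z _ => ?_) fun y z ⟨l, w, hw, e⟩ ⟨l', w', hw', e'⟩ => ?_
      · obtain ⟨l, w, e⟩ := exists_pow_smul_eq f z
        exact ⟨l, a • w, Submodule.smul_mem_smul ha Submodule.mem_top, by rw [smul_comm, e, map_smul]⟩
      · refine ⟨l + l', f ^ l' • w + f ^ l • w', add_mem (Submodule.smul_mem _ _ hw) (Submodule.smul_mem _ _ hw'), ?_⟩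
        rw [map_add, map_smul, map_smul, ← e, ← e', smul_add, pow_add, mul_smul, mul_smul, smul_comm (f ^ l) (f ^ l') y]
    obtain ⟨l, w, hw, e⟩ := key _ hx
    have e2 : ((lu f).app Y).hom (g.hom (f ^ l • m)) = ((lu f).app Y).hom (f ^ k • w) := by
      rw [map_smul, map_smul, map_smul, ← lu_map, ← hm, ← e, map_smul, smul_comm]
    obtain ⟨⟨_, j, rfl⟩, hj⟩ := (IsLocalizedModule.eq_iff_exists (Submonoid.powers f)
      (LocalizedModule.mkLinearMap (Submonoid.powers f) Y)).1 e2
    have hmem : g.hom (f ^ j • f ^ l • m) ∈ (I ^ (n + c) • ⊤ : Submodule A Y) := by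
      rw [map_smul, show f ^ j • g.hom (f ^ l • m) = f ^ j • f ^ k • w from hj]
      exact Submodule.smul_mem _ _ (Submodule.smul_mem _ _ hw)
    refine mem_of_pow_smul_mem f _ (fun v => Submodule.smul_top_le_comap_smul_top (I ^ n) v) (k := j + l + k) ?_
    rw [pow_add, pow_add, mul_smul, mul_smul, hm, ← map_smul, ← map_smul]
    exact Submodule.smul_top_le_comap_smul_top (I ^ n) ((lu f).app X).hom (hc n _ hmem)

theorem Good.lam_injective {X Y Z : ModuleCat.{u} A} {g : X ⟶ Y} {h : Y ⟶ Z} (H : Good I g h) :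
    Function.Injective ((Lam I).map g).hom := by
  obtain ⟨c, hc⟩ := H.ar
  refine (injective_iff_map_eq_zero _).2 fun x hx => AdicCompletion.ext fun n => ?_
  obtain ⟨m, hm⟩ := Submodule.Quotient.mk_surjective _ (x.val (n + c))
  have h1 : ((Lam I).map g).hom x = 0 := hx
  have h2 : (AdicCompletion.map I g.hom x).val (n + c) = 0 := congrArg (fun z => z.val (n + c)) h1
  rw [AdicCompletion.map_val_apply, ← hm] at h2
  have h3 : g.hom m ∈ (I ^ (n + c) • ⊤ : Submodule A Y) := (Submodule.Quotient.mk_eq_zero _).1 h2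
  rw [← x.2 (Nat.le_add_right n c), ← hm]
  exact (Submodule.Quotient.mk_eq_zero _).2 (hc n m h3)

theorem Good.lam_exact {X Y Z : ModuleCat.{u} A} {g : X ⟶ Y} {h : Y ⟶ Z} (H : Good I g h) :
    Function.Exact ((Lam I).map g).hom ((Lam I).map h).hom := by
  obtain ⟨c, hc⟩ := H.ar
  intro y
  constructor
  · intro hy
    have key : ∀ n, ∃ a : X, Submodule.Quotient.mk (g.hom a) = y.val n := by
      intro n
      obtain ⟨m, hm⟩ := Submodule.Quotient.mk_surjective _ (y.val n)
      have h1 : (AdicCompletion.map I h.hom y).val n = 0 := congrArg (fun z => z.val n) hy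
      rw [AdicCompletion.map_val_apply, ← hm] at h1
      have h2 : h.hom m ∈ (I ^ n • ⊤ : Submodule A Z) := (Submodule.Quotient.mk_eq_zero _).1 h1
      rw [show (⊤ : Submodule A Z) = Submodule.map h.hom ⊤ by
        rw [Submodule.map_top, LinearMap.range_eq_top.2 H.surj], ← Submodule.map_smul''] at h2
      obtain ⟨w, hw, hwe⟩ := h2
      obtain ⟨a, ha⟩ := (H.exact (m - w)).1 (by rw [map_sub, hwe, sub_self])
      refine ⟨a, ?_⟩
      rw [ha, ← hm, Submodule.Quotient.eq, sub_sub_cancel_left]
      exact neg_mem hw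
    choose a ha using key
    refine ⟨⟨fun n => Submodule.Quotient.mk (a (n + c)), fun {m n} hmn => ?_⟩, AdicCompletion.ext fun n => ?_⟩
    · show Submodule.Quotient.mk (a (n + c)) = Submodule.Quotient.mk (a (m + c))
      refine (Submodule.Quotient.eq _).2 (hc m _ ?_)
      rw [map_sub, ← Submodule.Quotient.eq, ha (m + c)]
      refine Eq.trans ?_ (y.2 (Nat.add_le_add_right hmn c))
      rw [← ha (n + c)]
      rfl
    · refine (AdicCompletion.map_val_apply _ _ _).trans ?_
      show Submodule.Quotient.mk (g.hom (a (n + c))) = y.val n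
      rw [← y.2 (Nat.le_add_right n c), ← ha (n + c)]
      rfl
  · rintro ⟨x, rfl⟩
    refine AdicCompletion.ext fun n => ?_
    obtain ⟨m, hm⟩ := Submodule.Quotient.mk_surjective _ (x.val n)
    show (AdicCompletion.map I h.hom (AdicCompletion.map I g.hom x)).val n = 0
    rw [AdicCompletion.map_val_apply, AdicCompletion.map_val_apply, ← hm]
    show Submodule.Quotient.mk (h.hom (g.hom m)) = 0
    rw [H.exact.apply_apply_eq_zero, Submodule.Quotient.mk_zero]

theorem Good.cech : ∀ (t : List A) {X Y Z : ModuleCat.{u} A} {g : X ⟶ Y} {h : Y ⟶ Z}, Good I g h → ∀ q : ℤ,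
    Function.Injective (((C t (Lam I)).map g).f q).hom ∧
      Function.Exact (((C t (Lam I)).map g).f q).hom (((C t (Lam I)).map h).f q).hom ∧
      Function.Surjective (((C t (Lam I)).map h).f q).hom
  | [], X, Y, Z, g, h, H, q => by
    rcases single_cases ((Lam I).obj Y) q with rfl | hs
    · refine ⟨fun x y e => ?_, fun y => ⟨fun hy => ?_, ?_⟩, fun z => ?_⟩
      · refine (s0 _).injective (H.lam_injective I ?_)
        rw [← s0_map ((Lam I).map g) x, ← s0_map ((Lam I).map g) y]
        exact congrArg _ e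
      · obtain ⟨x, hx⟩ := (H.lam_exact I (s0 _ y)).1
          ((s0_map ((Lam I).map h) y).symm.trans ((congrArg _ hy).trans (map_zero _)))
        obtain ⟨x', rfl⟩ := (s0 ((Lam I).obj X)).surjective x
        exact ⟨x', (s0 _).injective ((s0_map ((Lam I).map g) x').trans hx)⟩
      · rintro ⟨x, rfl⟩
        refine (s0 ((Lam I).obj Z)).injective ((s0_map ((Lam I).map h) _).trans ?_)
        rw [map_zero]
        exact (congrArg _ (s0_map ((Lam I).map g) x)).trans ((H.lam_exact I).apply_apply_eq_zero _)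
      · obtain ⟨y, hy⟩ := AdicCompletion.map_surjective (I := I) H.surj (s0 ((Lam I).obj Z) z)
        obtain ⟨y', rfl⟩ := (s0 ((Lam I).obj Y)).surjective y
        exact ⟨y', (s0 _).injective ((s0_map ((Lam I).map h) y').trans hy)⟩
    · have hq : q ≠ 0 ∨ Subsingleton ((Lam I).obj Y) := by
        rcases eq_or_ne q 0 with rfl | hq
        · haveI := hs
          exact Or.inr (s0 ((Lam I).obj Y)).symm.toEquiv.subsingleton
        · exact Or.inl hq
      refine ⟨fun x y _ => ?_, fun _ => ⟨fun _ => ⟨0, hs.elim _ _⟩, fun _ => ?_⟩, fun z => ⟨0, ?_⟩⟩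
      · rcases single_cases ((Lam I).obj X) q with rfl | hs'
        · haveI := hq.resolve_left fun h => h rfl
          exact (s0 _).injective (H.lam_injective I (Subsingleton.elim _ _))
        · exact hs'.elim _ _
      · rename_i b _
        rw [hs.elim b 0]
        exact map_zero _
      · rcases single_cases ((Lam I).obj Z) q with rfl | hs'
        · haveI : Subsingleton (AdicCompletion I Y) := hq.resolve_left fun h => h rfl
          obtain ⟨y, hy⟩ := AdicCompletion.map_surjective (I := I) H.surj (s0 ((Lam I).obj Z) z)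
          rw [Subsingleton.elim y 0, map_zero] at hy
          exact (s0 _).injective ((congrArg _ (map_zero _)).trans ((map_zero _).trans hy))
        · exact hs'.elim _ _
  | f :: t, X, Y, Z, g, h, H, q => by
    obtain ⟨i1, e1, s1⟩ := Good.cech t H q
    obtain ⟨i2, e2, s2⟩ := Good.cech t (H.loc I f) (q - 1)
    refine ⟨fun x y e => cocone_ext (step f t (Lam I) X) (show q - 1 + 1 = q by omega) (i1 ?_) (i2 ?_),
      fun y => ⟨fun hy => ?_, ?_⟩, fun z => ?_⟩
    · rw [← afst_map, ← afst_map, e]
    · rw [← asnd_map, ← asnd_map, e]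
    · obtain ⟨a, ha⟩ := (e1 (afst (step f t (Lam I) Y) y)).1 (by rw [← afst_map, hy]; exact afst_zero _)
      obtain ⟨b, hb⟩ := (e2 (asnd (step f t (Lam I) Y) (show q - 1 + 1 = q by omega) y)).1 (by
        rw [← asnd_map, hy]; exact asnd_zero _ _)
      refine ⟨amk (step f t (Lam I) X) (show q - 1 + 1 = q by omega) a b,
        cocone_ext (step f t (Lam I) Y) (show q - 1 + 1 = q by omega) ?_ ?_⟩
      · rw [afst_map, afst_amk, ha]
      · rw [asnd_map, asnd_amk, hb]
    · rintro ⟨x, rfl⟩
      refine cocone_ext (step f t (Lam I) Z) (show q - 1 + 1 = q by omega) ?_ ?_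
      · rw [afst_map, afst_map, e1.apply_apply_eq_zero]; exact (afst_zero _).symm
      · rw [asnd_map, asnd_map, e2.apply_apply_eq_zero]; exact (asnd_zero _ _).symm
    · obtain ⟨a, ha⟩ := s1 (afst (step f t (Lam I) Z) z)
      obtain ⟨b, hb⟩ := s2 (asnd (step f t (Lam I) Z) (show q - 1 + 1 = q by omega) z)
      refine ⟨amk (step f t (Lam I) Y) (show q - 1 + 1 = q by omega) a b,
        cocone_ext (step f t (Lam I) Z) (show q - 1 + 1 = q by omega) ?_ ?_⟩
      · rw [afst_map, afst_amk, ha]
      · rw [asnd_map, asnd_amk, hb]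

/-- Scalars acting on the coefficients act on the terms. -/
theorem actsAs : ∀ (t : List A) {M : ModuleCat.{u} A} (g : M ⟶ M) (a : A), (∀ m, g.hom m = a • m) →
    ∀ (q : ℤ) (x : ((C t (Lam I)).obj M).X q), (((C t (Lam I)).map g).f q).hom x = a • x
  | [], M, g, a, h, q, x => by
    rcases single_cases ((Lam I).obj M) q with rfl | hs
    · refine (s0 _).injective ((s0_map ((Lam I).map g) x).trans ?_)
      rw [map_smul]
      refine AdicCompletion.ext fun n => ?_
      generalize (s0 ((Lam I).obj M) x : AdicCompletion I M) = y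
      obtain ⟨m, hm⟩ := Submodule.Quotient.mk_surjective _ (y.val n)
      refine (AdicCompletion.map_val_apply _ _ _).trans ?_
      show _ = a • y.val n
      rw [← hm, ← Submodule.Quotient.mk_smul, ← h m]
      rfl
    · exact hs.elim _ _
  | f :: t, M, g, a, h, q, x => by
    have h' : ∀ y, ((CechF.loc f).map g).hom y = a • y := fun y => by
      obtain ⟨k, m, hm⟩ := exists_pow_smul_eq f y
      refine ((Module.End.isUnit_iff _).1 (IsLocalizedModule.map_units
        (LocalizedModule.mkLinearMap (Submonoid.powers f) M) (⟨f ^ k, k, rfl⟩ : Submonoid.powers f))).1 ?_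
      show f ^ k • ((CechF.loc f).map g).hom y = f ^ k • a • y
      rw [← map_smul, hm, lu_map, h, map_smul, smul_comm, hm]
    exact cocone_ext (step f t (Lam I) M) (show q - 1 + 1 = q by omega)
      (by rw [afst_map, afst_smul, actsAs t g a h q])
      (by rw [asnd_map, asnd_smul, actsAs t _ a h' (q - 1)])

theorem ofN_bijective_of_killed {M : ModuleCat.{u} A} (h : ∀ a ∈ I, ∀ m : M, a • m = 0) :
    Function.Bijective ((ofN I).app M).hom := by
  have hb : ∀ n : ℕ, 1 ≤ n → (I ^ n • ⊤ : Submodule A M) = ⊥ := fun n hn => eq_bot_iff.2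
    (Submodule.smul_le.2 fun a ha m _ => (Submodule.mem_bot A).2 (h a (Ideal.pow_le_self (by omega) ha) m))
  refine ⟨(injective_iff_map_eq_zero _).2 fun m hm => ?_, fun y => ?_⟩
  · have h1 : (Submodule.Quotient.mk m : M ⧸ (I ^ 1 • ⊤ : Submodule A M)) = 0 := congrArg (fun z => z.val 1) hm
    rw [Submodule.Quotient.mk_eq_zero, hb 1 le_rfl] at h1
    exact h1
  · obtain ⟨m, hm⟩ := Submodule.Quotient.mk_surjective _ (y.val 1)
    refine ⟨m, AdicCompletion.ext fun n => ?_⟩
    show Submodule.Quotient.mk m = y.val n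
    rcases Nat.eq_zero_or_pos n with rfl | hn
    · rw [← y.2 (Nat.zero_le 1), ← hm]
      rfl
    · obtain ⟨m', hm'⟩ := Submodule.Quotient.mk_surjective _ (y.val n)
      have h1 := y.2 (show 1 ≤ n from hn)
      rw [← hm', ← hm] at h1
      have h2 : m' - m ∈ (I ^ 1 • ⊤ : Submodule A M) := (Submodule.Quotient.eq _).1 h1
      rw [hb 1 le_rfl, Submodule.mem_bot, sub_eq_zero] at h2
      rw [← hm', h2]

theorem loc_killed (f : A) {M : ModuleCat.{u} A} (h : ∀ a ∈ I, ∀ m : M, a • m = 0) :
    ∀ a ∈ I, ∀ y : (CechF.loc f).obj M, a • y = 0 := fun a ha y => by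
  obtain ⟨k, m, hm⟩ := exists_pow_smul_eq f y
  refine ((Module.End.isUnit_iff _).1 (IsLocalizedModule.map_units
    (LocalizedModule.mkLinearMap (Submonoid.powers f) M) (⟨f ^ k, k, rfl⟩ : Submonoid.powers f))).1 ?_
  show f ^ k • a • y = f ^ k • (0 : (CechF.loc f).obj M)
  rw [smul_comm, hm, ← map_smul, h a ha, map_zero, smul_zero]

theorem cN_ofN_bijective : ∀ (t : List A) (M : ModuleCat.{u} A), (∀ a ∈ I, ∀ m : M, a • m = 0) →
    ∀ q : ℤ, Function.Bijective (((cN (ofN I) t).app M).f q).hom
  | [], M, h, q => by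
    rcases single_cases ((Lam I).obj M) q with rfl | hs
    · refine (Function.Bijective.of_comp_iff' (s0 ((Lam I).obj M)).bijective _).1 ?_
      have e : (s0 ((Lam I).obj M)) ∘ (((cN (ofN I) ([] : List A)).app M).f 0).hom = ((ofN I).app M).hom ∘ s0 M :=
        funext fun x => s0_map ((ofN I).app M) x
      exact e ▸ (ofN_bijective_of_killed I h).comp (s0 M).bijective
    · refine ⟨fun x y _ => ?_, fun y => ⟨0, hs.elim _ _⟩⟩
      rcases single_cases M q with rfl | hs'
      · haveI : Subsingleton ((Lam I).obj M) := (s0 ((Lam I).obj M)).symm.toEquiv.subsingleton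
        exact (s0 M).injective ((ofN_bijective_of_killed I h).1 (Subsingleton.elim _ _))
      · exact hs'.elim _ _
  | f :: t, M, h, q => by
    have h1 := cN_ofN_bijective t M h q
    have h2 := cN_ofN_bijective t ((CechF.loc f).obj M) (loc_killed I f h) (q - 1)
    refine ⟨fun x y hxy => cocone_ext (step f t (𝟭 _) M) (show q - 1 + 1 = q by omega) (h1.1 ?_) (h2.1 ?_),
      fun y => ?_⟩
    · rw [← afst_cN, ← afst_cN, hxy]
    · rw [← asnd_cN, ← asnd_cN, hxy]
    · obtain ⟨a, ha⟩ := h1.2 (afst (step f t (Lam I) M) y)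
      obtain ⟨b, hb⟩ := h2.2 (asnd (step f t (Lam I) M) (show q - 1 + 1 = q by omega) y)
      refine ⟨amk (step f t (𝟭 _) M) (show q - 1 + 1 = q by omega) a b,
        cocone_ext (step f t (Lam I) M) (show q - 1 + 1 = q by omega) ?_ ?_⟩
      · rw [afst_cN, afst_amk, ha]
      · rw [asnd_cN, asnd_amk, hb]

end Groth.Agent.CAlgH3.DT
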