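import Groth.Agent.CAlgH3.RGam.CechRlim
import Groth.Agent.CAlgH3.RGam.BaseChange
import Groth.Agent.DualLib.GammaHDI
import Groth.Agent.LocCoh.Local

/-! Annihilation of maps of local cohomology passes to the Čech complexes. -/

set_option autoImplicit false
set_option backward.isDefEq.respectTransparency false
set_option backward.isDefEq.respectTransparency.types false
set_option backward.defeqAttrib.useBackward true
set_option linter.style.haveILetI false

universe u

open CategoryTheory CategoryTheory.Limits CategoryTheory.Abelian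

attribute [local instance] HasDerivedCategory.standard

namespace Groth.Agent.CAlgH3.DT

open Groth.Agent.DualLib (S0)
open Groth.Agent.DualLib.GammaHDI (cyc toCx toCx_f GC shIso)
open Groth.Agent.CAlgH3.RGam

variable {A : Type u} [CommRing A] [IsNoetherianRing A] (J : Ideal A)

theorem isPowerTorsion_homology_single (n : ℕ) (i : ℤ) (j : ℤ) :
    LocCoh.IsPowerTorsion J
      (((CochainComplex.singleFunctor (ModuleCat.{u} A) i).obj (LocCoh.Q J n)).homology j) := fun y => by
  obtain ⟨z, rfl⟩ := cl_surjective _ j y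
  refine ⟨n, fun a ha => ?_⟩
  rw [← map_smul]
  refine (congrArg _ (Subtype.ext ?_)).trans (map_zero _)
  show a • (z.1 : ((CochainComplex.singleFunctor (ModuleCat.{u} A) i).obj (LocCoh.Q J n)).X j) = 0
  by_cases hji : j = i
  · subst hji
    apply (HomologicalComplex.singleObjXSelf (ComplexShape.up ℤ) j (LocCoh.Q J n)).toLinearEquiv.injective
    rw [map_smul, map_zero]
    obtain ⟨x, hx⟩ := Submodule.Quotient.mk_surjective (J ^ n)
      ((HomologicalComplex.singleObjXSelf (ComplexShape.up ℤ) j (LocCoh.Q J n)).toLinearEquiv z.1)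
    rw [← hx, ← Submodule.Quotient.mk_smul, Submodule.Quotient.mk_eq_zero]
    exact Ideal.mul_mem_right _ _ ha
  · haveI : Subsingleton (((CochainComplex.singleFunctor (ModuleCat.{u} A) i).obj (LocCoh.Q J n)).X j) :=
      ModuleCat.subsingleton_of_isZero
        (HomologicalComplex.isZero_single_obj_X (ComplexShape.up ℤ) i (LocCoh.Q J n) j hji)
    exact Subsingleton.elim _ _

/-- If `c` kills the map of local cohomology, it kills the map of Čech cohomology. -/
theorem kills_cech {t : List A} (ht : Ideal.ofList t = J) {N N' : ModuleCat.{u} A} (g : N ⟶ N') (i : ℕ) (c : A)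
    (h : ∀ a : _root_.LocCoh.H J i N, c • LocCoh.Hmap J i g.hom a = 0)
    (y : ((CechF.C t (𝟭 _)).obj N).homology (i : ℤ)) :
    c • (HomologicalComplex.homologyMap ((CechF.C t (𝟭 _)).map g) (i : ℤ)).hom y = 0 := by
  haveI := hasRgammaI (A := A) J
  obtain ⟨e, -⟩ := exists_compare J ht N
  obtain ⟨P, eP, hP, -, -⟩ := exists_model (DerivedCategory.Q.obj (single0 N))
  haveI := isIso_theta_kInj J P hP
  let ε₀ : DerivedCategory.Q.obj ((CechF.C t (𝟭 _)).obj N) ≅ DerivedCategory.Q.obj (GC J P) :=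
    e ≪≫ ((asIso (theta J P)) ≪≫ (DRing.RgammaI J).mapIso eP).symm
  let H := DerivedCategory.homologyFunctor (ModuleCat.{u} A) (i : ℤ)
  obtain ⟨z, hz⟩ := cl_surjective (GC J P) i (hdQ _ i ((H.map ε₀.hom).hom ((hdQ _ i).symm y)))
  obtain ⟨n, hn⟩ := (z.1 : DRing.torsionSub J (P.X (i : ℤ))).2
  let f : cyc (GC J P) (i : ℤ) (LocCoh.Q J n) :=
    ⟨Submodule.liftQ (J ^ n) (LinearMap.toSpanSingleton A _ z.1) fun a ha => Subtype.ext (hn a ha),
      Submodule.linearMap_qext _ (LinearMap.ext_ring (by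
        show ((GC J P).d (i : ℤ) ((i : ℤ) + 1)).hom ((1 : A) • z.1) = 0
        rw [one_smul]
        exact z.2))⟩
  let φ := DerivedCategory.Q.map (toCx f) ≫ ε₀.inv
  let ν := (SingleFunctors.evaluation _ _ 0).mapIso (DerivedCategory.singleFunctorsPostcompQIso (ModuleCat.{u} A))
  let αN := DerivedCategory.Q.map (aug (𝟭 _) t N) ≫ (ν.app N).inv
  let αN' := DerivedCategory.Q.map (aug (𝟭 _) t N') ≫ (ν.app N').inv
  let x : (S0 A).obj (LocCoh.Q J n) ⟶ ((S0 A).obj N)⟦(i : ℤ)⟧ := (shIso (i : ℤ) (LocCoh.Q J n)).inv ≫ (φ ≫ αN)⟦(i : ℤ)⟧'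
  let X : Ext (LocCoh.Q J n) N i := (Ext.homLinearEquiv (R := A)).symm x
  have h0 := h (LocCoh.cls n i X)
  rw [LocCoh.Hmap_cls, ← map_smul, LocCoh.cls_eq_zero_iff] at h0
  obtain ⟨m, hm, h1⟩ := h0
  have h2 : (S0 A).map (LocCoh.qmap J hm) ≫ (c • (x ≫ ((S0 A).map g)⟦(i : ℤ)⟧')) = 0 := by
    have h3 := congrArg Ext.hom h1
    rw [Ext.comp_hom, Ext.smul_hom, Ext.comp_hom, Ext.mk₀_hom, Ext.mk₀_hom, ShiftedHom.mk₀_comp,
      ShiftedHom.comp_mk₀, Ext.zero_hom, show X.hom = x from (Ext.homLinearEquiv (R := A)).apply_symm_apply x] at h3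
    exact h3
  have h4 : DerivedCategory.Q.map ((CochainComplex.singleFunctor (ModuleCat.{u} A) (i : ℤ)).map (LocCoh.qmap J hm)) ≫
      (c • (φ ≫ αN ≫ (S0 A).map g)) = 0 := by
    apply (shiftFunctor (Dual.D A) (i : ℤ)).map_injective
    rw [Functor.map_zero, ← cancel_epi (shIso (i : ℤ) (LocCoh.Q J m)).inv, comp_zero, ← h2]
    have n1 := ((DerivedCategory.singleFunctors (ModuleCat.{u} A)).shiftIso (i : ℤ) 0 (i : ℤ) (by omega)).inv.naturality
      (LocCoh.qmap J hm)
    simp only [x, Functor.map_comp, Functor.map_smul, Linear.comp_smul, Category.assoc]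
    refine congrArg (c • ·) ?_
    rw [← Category.assoc, ← Category.assoc ((S0 A).map _)]
    exact congrArg (· ≫ _) n1.symm
  have hnat : αN ≫ (S0 A).map g = DerivedCategory.Q.map ((CechF.C t (𝟭 _)).map g) ≫ αN' := by
    have n2 := ν.inv.naturality g
    simp only [αN, αN', Category.assoc]
    refine (congrArg (DerivedCategory.Q.map (aug (𝟭 _) t N) ≫ ·) n2.symm).trans ?_
    rw [← Category.assoc, ← Category.assoc]
    refine congrArg (· ≫ _) ?_
    erw [← DerivedCategory.Q.map_comp, ← DerivedCategory.Q.map_comp, aug_map]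
    rfl
  have h5 : DerivedCategory.Q.map ((CochainComplex.singleFunctor (ModuleCat.{u} A) (i : ℤ)).map (LocCoh.qmap J hm)) ≫
      (c • (φ ≫ DerivedCategory.Q.map ((CechF.C t (𝟭 _)).map g))) = 0 := by
    refine (bijective_comp_aug J t (fun r hr => ht ▸ Ideal.subset_span hr) N'
      ((tors_Q_iff _).2 (isPowerTorsion_homology_single J m i))).1 ?_
    dsimp only
    rw [zero_comp, ← cancel_mono (ν.app N').inv, zero_comp]
    rw [hnat] at h4
    simp only [αN', Linear.comp_smul, Linear.smul_comp, Category.assoc] at h4 ⊢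
    exact h4
  let o : cyc (GC J P) (i : ℤ) (ModuleCat.of A A) := ⟨LinearMap.toSpanSingleton A _ z.1, LinearMap.ext_ring (by
    show ((GC J P).d (i : ℤ) ((i : ℤ) + 1)).hom ((1 : A) • z.1) = 0
    rw [one_smul]
    exact z.2)⟩
  let q : ModuleCat.of A A ⟶ LocCoh.Q J m := ModuleCat.ofHom (J ^ m).mkQ
  have ho : toCx o = (CochainComplex.singleFunctor (ModuleCat.{u} A) (i : ℤ)).map q ≫
      (CochainComplex.singleFunctor (ModuleCat.{u} A) (i : ℤ)).map (LocCoh.qmap J hm) ≫ toCx f :=
    HomologicalComplex.from_single_hom_ext (by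
      rw [HomologicalComplex.comp_f, HomologicalComplex.comp_f, toCx_f, toCx_f]
      erw [HomologicalComplex.single_map_f_self, HomologicalComplex.single_map_f_self]
      simp only [Category.assoc, Iso.inv_hom_id_assoc]
      rfl)
  have h6 : c • (DerivedCategory.Q.map (toCx o) ≫ ε₀.inv ≫ DerivedCategory.Q.map ((CechF.C t (𝟭 _)).map g)) = 0 := by
    have h7 := congrArg (DerivedCategory.Q.map ((CochainComplex.singleFunctor (ModuleCat.{u} A) (i : ℤ)).map q) ≫ ·) h5
    simp only [comp_zero, φ, Linear.comp_smul, Category.assoc] at h7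
    rw [ho, Functor.map_comp, Functor.map_comp]
    simp only [Category.assoc]
    exact h7
  let S := (CochainComplex.singleFunctor (ModuleCat.{u} A) (i : ℤ)).obj (ModuleCat.of A A)
  let one : LinearMap.ker (S.d (i : ℤ) ((i : ℤ) + 1)).hom :=
    ⟨(HomologicalComplex.singleObjXSelf (ComplexShape.up ℤ) (i : ℤ) (ModuleCat.of A A)).inv.hom (1 : A), by
      rw [LinearMap.mem_ker, show S.d (i : ℤ) ((i : ℤ) + 1) = 0 from HomologicalComplex.single_obj_d _ _ _ _ _]
      rfl⟩
  have hval : (HomologicalComplex.homologyMap (toCx o) (i : ℤ)).hom (cl S i one) = cl (GC J P) i z := by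
    rw [homologyMap_cl]
    refine congrArg _ (Subtype.ext ?_)
    show ((toCx o).f (i : ℤ)).hom one.1 = z.1
    rw [toCx_f]
    show o.1 ((HomologicalComplex.singleObjXSelf (ComplexShape.up ℤ) (i : ℤ) (ModuleCat.of A A)).hom.hom
      ((HomologicalComplex.singleObjXSelf (ComplexShape.up ℤ) (i : ℤ) (ModuleCat.of A A)).inv.hom 1)) = z.1
    rw [Iso.inv_hom_id_apply]
    exact one_smul A _
  have hy : (H.map (DerivedCategory.Q.map (toCx o))).hom ((hdQ _ i).symm (cl S i one)) =
      (H.map ε₀.hom).hom ((hdQ _ i).symm y) := by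
    have n3 := congrArg (fun φ => φ.hom ((hdQ S i).symm (cl S i one)))
      ((DerivedCategory.homologyFunctorFactors (ModuleCat.{u} A) (i : ℤ)).hom.naturality (toCx o))
    apply (hdQ (GC J P) i).injective
    refine n3.trans ?_
    show (HomologicalComplex.homologyMap (toCx o) (i : ℤ)).hom (hdQ S i ((hdQ S i).symm (cl S i one))) = _
    rw [LinearEquiv.apply_symm_apply, hval, hz]
  have h8 := congrArg (fun φ => (H.map φ).hom ((hdQ _ i).symm (cl S i one))) h6
  rw [← Category.comp_id (DerivedCategory.Q.map (toCx o) ≫ ε₀.inv ≫ _), ← Linear.comp_smul, H.map_comp,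
    H.map_comp, H.map_comp, DCat.DC.homologyFunctor_map_smul_id, H.map_zero] at h8
  have h9 : c • (H.map (DerivedCategory.Q.map ((CechF.C t (𝟭 _)).map g))).hom ((hdQ _ i).symm y) = 0 := by
    refine Eq.trans ?_ h8
    show _ = c • (H.map (DerivedCategory.Q.map ((CechF.C t (𝟭 _)).map g))).hom
      ((H.map ε₀.inv).hom ((H.map (DerivedCategory.Q.map (toCx o))).hom _))
    rw [hy]
    exact congrArg (fun w => c • (H.map _).hom w)
      (congrArg (fun φ : _ ⟶ H.obj _ => φ.hom ((hdQ _ (i : ℤ)).symm y)) (H.mapIso ε₀).hom_inv_id).symm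
  have n4 := congrArg (fun φ => φ.hom ((hdQ _ i).symm y))
    ((DerivedCategory.homologyFunctorFactors (ModuleCat.{u} A) (i : ℤ)).hom.naturality ((CechF.C t (𝟭 _)).map g))
  have n5 : hdQ ((CechF.C t (𝟭 _)).obj N') i ((H.map (DerivedCategory.Q.map ((CechF.C t (𝟭 _)).map g))).hom
      ((hdQ _ i).symm y)) = (HomologicalComplex.homologyMap ((CechF.C t (𝟭 _)).map g) (i : ℤ)).hom y := by
    refine n4.trans ?_
    show (HomologicalComplex.homologyMap ((CechF.C t (𝟭 _)).map g) (i : ℤ)).hom
      (hdQ ((CechF.C t (𝟭 _)).obj N) i ((hdQ ((CechF.C t (𝟭 _)).obj N) i).symm y)) = _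
    rw [LinearEquiv.apply_symm_apply]
  rw [← n5, ← map_smul, h9, map_zero]

end Groth.Agent.CAlgH3.DT
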