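import Groth.Agent.CAlgH3.DT.Main
import Groth.Agent.CAlgH3.LocCohSupportFin
import Groth.Agent.DualLib.LocalDepth

/-! The annihilator theorem for modules. -/

set_option autoImplicit false
set_option backward.isDefEq.respectTransparency false
set_option backward.defeqAttrib.useBackward true
set_option linter.style.haveILetI false

universe u

open CategoryTheory CategoryTheory.Limits Opposite CategoryTheory.Abelian

attribute [local instance] HasDerivedCategory.standard

namespace Groth.Agent.CAlgH3.DT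

open Groth.Agent.DualLib
open Groth.Agent.LocCoh (toH toH_eq_zero_iff exists_toH descH descH_toH quot)

variable {A : Type u} [CommRing A] {T : Set (PrimeSpectrum A)}

theorem exists_zero (K : Dual.D A) (i : ℤ) {n : (Dual2.IdealsIn T)ᵒᵖ}
    (z : ((localCohomology.ringModIdeals (Dual2.idealsInDiagram T) ⋙
      DerivedCategory.singleFunctor (ModuleCat.{u} A) 0).op ⋙ (linearYoneda A (Dual.D A)).obj (K⟦i⟧)).obj n)
    (hz : (colimit.ι ((localCohomology.ringModIdeals (Dual2.idealsInDiagram T) ⋙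
      DerivedCategory.singleFunctor (ModuleCat.{u} A) 0).op ⋙ (linearYoneda A (Dual.D A)).obj (K⟦i⟧)) n).hom z = 0) :
    ∃ (I : Dual2.IdealsIn T) (w : I ⟶ n.unop),
      (S0 A).map ((localCohomology.ringModIdeals (Dual2.idealsInDiagram T)).map w) ≫ z = 0 := by
  haveI := isFiltered (A := A) T
  haveI : PreservesFilteredColimitsOfSize.{u, u} (forget AddCommGrpCat.{u + 1}) :=
    preservesFilteredColimitsOfSize_shrink.{u, u + 1, u, u + 1} (forget AddCommGrpCat.{u + 1})
  haveI : PreservesColimitsOfShape (Dual2.IdealsIn T)ᵒᵖ (forget AddCommGrpCat.{u + 1}) :=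
    PreservesFilteredColimitsOfSize.preserves_filtered_colimits _
  haveI : PreservesColimitsOfShape (Dual2.IdealsIn T)ᵒᵖ (forget (ModuleCat.{u + 1} A)) :=
    comp_preservesColimitsOfShape (forget₂ (ModuleCat.{u + 1} A) AddCommGrpCat.{u + 1}) (forget AddCommGrpCat.{u + 1})
  obtain ⟨k, f, g, h⟩ := (Concrete.colimit_rep_eq_iff_exists _ (i := n) (j := n) z 0).1 (hz.trans (map_zero _).symm)
  exact ⟨k.unop, f.unop, h.trans (map_zero _)⟩

/-- `Dual2.HT` is the cohomology with supports of the module as a complex. -/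
theorem nonempty_HT_HDT (M : Type u) [AddCommGroup M] [Module A M] (i : ℕ) :
    Nonempty (Dual2.HT T i M ≃ₗ[A] Dual2.HDT A T (Dual.inD A M) (i : ℤ)) := by
  haveI : (Dual.inD A M).IsGE 0 := inferInstance
  obtain ⟨J, -, hJK, -, ⟨e⟩⟩ := exists_model (Dual.inD A M) 0 ((DRingLib.isGE_iff_HD _ 0).1 inferInstance)
  haveI := hJK
  obtain ⟨Φ⟩ := nonempty_HDT_equiv (i := (i : ℤ)) T e
  let G := (localCohomology.ringModIdeals (Dual2.idealsInDiagram T) ⋙
      DerivedCategory.singleFunctor (ModuleCat.{u} A) 0).op ⋙ (linearYoneda A (Dual.D A)).obj ((Dual.inD A M)⟦(i : ℤ)⟧)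
  let F := Dual2.idealsInDiagram T
  let φ : ∀ d : Dual2.IdealsIn T, Ext (quot F d) (ModuleCat.of A M) i →ₗ[A] Hc T J (i : ℤ) := fun d =>
    Φ.toLinearMap ∘ₗ (colimit.ι G (op d)).hom ∘ₗ
      (Ext.homLinearEquiv (R := A) (X := quot F d) (Y := ModuleCat.of A M) (n := i)).toLinearMap
  have hpre : ∀ {d d' : Dual2.IdealsIn T} (w : d' ⟶ d) (x : Ext (quot F d) (ModuleCat.of A M) i),
      Ext.homLinearEquiv (R := A) ((Ext.mk₀ ((localCohomology.ringModIdeals F).map w)).comp x (zero_add i)) =
        (S0 A).map ((localCohomology.ringModIdeals F).map w) ≫ Ext.homLinearEquiv (R := A) x := fun w x => by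
    show ((Ext.mk₀ _).comp x _).hom = _
    rw [Ext.comp_hom, Ext.mk₀_hom, ShiftedHom.mk₀_comp]
    rfl
  have hφ : ∀ {d d' : Dual2.IdealsIn T} (w : d' ⟶ d) (x : Ext (quot F d) (ModuleCat.of A M) i),
      φ d' ((Ext.mk₀ ((localCohomology.ringModIdeals F).map w)).comp x (zero_add i)) = φ d x := fun {d d'} w x => by
    refine congrArg Φ ?_
    show (colimit.ι G (op d')).hom (Ext.homLinearEquiv (R := A) _) = (colimit.ι G (op d)).hom (Ext.homLinearEquiv (R := A) x)
    rw [hpre, ← colimit.w G w.op]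
    rfl
  let Ψ := descH (F := F) φ hφ
  have hΨ : ∀ d x, Ψ (toH d i (ModuleCat.of A M) x) = φ d x := fun d x => descH_toH φ hφ d x
  refine ⟨(LinearEquiv.ofBijective Ψ ⟨(injective_iff_map_eq_zero _).2 fun h hh => ?_, fun y => ?_⟩).trans Φ.symm⟩
  · obtain ⟨d, x, rfl⟩ := exists_toH h
    rw [hΨ] at hh
    obtain ⟨I, w, hw⟩ := exists_zero _ _ _ (Φ.injective (hh.trans (map_zero Φ).symm))
    refine (toH_eq_zero_iff x).2 ⟨I, w, (Ext.homLinearEquiv (R := A)).injective ?_⟩
    rw [hpre, map_zero]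
    exact hw
  · obtain ⟨z, rfl⟩ := Φ.surjective y
    obtain ⟨n, z, rfl⟩ := exists_rep T _ _ z
    let η := Ext.homLinearEquiv (R := A) (X := quot F n.unop) (Y := ModuleCat.of A M) (n := i)
    refine ⟨toH n.unop i (ModuleCat.of A M) (η.symm z), (hΨ _ _).trans ?_⟩
    show Φ ((colimit.ι G (op n.unop)).hom (η (η.symm z))) = _
    rw [LinearEquiv.apply_symm_apply]

theorem kills_HT_iff (M : Type u) [AddCommGroup M] [Module A M] (s : ℕ) {a : A} :
    (∀ i : ℕ, i ≤ s → ∀ x : Dual2.HT T i M, a • x = 0) ↔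
      ∀ i : ℤ, i ≤ (s : ℤ) → ∀ x : Dual2.HDT A T (Dual.inD A M) i, a • x = 0 := by
  constructor
  · intro h i hi
    by_cases h0 : i < 0
    · obtain ⟨J, hJ0, hJK, -, ⟨e⟩⟩ := exists_model (Dual.inD A M) 0 ((DRingLib.isGE_iff_HD _ 0).1 inferInstance)
      haveI := hJK
      haveI := hJ0 i h0
      exact (kills_HDT_iff T e).2 (kt_of_subsingleton a)
    · lift i to ℕ using (by omega)
      obtain ⟨Ψ⟩ := nonempty_HT_HDT (T := T) M i
      exact fun x => Ψ.symm.injective (by rw [map_smul, h i (by exact_mod_cast hi), map_zero])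
  · intro h i hi x
    obtain ⟨Ψ⟩ := nonempty_HT_HDT (T := T) M i
    exact Ψ.injective (by rw [map_smul, h i (by exact_mod_cast hi), map_zero])

theorem finite_HD_inD (M : Type u) [AddCommGroup M] [Module A M] [Module.Finite A M] [IsNoetherianRing A] (j : ℤ) :
    Module.Finite A (Dual.HD A (Dual.inD A M) j) := by
  obtain ⟨c, d, hge, hle, hfin⟩ := isSmall_inD (A := A) M
  exact hfin j

/-- From supports in `V(I)` to the local cohomology of `I`. -/
theorem kills_H_of_kills_HT [IsNoetherianRing A] (I : Ideal A) (i : ℕ) (M : Type u) [AddCommGroup M] [Module A M]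
    {a : A} (h : ∀ x : Dual2.HT (PrimeSpectrum.zeroLocus (I : Set A)) i M, a • x = 0)
    (x : _root_.LocCoh.H I i M) : a • x = 0 := by
  obtain ⟨d, x, rfl⟩ := exists_toH (F := localCohomology.idealPowersDiagram I) x
  let d' : Dual2.IdealsIn (PrimeSpectrum.zeroLocus (I : Set A)) :=
    ⟨I ^ d.unop, LocCohSupportFin.zeroLocus_pow_subset _ le_rfl _⟩
  have h0 := h (toH (F := Dual2.idealsInDiagram _) d' i (ModuleCat.of A M) x)
  let x' : Ext (quot (Dual2.idealsInDiagram (PrimeSpectrum.zeroLocus (I : Set A))) d') (ModuleCat.of A M) i := x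
  have h1 : toH (F := Dual2.idealsInDiagram (PrimeSpectrum.zeroLocus (I : Set A))) d' i (ModuleCat.of A M) (a • x') = 0 :=
    (map_smul _ a x').trans h0
  obtain ⟨J, w, hw⟩ := (toH_eq_zero_iff (F := Dual2.idealsInDiagram (PrimeSpectrum.zeroLocus (I : Set A))) (a • x')).1 h1
  obtain ⟨m, hm⟩ : ∃ m, I ^ m ≤ J.obj := Ideal.exists_pow_le_of_le_radical_of_fg
    ((Ideal.le_radical).trans ((PrimeSpectrum.zeroLocus_subset_zeroLocus_iff J.obj I).1 J.property |> fun h' =>
      Ideal.radical_le_radical_iff.2 h')) (IsNoetherian.noetherian _)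
  let k : ℕᵒᵖ := op (max d.unop m)
  let w' : k ⟶ d := (homOfLE (le_max_left d.unop m)).op
  let g : quot (localCohomology.idealPowersDiagram I) k ⟶ quot (Dual2.idealsInDiagram _) J :=
    ModuleCat.ofHom (Submodule.mapQ (I ^ (max d.unop m)) J.obj LinearMap.id
      fun z hz => hm (Ideal.pow_le_pow_right (le_max_right _ _) hz))
  refine (map_smul _ a x).symm.trans ((toH_eq_zero_iff _).2 ⟨k, w', ?_⟩)
  have : (localCohomology.ringModIdeals (localCohomology.idealPowersDiagram I)).map w' =
      g ≫ (localCohomology.ringModIdeals (Dual2.idealsInDiagram _)).map w :=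
    ModuleCat.hom_ext (Submodule.linearMap_qext _ (LinearMap.ext fun z => rfl))
  rw [this, ← Ext.mk₀_comp_mk₀, Ext.comp_assoc_of_second_deg_zero, hw, Ext.comp_zero]

variable [IsNoetherianRing A] {ω : Dual.D A} (hω : Dual.IsDualizing A ω)
include hω

theorem krullDim_Icc {p q : PrimeSpectrum A} (hpq : p ≤ q) :
    Order.krullDim (Set.Icc p q) = (((deg hω q - deg hω p).toNat : ℕ) : WithBot ℕ∞) := by
  refine le_antisymm (iSup_le fun t => ?_) ?_
  · let t' : LTSeries (PrimeSpectrum A) := t.map Subtype.val (fun _ _ h => h)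
    have h1 := deg_add_length hω t'
    have h2 : deg hω p ≤ deg hω t'.head := deg_mono hω t.head.2.1
    have h3 : deg hω t'.last ≤ deg hω q := deg_mono hω t.last.2.2
    have h4 : t'.length = t.length := rfl
    exact_mod_cast (show t.length ≤ (deg hω q - deg hω p).toNat by omega)
  · obtain ⟨t, hh, hl, hlen⟩ := exists_series_deg hω hpq
    let t' : LTSeries (Set.Icc p q) := LTSeries.mk t.length
      (fun j => ⟨t j, hh ▸ t.monotone (Fin.zero_le j), hl ▸ t.monotone (Fin.le_last j)⟩)
      (fun a b hab => t.strictMono hab)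
    refine le_trans ?_ (le_iSup _ t')
    exact_mod_cast (show (deg hω q - deg hω p).toNat ≤ t.length by omega)

/-- The vanishing condition is the depth inequality. -/
theorem depth_condition_iff (M : Type u) [AddCommGroup M] [Module A M] [Module.Finite A M] {p q : PrimeSpectrum A}
    (hpq : p ≤ q) (s : ℕ) :
    ((s : WithBot ℕ∞) < ((_root_.LocCoh.depth (Localization.AtPrime p.asIdeal)
        (LocalizedModule p.asIdeal.primeCompl M) : ℕ∞) : WithBot ℕ∞) + Order.krullDim (Set.Icc p q)) ↔
      ∀ i : ℤ, i ≤ (s : ℤ) → ∀ j : ℤ, j = deg hω q - i →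
        ∀ θ : Dual.inD A M ⟶ ω⟦j⟧, ∃ t ∉ p.asIdeal, t • θ = 0 := by
  have hd := deg_mono hω hpq
  rw [krullDim_Icc hω hpq]
  by_cases hp : p ∈ Module.support A M
  · obtain ⟨n, hn⟩ : ∃ n : ℕ, _root_.LocCoh.depth (Localization.AtPrime p.asIdeal)
        (LocalizedModule p.asIdeal.primeCompl M) = n := by
      haveI : Nontrivial (LocalizedModule p.asIdeal.primeCompl M) := hp
      haveI : Module.Finite (Localization.AtPrime p.asIdeal) (LocalizedModule p.asIdeal.primeCompl M) :=
        Module.Finite.of_isLocalizedModule p.asIdeal.primeCompl (LocalizedModule.mkLinearMap p.asIdeal.primeCompl M)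
      exact ENat.ne_top_iff_exists.1 (CAlgH3.depth_lt_top.ne) |>.imp fun n h => h.symm
    obtain ⟨hvan, htop⟩ := localDepth_spec hω p n M hp hn
    rw [hn]
    constructor
    · intro h i hi j hj θ
      have h' : s < n + (deg hω q - deg hω p).toNat := by exact_mod_cast h
      exact Module.notMem_support_iff'.1 (hvan j (by omega)) θ
    · intro h
      suffices h' : s < n + (deg hω q - deg hω p).toNat by exact_mod_cast h'
      by_contra hle
      exact Module.notMem_support_iff'.2 (h (deg hω q - deg hω p + n) (by omega) (deg hω p - n) (by omega)) htop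
  · haveI : Subsingleton (LocalizedModule p.asIdeal.primeCompl M) :=
      not_nontrivial_iff_subsingleton.1 hp
    rw [CAlgH3.depth_eq_top_of_subsingleton]
    refine ⟨fun _ i _ j _ θ => Module.notMem_support_iff'.1
      (notMem_support_of_kills (annihilator_le_annihilator ω j) fun hle => hp (Module.mem_support_iff_of_finite.2 hle)) θ,
      fun _ => ?_⟩
    exact WithBot.coe_lt_coe.2 (show (s : ℕ∞) < ⊤ + _ by rw [top_add]; exact ENat.coe_lt_top s)

/-- The annihilator theorem for modules. -/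
theorem annihilator_theorem_module (hT : StableUnderSpecialization T) {T' : Set (PrimeSpectrum A)}
    (hT' : StableUnderSpecialization T') (s : ℕ) (M : Type u) [AddCommGroup M] [Module A M] [Module.Finite A M] :
    (∃ J : Ideal A, PrimeSpectrum.zeroLocus (J : Set A) ⊆ T' ∧ ∀ i : ℕ, i ≤ s → ∀ a ∈ J, ∀ x : Dual2.HT T i M,
      a • x = 0) ↔ (∀ p q : PrimeSpectrum A, p ∉ T' → q ∈ T → p ≤ q → (s : WithBot ℕ∞) <
        ((_root_.LocCoh.depth (Localization.AtPrime p.asIdeal) (LocalizedModule p.asIdeal.primeCompl M) : ℕ∞) :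
          WithBot ℕ∞) + Order.krullDim (Set.Icc p q)) := by
  have h := annihilator_theorem (s := (s : ℤ)) hT hω (K := Dual.inD A M) (finite_HD_inD M) 0
    ((DRingLib.isGE_iff_HD _ 0).1 inferInstance) hT'
  constructor
  · rintro ⟨J, hJ, hk⟩ p q hp hq hpq
    exact (depth_condition_iff hω M hpq s).2 (h.1 ⟨J, hJ, fun i hi a ha =>
      (kills_HT_iff M s).1 (fun j hj => hk j hj a ha) i hi⟩ p q hpq hp hq)
  · intro hc
    obtain ⟨J, hJ, hk⟩ := h.2 fun p q hpq hp hq => (depth_condition_iff hω M hpq s).1 (hc p q hp hq hpq)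
    exact ⟨J, hJ, fun i hi a ha => (kills_HT_iff M s).2 (fun j hj => hk j hj a ha) i hi⟩

end Groth.Agent.CAlgH3.DT
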