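import Groth.Agent.CAlgH3.DT.CechKill
import Groth.Agent.CAlgH3.DT.PHT
import Groth.Agent.CAlgH3.DT.Module
import Groth.Agent.DualLib.CxDualityHDI
import Groth.Agent.Matlis6.Local
import Groth.Agent.Matlis6.HullExistence
import Mathlib.Algebra.Module.LocalizedModule.Exact

/-! Torsion in the completed Čech complex. -/

set_option autoImplicit false
set_option backward.isDefEq.respectTransparency false
set_option backward.isDefEq.respectTransparency.types false
set_option backward.defeqAttrib.useBackward true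
set_option linter.style.haveILetI false

universe u

open CategoryTheory CategoryTheory.Limits

attribute [local instance] HasDerivedCategory.standard

namespace Groth.Agent.CAlgH3.DT

open Groth.Agent.CAlgH3.RGam Groth.Agent.CAlgH3.RGam.CechF Groth.Agent.CAlgH3.RGam.Lam Groth.Agent.CAlgH3.ExtCech
open PHT (pw inc)

variable {A : Type u} [CommRing A]

theorem loc_map_exact (f : A) {M N P : ModuleCat.{u} A} (g : M ⟶ N) (h : N ⟶ P)
    (hgh : Function.Exact g.hom h.hom) :
    Function.Exact ((CechF.loc f).map g).hom ((CechF.loc f).map h).hom :=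
  IsLocalizedModule.map_exact (Submonoid.powers f) (LocalizedModule.mkLinearMap (Submonoid.powers f) M)
    (LocalizedModule.mkLinearMap (Submonoid.powers f) N) (LocalizedModule.mkLinearMap (Submonoid.powers f) P) _ _ hgh

theorem C_map_exact : ∀ (t : List A) {M N P : ModuleCat.{u} A} (g : M ⟶ N) (h : N ⟶ P),
    Function.Exact g.hom h.hom → ∀ q : ℤ,
      Function.Exact (((C t (𝟭 _)).map g).f q).hom (((C t (𝟭 _)).map h).f q).hom
  | [], M, N, P, g, h, hgh, q => fun y => by
    rcases single_cases N q with rfl | hs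
    · constructor
      · intro hy
        obtain ⟨x, hx⟩ := (hgh (s0 N y)).1 ((s0_map h y).symm.trans ((congrArg _ hy).trans (map_zero _)))
        obtain ⟨x', rfl⟩ := (s0 M).surjective x
        exact ⟨x', (s0 N).injective ((s0_map g x').trans hx)⟩
      · rintro ⟨x, rfl⟩
        refine (s0 P).injective ((s0_map h _).trans ?_)
        rw [map_zero]
        exact (congrArg _ (s0_map g x)).trans (hgh.apply_apply_eq_zero _)
    · exact ⟨fun _ => ⟨0, hs.elim _ _⟩, fun _ => by rw [hs.elim y 0]; exact map_zero _⟩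
  | f :: t, M, N, P, g, h, hgh, q => fun y => by
    have h1 := C_map_exact t g h hgh q
    have h2 := C_map_exact t _ _ (loc_map_exact f g h hgh) (q - 1)
    constructor
    · intro hy
      obtain ⟨a, ha⟩ := (h1 (afst (step f t (𝟭 _) N) y)).1 (by rw [← afst_map, hy]; exact afst_zero _)
      obtain ⟨b, hb⟩ := (h2 (asnd (step f t (𝟭 _) N) (show q - 1 + 1 = q by omega) y)).1 (by
        rw [← asnd_map, hy]; exact asnd_zero _ _)
      refine ⟨amk (step f t (𝟭 _) M) (show q - 1 + 1 = q by omega) a b,
        cocone_ext (step f t (𝟭 _) N) (show q - 1 + 1 = q by omega) ?_ ?_⟩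
      · rw [afst_map, afst_amk, ha]
      · rw [asnd_map, asnd_amk, hb]
    · rintro ⟨x, rfl⟩
      refine cocone_ext (step f t (𝟭 _) P) (show q - 1 + 1 = q by omega) ?_ ?_
      · rw [afst_map, afst_map, h1.apply_apply_eq_zero]; exact (afst_zero _).symm
      · rw [asnd_map, asnd_map, h2.apply_apply_eq_zero]; exact (asnd_zero _ _).symm

theorem C_map_injective : ∀ (t : List A) {M N : ModuleCat.{u} A} (g : M ⟶ N),
    Function.Injective g.hom → ∀ q : ℤ, Function.Injective (((C t (𝟭 _)).map g).f q).hom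
  | [], M, N, g, hg, q, x, y, hxy => by
    rcases single_cases M q with rfl | hs
    · refine (s0 M).injective (hg ?_)
      rw [← s0_map g x, ← s0_map g y]
      exact congrArg _ hxy
    · exact hs.elim _ _
  | f :: t, M, N, g, hg, q, x, y, hxy => cocone_ext (step f t (𝟭 _) M) (show q - 1 + 1 = q by omega)
      (C_map_injective t g hg q (by rw [← afst_map, ← afst_map, hxy]))
      (C_map_injective t ((CechF.loc f).map g) (IsLocalizedModule.map_injective (Submonoid.powers f)
        (LocalizedModule.mkLinearMap (Submonoid.powers f) M) (LocalizedModule.mkLinearMap (Submonoid.powers f) N)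
        g.hom hg) (q - 1) (by rw [← asnd_map, ← asnd_map, hxy]))

/-- The images of later stages. -/
def stageImage {H : ℕ → Type u} [∀ n, AddCommGroup (H n)] [∀ n, Module A (H n)] (tr : ∀ n, H (n + 1) →ₗ[A] H n) :
    ℕ → ∀ n : ℕ, Submodule A (H n)
  | 0, _ => ⊤
  | r + 1, n => (stageImage tr r (n + 1)).map (tr n)

/-- The partial sums. -/
def stageSum {H : ℕ → Type u} [∀ n, AddCommGroup (H n)] [∀ n, Module A (H n)] (tr : ∀ n, H (n + 1) →ₗ[A] H n)
    (x : ∀ n, H n) : ℕ → ∀ n : ℕ, H n
  | 0, _ => 0
  | r + 1, n => x n + tr n (stageSum tr x r (n + 1))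

/-- A solution of `v n - t (v (n+1)) = x n`. -/
theorem exists_ml {H : ℕ → Type u} [∀ n, AddCommGroup (H n)] [∀ n, Module A (H n)] [∀ n, IsArtinian A (H n)]
    (tr : ∀ n, H (n + 1) →ₗ[A] H n) (x : ∀ n, H n) : ∃ v : ∀ n, H n, ∀ n, v n - tr n (v (n + 1)) = x n := by
  classical
  have hdec : ∀ r n, stageImage tr (r + 1) n ≤ stageImage tr r n := by
    intro r
    induction r with
    | zero => exact fun n => le_top
    | succ r ih => exact fun n => Submodule.map_mono (ih (n + 1))
  let R : ∀ n, ℕ →o (Submodule A (H n))ᵒᵈ := fun n =>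
    ⟨fun r => OrderDual.toDual (stageImage tr r n), monotone_nat_of_le_succ fun r => hdec r n⟩
  choose k hk using fun n => IsArtinian.monotone_stabilizes (M := H n) (R n)
  let S : ∀ n, Submodule A (H n) := fun n => stageImage tr (k n) n
  have hS : ∀ n r, k n ≤ r → stageImage tr r n = S n := fun n r hr => (hk n r hr).symm
  have hsur : ∀ n, ∀ z ∈ S n, ∃ w ∈ S (n + 1), tr n w = z := by
    intro n z hz
    rw [← hS n (k (n + 1) + k n + 1) (by omega)] at hz
    obtain ⟨w, hw, rfl⟩ := hz
    exact ⟨w, hS (n + 1) (k (n + 1) + k n) (Nat.le_add_right _ _) ▸ hw, rfl⟩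
  let K : ℕ → ℕ := fun n => (Finset.range (n + 1)).sup fun j => j + k j
  have hK : ∀ n, n + k n ≤ K n := fun n => Finset.le_sup (f := fun j => j + k j) (Finset.self_mem_range_succ n)
  have hK' : ∀ n, K n ≤ K (n + 1) := fun n => Finset.sup_mono (Finset.range_mono (Nat.le_succ _))
  have hdiff : ∀ r r' n, r ≤ r' → stageSum tr x r' n - stageSum tr x r n ∈ stageImage tr r n := by
    intro r
    induction r with
    | zero => exact fun r' n _ => Submodule.mem_top
    | succ r ih =>
      intro r' n hr
      obtain ⟨r'', rfl⟩ : ∃ a, r' = a + 1 := ⟨r' - 1, by omega⟩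
      refine ⟨_, ih r'' (n + 1) (by omega), ?_⟩
      simp only [stageSum, map_sub]
      abel
  let u : ∀ n, H n := fun n => stageSum tr x (K n + 1 - n) n
  have hr : ∀ n, u n - tr n (u (n + 1)) - x n ∈ S n := by
    intro n
    have h2 := hdiff (K n + 1 - n) (K (n + 1) + 1 - (n + 1) + 1) n
      (by have := hK n; have := hK (n + 1); have := hK' n; omega)
    rw [hS n _ (by have := hK n; omega)] at h2
    have : u n - tr n (u (n + 1)) - x n =
        -(stageSum tr x (K (n + 1) + 1 - (n + 1) + 1) n - stageSum tr x (K n + 1 - n) n) := by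
      simp only [u, stageSum]
      abel
    rw [this]
    exact neg_mem h2
  choose lift hlift hlift' using hsur
  let w : ∀ n, S n := fun n => Nat.rec (motive := fun n => S n) 0
    (fun n ih => ⟨lift n (ih.1 + (u n - tr n (u (n + 1)) - x n)) (add_mem ih.2 (hr n)), hlift _ _ _⟩) n
  refine ⟨fun n => u n + (w n).1, fun n => ?_⟩
  have h3 : tr n (w (n + 1)).1 = (w n).1 + (u n - tr n (u (n + 1)) - x n) := hlift' n _ _
  rw [map_add, h3]
  module

variable [IsNoetherianRing A]

/-- The Čech cohomology at the closed point is Artinian. -/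
theorem isArtinian_cech [IsLocalRing A] {ω : Dual.D A} (hω : Dual.IsDualizing A ω) (hn : Dual.IsNormalized A ω)
    {t : List A} (ht : Ideal.ofList t = IsLocalRing.maximalIdeal A) (N : ModuleCat.{u} A) [Module.Finite A N]
    (q : ℤ) : IsArtinian A (((C t (𝟭 _)).obj N).homology q) := by
  haveI := hasRgammaI (A := A) (IsLocalRing.maximalIdeal A)
  obtain ⟨e, -⟩ := exists_compare (IsLocalRing.maximalIdeal A) ht N
  let ν := (SingleFunctors.evaluation _ _ 0).mapIso (DerivedCategory.singleFunctorsPostcompQIso (ModuleCat.{u} A))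
  obtain ⟨E₀, _, _, f₀, hf₀⟩ := Matlis6.exists_isInjectiveHull A (IsLocalRing.ResidueField A)
  obtain ⟨a⟩ := DualLib.GammaHDI.nonempty_HDI_RgammaI (IsLocalRing.maximalIdeal A) (Dual.inD A N) q
  obtain ⟨b⟩ := DualLib.CxDuality.nonempty_HDI_equiv hω hn hf₀ (Dual.inD A N) (finite_HD_inD N) q
  haveI : Module.Finite A (Dual.inD A N ⟶ ω⟦(-q)⟧) := DualLib.finite hω N (-q)
  haveI : IsArtinian A ((Dual.inD A N ⟶ ω⟦(-q)⟧) →ₗ[A] E₀) := by
    obtain ⟨k, g, hg⟩ := Module.Finite.exists_fin' A (Dual.inD A N ⟶ ω⟦(-q)⟧)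
    haveI := Matlis6.isNoetherianRing_adicCompletion (IsLocalRing.maximalIdeal A)
    haveI := (Matlis6.of_isInjectiveHull_residueField hf₀).isArtinian_dual (Fin k → A)
    exact isArtinian_of_injective (LinearMap.lcomp A E₀ g) fun φ ψ h => LinearMap.ext fun z => by
      obtain ⟨y, rfl⟩ := hg z
      exact LinearMap.congr_fun h y
  let H := DerivedCategory.homologyFunctor (ModuleCat.{u} A) q
  exact isArtinian_of_linearEquiv ((b.symm.trans a).trans
    (((H.mapIso (((DRing.RgammaI (IsLocalRing.maximalIdeal A)).mapIso (ν.app N)) ≪≫ e.symm)).toLinearEquiv).trans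
      (hdQ _ q)))

end Groth.Agent.CAlgH3.DT
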