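import Groth.Agent.CAlgH3.DT.TorsCompletion
import Groth.Agent.CAlgH3.RGam.CechCompl
import Groth.Agent.CAlgH3.RGam.RHomTensor
import Groth.Agent.CAlgH3.RGam.RHomCech
import Groth.Agent.DCat.DCompletionMap
import Groth.Agent.DualLib.Trunc
import Groth.Agent.AdicRing.Basic

/-! `RΓ_J M → (RΓ_J M)^∧` is bijective in degrees where the target is `J`-power torsion. -/

set_option autoImplicit false
set_option backward.isDefEq.respectTransparency false
set_option backward.isDefEq.respectTransparency.types false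
set_option backward.defeqAttrib.useBackward true
set_option linter.style.haveILetI false

universe u

open CategoryTheory CategoryTheory.Limits CategoryTheory.Pretriangulated

attribute [local instance] HasDerivedCategory.standard

namespace Groth.Agent.CAlgH3.DT

open Groth.Agent.CAlgH3.RGam Groth.Agent.DCat.DC
open Groth.Agent.CAlgH3.RGam.CechF Groth.Agent.CAlgH3.RGam.Lam

variable {A : Type u} [CommRing A]

theorem tors_shift {J : Ideal A} {X : Dual.D A} (h : Tors J X) (k : ℤ) : Tors J (X⟦k⟧) := fun i =>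
  isPowerTorsion_of_equiv
    (((DerivedCategory.homologyFunctor (ModuleCat.{u} A) 0).shiftIso k i (k + i) rfl).app X).toLinearEquiv.symm (h (k + i))

variable [IsNoetherianRing A]

/-- `RΓ` depends on the radical only. -/
theorem nonempty_RgammaI_iso {K K' : Ideal A} [DRing.HasRgammaI K] [DRing.HasRgammaI K'] (h : K ≤ K'.radical)
    (h' : K' ≤ K.radical) (X : Dual.D A) : Nonempty ((DRing.RgammaI K).obj X ≅ (DRing.RgammaI K').obj X) := by
  have ht : ∀ {a b : Ideal A}, a ≤ b.radical → ∀ {L : Dual.D A}, Tors b L → Tors a L := by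
    intro a b hab L hL i y
    obtain ⟨m, hm⟩ := hL i y
    obtain ⟨r, hr⟩ := Ideal.exists_pow_le_of_le_radical_of_fg hab (IsNoetherian.noetherian _)
    refine ⟨r * m, fun z hz => hm z ?_⟩
    rw [pow_mul] at hz
    exact Ideal.pow_right_mono hr m hz
  obtain ⟨a, ha⟩ := (bijective_comp_ε K' (ht h' (tors_RgammaI K X)) X).2 ((DRing.RgammaIε K).app X)
  obtain ⟨b, hb⟩ := (bijective_comp_ε K (ht h (tors_RgammaI K' X)) X).2 ((DRing.RgammaIε K').app X)
  dsimp only at ha hb
  refine ⟨⟨a, b, (bijective_comp_ε K (tors_RgammaI K X) X).1 ?_, (bijective_comp_ε K' (tors_RgammaI K' X) X).1 ?_⟩⟩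
  · dsimp only; rw [Category.assoc, hb, ha, Category.id_comp]
  · dsimp only; rw [Category.assoc, ha, hb, Category.id_comp]

variable (I J : Ideal A) [DRing.HasRgammaI J] [DRing.HasDerivedCompletion I] [IsAdicComplete I A]
  (M : Type u) [AddCommGroup M] [Module A M] [Module.Finite A M]

omit [DRing.HasRgammaI J] in
/-- A finite module over a complete ring is complete. -/
theorem isIso_toDerivedCompletion : IsIso (DRing.toDerivedCompletion I (Dual.inD A M)) := by
  let MM := ModuleCat.of A M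
  let ν := (SingleFunctors.evaluation _ _ 0).mapIso (DerivedCategory.singleFunctorsPostcompQIso (ModuleCat.{u} A))
  let νM : Dual.inD A M ≅ DerivedCategory.Q.obj (single0 MM) := ν.app MM
  have hM : FinAlg MM := finAlg_of_finite M
  haveI : IsIso ((ofN I).app MM) := (ConcreteCategory.isIso_iff_bijective _).2
    (AdicCompletion.of_bijective_iff.2 (Groth.Agent.AdicRing.isAdicComplete_of_finite I M))
  have hc : IsCompl I (νM.hom ≫ DerivedCategory.Q.map ((sgl A).map ((ofN I).app MM))) :=
    ⟨(isCompl_cN [] MM hM).1, (cIso_of_isIso νM.hom).comp (cIso_ofN hM)⟩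
  obtain ⟨e, he⟩ := (isCompl_toDerivedCompletion I (Dual.inD A M)).exists_iso hc
  rw [← Iso.eq_comp_inv] at he
  rw [he]
  infer_instance

omit [IsAdicComplete I A] [Module.Finite A M] in
/-- Torsion objects do not see the completion of the cone of `ε`. -/
theorem exists_orth_cone : ∃ (W : Dual.D A) (v : ((DRing.derivedCompletion I).obj (Dual.inD A M)).obj ⟶ W)
    (w : W ⟶ (((DRing.derivedCompletion I).obj ((DRing.RgammaI J).obj (Dual.inD A M))).obj)⟦(1 : ℤ)⟧),
    Triangle.mk ((DRing.derivedCompletion I).map ((DRing.RgammaIε J).app (Dual.inD A M))).hom v w ∈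
      distTriang (Dual.D A) ∧ ∀ L : Dual.D A, Tors J L → ∀ φ : L ⟶ W, φ = 0 := by
  obtain ⟨Z, W, m, v, w, v', w', hZ, hW, hm⟩ := exists_completed_cone I ((DRing.RgammaIε J).app (Dual.inD A M))
  refine ⟨W, v', w', hW, fun L hL φ => ?_⟩
  have hZ0 : ∀ L' : Dual.D A, Tors J L' → ∀ ψ : L' ⟶ Z, ψ = 0 := fun L' hL' ψ => by
    have h1 : ψ ≫ w = 0 := by
      obtain ⟨χ, hχ⟩ := (shiftFunctor (Dual.D A) (1 : ℤ)).map_surjective
        (((shiftFunctorCompIsoId (Dual.D A) (-1 : ℤ) 1 (by omega)).app L').hom ≫ ψ ≫ w)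
      have h2 : χ ≫ (DRing.RgammaIε J).app (Dual.inD A M) = 0 := by
        apply (shiftFunctor (Dual.D A) (1 : ℤ)).map_injective
        rw [Functor.map_comp, hχ, Functor.map_zero, Category.assoc, Category.assoc,
          show w ≫ ((DRing.RgammaIε J).app (Dual.inD A M))⟦(1 : ℤ)⟧' = 0 from comp_distTriang_mor_zero₃₁ _ hZ,
          comp_zero, comp_zero]
      have h3 : χ = 0 := (bijective_comp_ε J (tors_shift hL' (-1)) (Dual.inD A M)).1 (h2.trans zero_comp.symm)
      rw [h3, Functor.map_zero] at hχ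
      exact (cancel_epi ((shiftFunctorCompIsoId (Dual.D A) (-1 : ℤ) 1 (by omega)).app L').hom).1
        (hχ.symm.trans comp_zero.symm)
    obtain ⟨η, rfl⟩ := Triangle.coyoneda_exact₃ _ hZ ψ h1
    obtain ⟨χ, rfl⟩ := (bijective_comp_ε J hL' (Dual.inD A M)).2 η
    show (χ ≫ _) ≫ v = 0
    rw [Category.assoc, show (DRing.RgammaIε J).app (Dual.inD A M) ≫ v = 0 from comp_distTriang_mor_zero₁₂ _ hZ,
      comp_zero]
  haveI := Groth.Agent.DCat.hasLTen A
  haveI := Groth.Agent.DCat.hasLTen₃ A
  haveI := Groth.Agent.DCat.hasRHom (A := A)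
  obtain ⟨s, hs⟩ := exists_list I
  obtain ⟨e₁, -⟩ := (isCompl_toDerivedCompletion I Z).exists_iso hm
  obtain ⟨e₂⟩ := nonempty_completion_iso_RHomR s I hs Z
  let e := e₁.symm ≪≫ e₂
  rw [← cancel_mono e.hom, zero_comp]
  apply (DTen.rhomAdj A (DerivedCategory.Q.obj (DerCA.extCech (ModuleCat.of A A) s))).homEquiv L Z |>.symm.injective
  exact (hZ0 _ (tors_tensor_left J hL _) _).trans (hZ0 _ (tors_tensor_left J hL _) _).symm

/-- Composing with the completion map is bijective on maps from torsion objects. -/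
theorem bijective_comp_toDerivedCompletion {L : Dual.D A} (hL : Tors J L) :
    Function.Bijective (fun ψ : L ⟶ (DRing.RgammaI J).obj (Dual.inD A M) =>
      ψ ≫ DRing.toDerivedCompletion I ((DRing.RgammaI J).obj (Dual.inD A M))) := by
  obtain ⟨W, v, w, hW, hW0⟩ := exists_orth_cone I J M
  haveI := isIso_toDerivedCompletion I M
  let α := ((DRing.derivedCompletion I).map ((DRing.RgammaIε J).app (Dual.inD A M))).hom
  let η := DRing.toDerivedCompletion I ((DRing.RgammaI J).obj (Dual.inD A M))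
  have hnat : η ≫ α = (DRing.RgammaIε J).app (Dual.inD A M) ≫ DRing.toDerivedCompletion I (Dual.inD A M) :=
    ((DRing.derivedCompletionAdj I).unit.naturality ((DRing.RgammaIε J).app (Dual.inD A M))).symm
  have hα : Function.Injective (fun θ : L ⟶ ((DRing.derivedCompletion I).obj
      ((DRing.RgammaI J).obj (Dual.inD A M))).obj => θ ≫ α) := by
    refine (injective_iff_map_eq_zero (Preadditive.rightComp L α)).2 fun θ hθ => ?_
    obtain ⟨χ, hχ⟩ := Triangle.coyoneda_exact₂ _ (inv_rot_of_distTriang _ hW) θ hθ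
    have hχ0 : χ = 0 := by
      obtain ⟨χ', hχ'⟩ := (shiftFunctor (Dual.D A) (-1 : ℤ)).map_surjective
        (((shiftFunctorCompIsoId (Dual.D A) (1 : ℤ) (-1) (by omega)).app L).hom ≫ χ)
      rw [hW0 _ (tors_shift hL 1) χ', Functor.map_zero] at hχ'
      exact (cancel_epi ((shiftFunctorCompIsoId (Dual.D A) (1 : ℤ) (-1) (by omega)).app L).hom).1
        (hχ'.symm.trans comp_zero.symm)
    rw [hχ, hχ0, zero_comp]
  have hb : Function.Bijective (fun ψ : L ⟶ (DRing.RgammaI J).obj (Dual.inD A M) => (ψ ≫ η) ≫ α) := by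
    have e : (fun ψ : L ⟶ (DRing.RgammaI J).obj (Dual.inD A M) => (ψ ≫ η) ≫ α) =
        (fun θ => θ ≫ DRing.toDerivedCompletion I (Dual.inD A M)) ∘
          (fun ψ => ψ ≫ (DRing.RgammaIε J).app (Dual.inD A M)) :=
      funext fun ψ => (Category.assoc _ _ _).trans ((congrArg (ψ ≫ ·) hnat).trans (Category.assoc _ _ _).symm)
    rw [e]
    exact Function.Bijective.comp ⟨fun a b h => (cancel_mono (DRing.toDerivedCompletion I (Dual.inD A M))).1 h,
      fun φ => ⟨φ ≫ inv (DRing.toDerivedCompletion I (Dual.inD A M)), by simp⟩⟩ (bijective_comp_ε J hL _)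
  refine ⟨fun a b h => hb.1 (congrArg (· ≫ α) h), fun θ => ?_⟩
  obtain ⟨ψ, hψ⟩ := hb.2 (θ ≫ α)
  exact ⟨ψ, hα hψ⟩

/-- Bijectivity in the torsion range. -/
theorem bijective_of_tors (s : ℤ)
    (h : ∀ i ≤ s, _root_.LocCoh.IsPowerTorsion J
      (Dual.HD A ((DRing.derivedCompletion I).obj ((DRing.RgammaI J).obj (Dual.inD A M))).obj i))
    (i : ℤ) (hi : i ≤ s) :
    Function.Bijective ((DerivedCategory.homologyFunctor (ModuleCat.{u} A) i).map
      (DRing.toDerivedCompletion I ((DRing.RgammaI J).obj (Dual.inD A M)))).hom := by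
  obtain ⟨Z, v, w, hT⟩ := distinguished_cocone_triangle
    (DRing.toDerivedCompletion I ((DRing.RgammaI J).obj (Dual.inD A M)))
  have hZ0 : ∀ L : Dual.D A, Tors J L → ∀ ψ : L ⟶ Z, ψ = 0 := fun L hL ψ => by
    have h1 : ψ ≫ w = 0 := by
      obtain ⟨χ, hχ⟩ := (shiftFunctor (Dual.D A) (1 : ℤ)).map_surjective
        (((shiftFunctorCompIsoId (Dual.D A) (-1 : ℤ) 1 (by omega)).app L).hom ≫ ψ ≫ w)
      have h2 : χ ≫ DRing.toDerivedCompletion I ((DRing.RgammaI J).obj (Dual.inD A M)) = 0 := by
        apply (shiftFunctor (Dual.D A) (1 : ℤ)).map_injective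
        rw [Functor.map_comp, hχ, Functor.map_zero, Category.assoc, Category.assoc,
          show w ≫ (DRing.toDerivedCompletion I ((DRing.RgammaI J).obj (Dual.inD A M)))⟦(1 : ℤ)⟧' = 0 from
            comp_distTriang_mor_zero₃₁ _ hT, comp_zero, comp_zero]
      have h3 : χ = 0 :=
        (bijective_comp_toDerivedCompletion I J M (tors_shift hL (-1))).1 (h2.trans zero_comp.symm)
      rw [h3, Functor.map_zero] at hχ
      exact (cancel_epi ((shiftFunctorCompIsoId (Dual.D A) (-1 : ℤ) 1 (by omega)).app L).hom).1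
        (hχ.symm.trans comp_zero.symm)
    obtain ⟨η, rfl⟩ := Triangle.coyoneda_exact₃ _ hT ψ h1
    obtain ⟨χ, rfl⟩ := (bijective_comp_toDerivedCompletion I J M hL).2 η
    show (χ ≫ _) ≫ v = 0
    rw [Category.assoc, show DRing.toDerivedCompletion I _ ≫ v = 0 from comp_distTriang_mor_zero₁₂ _ hT, comp_zero]
  have htor : ∀ q ≤ s, _root_.LocCoh.IsPowerTorsion J (Dual.HD A Z q) := fun q hq z => by
    obtain ⟨m, hm⟩ := tors_RgammaI J (Dual.inD A M) (q + 1) ((DerivedCategory.HomologySequence.δ (Triangle.mk (DRing.toDerivedCompletion I ((DRing.RgammaI J).obj (Dual.inD A M))) v w) q (q + 1) rfl).hom z)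
    obtain ⟨G, hG⟩ := IsNoetherian.noetherian (J ^ m)
    have hy : ∀ g ∈ G, ∃ y, ((DerivedCategory.homologyFunctor (ModuleCat.{u} A) q).map v).hom y = g • z := fun g hg =>
      ((ShortComplex.moduleCat_exact_iff _).1 (DerivedCategory.HomologySequence.exact₃ _ hT q (q + 1) rfl)) _
        ((map_smul _ g z).trans (hm g (hG ▸ Submodule.subset_span hg)))
    choose! y hy using hy
    choose a ha using fun g => h q hq (y g)
    refine ⟨G.sup a + m, fun r hr => ?_⟩
    rw [pow_add] at hr
    induction hr using Submodule.mul_induction_on' with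
    | mem_mul_mem r hr g hg =>
      rw [← hG] at hg
      rw [mul_smul]
      induction hg using Submodule.span_induction with
      | mem g hg =>
        rw [← hy g hg, ← map_smul, ha g r (Ideal.pow_le_pow_right (Finset.le_sup (f := a) hg) hr), map_zero]
      | zero => simp
      | add g g' _ _ h1 h2 => rw [add_smul, smul_add, h1, h2, add_zero]
      | smul b g _ h1 => rw [smul_eq_mul, mul_smul, smul_comm, h1, smul_zero]
    | add r _ r' _ h1 h2 => rw [add_smul, h1, h2, add_zero]
  have hzero : ∀ q ≤ s, Subsingleton (Dual.HD A Z q) := fun q hq => by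
    let ts := DualLib.ts A
    let L := (ts.truncLT (q + 1)).obj Z
    haveI : L.IsLE q := ts.isLE_truncLT_obj Z (q + 1) q (by omega)
    have hL : Tors J L := fun p z => by
      rcases lt_or_ge p (q + 1) with hp | hp
      · obtain ⟨n, hn⟩ := htor p (by omega) (DualLib.hTruncLT Z (q + 1) p hp z)
        exact ⟨n, fun a ha => (DualLib.hTruncLT Z (q + 1) p hp).injective (by rw [map_smul, hn a ha, map_zero])⟩
      · haveI := (DRingLib.isLE_iff_HD L q).1 inferInstance p (by omega)
        exact ⟨0, fun a _ => Subsingleton.elim _ _⟩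
    have h0 := hZ0 L hL ((ts.truncLTι (q + 1)).app Z)
    refine subsingleton_of_forall_eq 0 fun z => ?_
    obtain ⟨z', rfl⟩ := (DualLib.hTruncLT Z (q + 1) q (by omega)).surjective z
    show ((DerivedCategory.homologyFunctor (ModuleCat.{u} A) q).map ((ts.truncLTι (q + 1)).app Z)).hom z' = 0
    rw [h0, Functor.map_zero]
    rfl
  exact ⟨(ModuleCat.mono_iff_injective _).1 (mono_of_cone hT i (hzero (i - 1) (by omega))),
    (ModuleCat.epi_iff_surjective _).1 (epi_of_cone hT i (hzero i hi))⟩

end Groth.Agent.CAlgH3.DT
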