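import Groth.Agent.CAlgH3.DT.Stab
import Groth.Agent.CAlgH3.RGam.Completion
import Groth.Agent.CAlgH3.RGam.RHomCech
import Groth.Agent.CAlgH3.RGam.BaseChange
import Groth.Agent.DCat.DTenAmp
import Groth.Agent.DualLib.Trunc
import Groth.Agent.S11623

/-! Annihilation of the completed local cohomology complex. -/

set_option autoImplicit false
set_option backward.isDefEq.respectTransparency false
set_option backward.defeqAttrib.useBackward true
set_option linter.style.haveILetI false

universe u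

open CategoryTheory CategoryTheory.Limits CategoryTheory.Pretriangulated

attribute [local instance] HasDerivedCategory.standard

namespace Groth.Agent.CAlgH3.DT

open GammaQuot (gam mem_gam)
open Groth.Agent.CAlgH3 (RGam.hdQ)

variable {A : Type u} [CommRing A]

/-- `RHom(L, -)` is linear. -/
theorem map_smul_id [DTen.HasLTen A] [DTen.HasRHom A] (L M : Dual.D A) (f : A) :
    (DTen.RHomR A L).map (f • 𝟙 M) = f • 𝟙 ((DTen.RHomR A L).obj M) := by
  apply ((DTen.rhomAdj A L).homEquiv ((DTen.RHomR A L).obj M) M).symm.injective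
  refine ((DTen.rhomAdj A L).counit.naturality (f • 𝟙 M) |> fun hn => ?_)
  rw [Adjunction.homEquiv_counit, Adjunction.homEquiv_counit]
  erw [hn]
  rw [Functor.id_map, Linear.comp_smul]
  erw [Category.comp_id]
  refine Eq.symm ((congrArg (· ≫ _) (RGam.tm_smul_id f _ L)).trans ?_)
  rw [Linear.smul_comp, Category.id_comp]

theorem smul_hd_eq_zero {X : Dual.D A} {f : A} (h : f • 𝟙 X = 0) (i : ℤ) (x : Dual.HD A X i) : f • x = 0 := by
  have h1 := congrArg (fun g => ((DerivedCategory.homologyFunctor (ModuleCat.{u} A) i).map g).hom x) h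
  rw [DCat.DC.homologyFunctor_map_smul_id, CategoryTheory.Functor.map_zero] at h1
  exact h1

variable [IsNoetherianRing A]

/-- Vanishing of the extended Čech complex above the cohomological dimension. -/
theorem isLE_extCech {I : Ideal A} {d : ℕ} (hcd : _root_.LocCoh.CdLE A I d) (fs : List A) (hfs : fs ≠ [])
    (hI : Ideal.span {x : A | x ∈ fs} = I) :
    (DerivedCategory.Q.obj (DerCA.extCech (ModuleCat.of A A) fs)).IsLE d := by
  refine (DRingLib.isLE_iff_HD _ _).2 fun i hi => ?_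
  lift i to ℕ using (by omega)
  obtain ⟨e⟩ := Groth.Agent.S11623.result A fs hfs A i
  subst hI
  haveI := hcd A i (by omega)
  haveI : Subsingleton (DerCA.extCechH fs (ModuleCat.of A A) (i : ℤ)) := e.toLinearEquiv.toEquiv.subsingleton
  exact (RGam.hdQ _ _).toEquiv.subsingleton

/-- A bounded below complex whose low cohomology is killed by `f` has killed low completed cohomology. -/
theorem kills_RHomR [DTen.HasLTen A] [DTen.HasRHom A] (C : Dual.D A) (d : ℕ) [C.IsLE (d : ℤ)] (f : A) (n : ℤ) :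
    ∀ (m : ℕ) (X : Dual.D A), X.IsGE (n + 1 - m) →
      (∀ j : ℤ, j ≤ n → ∀ x : Dual.HD A X j, f • x = 0) →
      ∀ i : ℤ, i + d ≤ n → ∀ x : Dual.HD A ((DTen.RHomR A C).obj X) i, f ^ m • x = 0
  | 0, X, hX, _, i, hi, x => by
    haveI : X.IsGE (n + 1) := by simpa using hX
    haveI := DCat.isGE_RHomR C X (d : ℤ) (n + 1)
    haveI := (DRingLib.isGE_iff_HD ((DTen.RHomR A C).obj X) (n + 1 - d)).1 inferInstance i (by omega)
    exact Subsingleton.elim _ _
  | m + 1, X, hX, hk, i, hi, x => by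
    let k : ℤ := n - m
    haveI : X.IsGE k := by
      rw [show k = n + 1 - ((m + 1 : ℕ) : ℤ) by simp only [k]; push_cast; omega]; exact hX
    let T := (DualLib.ts A).triangleLTGE (k + 1)
    have hT : T.obj X ∈ distTriang _ := (DualLib.ts A).triangleLTGE_distinguished (k + 1) X
    let L := ((DualLib.ts A).truncLT (k + 1)).obj X
    let G := ((DualLib.ts A).truncGE (k + 1)).obj X
    haveI hGE : G.IsGE (n + 1 - m) := by
      rw [show n + 1 - (m : ℤ) = k + 1 by simp only [k]; omega]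
      exact inferInstanceAs ((DualLib.ts A).IsGE (((DualLib.ts A).truncGE (k + 1)).obj X) (k + 1))
    haveI : L.IsLE k := (DualLib.ts A).isLE_truncLT_obj X (k + 1) k (by omega)
    haveI : L.IsGE k := (DRingLib.isGE_iff_HD _ _).2 fun q hq => by
      haveI := (DRingLib.isGE_iff_HD X k).1 inferInstance q hq
      exact (DualLib.hTruncLT X (k + 1) q (by omega)).toEquiv.subsingleton
    have hG : ∀ j : ℤ, j ≤ n → ∀ y : Dual.HD A G j, f • y = 0 := fun j hj y => by
      rcases lt_or_ge j (k + 1) with hlt | hge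
      · haveI := (DRingLib.isGE_iff_HD G (n + 1 - m)).1 hGE j (by simp only [k] at hlt; omega)
        exact Subsingleton.elim _ _
      · obtain ⟨y, rfl⟩ := (DualLib.hTruncGE X (k + 1) j hge).surjective y
        rw [← map_smul, hk j hj y, map_zero]
    have hL : f • 𝟙 L = 0 := by
      obtain ⟨e⟩ := DualLib.exists_single_iso L k
      let N := ModuleCat.of A (Dual.HD A L k)
      have h0 : f • 𝟙 N = (0 : N ⟶ N) := ModuleCat.hom_ext (LinearMap.ext fun (y : Dual.HD A L k) => by
        show f • y = 0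
        apply (DualLib.hTruncLT X (k + 1) k (by omega)).injective
        rw [map_smul, hk k (by simp only [k]; omega), map_zero])
      have h1 : f • 𝟙 ((DerivedCategory.singleFunctor (ModuleCat.{u} A) k).obj N) = 0 := by
        rw [← CategoryTheory.Functor.map_id, ← CategoryTheory.Functor.map_smul, h0, CategoryTheory.Functor.map_zero]
      rw [← e.inv_hom_id, ← Category.id_comp e.hom, ← Linear.comp_smul, ← Linear.smul_comp, h1, zero_comp, comp_zero]
    obtain ⟨δ, hδ⟩ := DCat.mapsTri_RHomR C _ hT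
    have hFL : ∀ y : Dual.HD A ((DTen.RHomR A C).obj L) i, f • y = 0 := smul_hd_eq_zero (by
      haveI : (DTen.RHomR A C).IsRightAdjoint := (DTen.rhomAdj A C).isRightAdjoint
      rw [← map_smul_id, hL, Functor.map_zero]) i
    have h2 := kills_RHomR C d f n m G hGE hG i hi
      (((DerivedCategory.homologyFunctor (ModuleCat.{u} A) i).map
        ((DTen.RHomR A C).map (((DualLib.ts A).truncGEπ (k + 1)).app X))).hom x)
    rw [← map_smul] at h2
    obtain ⟨y, hy⟩ := ((ShortComplex.moduleCat_exact_iff _).1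
      (DerivedCategory.HomologySequence.exact₂ _ hδ i)) _ h2
    rw [pow_succ', mul_smul]
    refine (congrArg (f • ·) hy.symm).trans ?_
    exact ((map_smul _ f y).symm.trans ((congrArg _ (hFL y)).trans (map_zero _)))

/-- Annihilation in the model passes to `RΓ`. -/
theorem kills_HD_RgammaI (K : Ideal A) [DRing.HasRgammaI K] (X : Dual.D A) (i : ℤ) (f : A)
    (h : ∀ x : Dual2.HDT A (PrimeSpectrum.zeroLocus (K : Set A)) X i, f • x = 0)
    (x : Dual.HD A ((DRing.RgammaI K).obj X) i) : f • x = 0 := by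
  obtain ⟨J, e, hJ, hJi, hJs⟩ := RGam.exists_model X
  haveI := hJ
  have hKT := (kills_HDT_iff (i := i) (PrimeSpectrum.zeroLocus (K : Set A)) e).1 h
  haveI := RGam.isIso_theta_kInj K J hJ
  let Φ := ((((DerivedCategory.homologyFunctor (ModuleCat.{u} A) i).mapIso
    ((asIso (RGam.theta K J)) ≪≫ (DRing.RgammaI K).mapIso e)).toLinearEquiv).symm.trans
      (RGam.hdQ (DualLib.GammaHDI.GC K J) i))
  apply Φ.injective
  rw [map_smul, map_zero]
  generalize Φ x = y
  obtain ⟨z, rfl⟩ := RGam.cl_surjective _ i y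
  rw [← map_smul, RGam.cl_eq_zero_iff]
  have hz : (z.1 : DRing.torsionSub K (J.X i)).1 ∈ gam (PrimeSpectrum.zeroLocus (K : Set A)) (J.X i) := by
    obtain ⟨n, hn⟩ := z.1.2
    exact gam_of_killed (I := K ^ n) (fun q hq => (q.2.le_of_pow_le : K ^ n ≤ q.asIdeal → K ≤ q.asIdeal) hq) hn
  obtain ⟨w, hw, he⟩ := hKT _ hz (congrArg Subtype.val (LinearMap.mem_ker.1 z.2))
  have hwt : w ∈ DRing.torsionSub K (J.X (i - 1)) := by
    obtain ⟨n, hn⟩ := Ideal.exists_pow_le_of_le_radical_of_fg
      ((PrimeSpectrum.zeroLocus_subset_zeroLocus_iff (annEl w) K).1 (mem_gam_iff.1 hw)) (IsNoetherian.noetherian _)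
    exact ⟨n, fun a ha => mem_annEl.1 (hn ha)⟩
  exact ⟨⟨w, hwt⟩, Subtype.ext he.symm⟩

/-- The annihilation statement for the completion of `RΓ_J M`. -/
theorem exists_kills_completion {ω : Dual.D A} (hω : Dual.IsDualizing A ω) (I J : Ideal A) [DRing.HasRgammaI J]
    [DRing.HasDerivedCompletion I] (M : Type u) [AddCommGroup M] [Module A M] [Module.Finite A M]
    (p : PrimeSpectrum A) (s d : ℕ) (hcd : _root_.LocCoh.CdLE A I d)
    (h : ∀ x q : PrimeSpectrum A, x ≤ p → x ≤ q → I ⊔ J ≤ q.asIdeal → ((d + s : ℕ) : WithBot ℕ∞) <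
      ((_root_.LocCoh.depth (Localization.AtPrime x.asIdeal) (LocalizedModule x.asIdeal.primeCompl M) : ℕ∞) :
          WithBot ℕ∞) + Order.krullDim (Set.Icc x q)) :
    ∃ f : A, f ∉ p.asIdeal ∧ ∀ i : ℤ, i ≤ s →
      ∀ x : Dual.HD A ((DRing.derivedCompletion I).obj ((DRing.RgammaI J).obj (Dual.inD A M))).obj i, f • x = 0 := by
  obtain ⟨P, hP, hk⟩ := (annihilator_theorem_module hω (T' := {x | ¬ x ≤ p})
    (PrimeSpectrum.isClosed_zeroLocus ((I ⊔ J : Ideal A) : Set A)).stableUnderSpecialization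
    (fun x y hxy hx hy => hx (((PrimeSpectrum.le_iff_specializes x y).2 hxy).trans hy)) (d + s) M).2
    fun x q hx hq hxq => h x q (not_not.1 hx) hxq hq
  obtain ⟨f, hfP, hfp⟩ := Set.not_subset.1 fun hsub : (P : Set A) ⊆ p.asIdeal => (hP (show p ∈ _ from hsub)) le_rfl
  haveI := RGam.hasRgammaI (A := A) I
  haveI := RGam.hasRgammaI (A := A) (I ⊔ J)
  haveI := Groth.Agent.DCat.hasLTen A
  haveI := Groth.Agent.DCat.hasLTen₃ A
  haveI := Groth.Agent.DCat.hasRHom (A := A)
  let X := (DRing.RgammaI (I ⊔ J)).obj (Dual.inD A M)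
  have hX : ∀ j : ℤ, j ≤ ((d + s : ℕ) : ℤ) → ∀ x : Dual.HD A X j, f • x = 0 := fun j hj =>
    kills_HD_RgammaI (I ⊔ J) _ j f ((kills_HT_iff M (d + s)).1 (fun i hi => hk i hi f hfP) j hj)
  haveI : X.IsGE 0 := by
    refine (DRingLib.isGE_iff_HD _ 0).2 fun j hj => ?_
    obtain ⟨J', hJ0, hJK, hJi, ⟨e⟩⟩ := exists_model (Dual.inD A M) 0 ((DRingLib.isGE_iff_HD _ 0).1 inferInstance)
    haveI := RGam.isIso_theta_kInj (I ⊔ J) J' hJK
    let Φ := ((((DerivedCategory.homologyFunctor (ModuleCat.{u} A) j).mapIso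
      ((asIso (RGam.theta (I ⊔ J) J')) ≪≫ (DRing.RgammaI (I ⊔ J)).mapIso e)).toLinearEquiv).symm.trans
        (RGam.hdQ (DualLib.GammaHDI.GC (I ⊔ J) J') j))
    haveI := hJ0 j hj
    haveI : Subsingleton ((DualLib.GammaHDI.GC (I ⊔ J) J').homology j) := by
      refine subsingleton_of_forall_eq 0 fun y => ?_
      obtain ⟨z, rfl⟩ := RGam.cl_surjective _ j y
      exact (congrArg _ (Subtype.ext (Subtype.ext (Subsingleton.elim _ _)))).trans (map_zero _)
    exact Φ.toEquiv.subsingleton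
  obtain ⟨G, hG⟩ := IsNoetherian.noetherian I
  let fs : List A := 0 :: G.toList
  have hI : Ideal.span {x : A | x ∈ fs} = I := by
    rw [show {x : A | x ∈ fs} = insert 0 (G : Set A) by ext x; simp [fs], Ideal.span_insert_zero]
    exact hG
  haveI := isLE_extCech hcd fs (by simp [fs]) hI
  haveI : X.IsGE (((d + s : ℕ) : ℤ) + 1 - ((d + s + 1 : ℕ) : ℤ)) := by
    rw [show ((d + s : ℕ) : ℤ) + 1 - ((d + s + 1 : ℕ) : ℤ) = 0 by push_cast; omega]; infer_instance
  refine ⟨f ^ (d + s + 1), fun hf => hfp (p.2.mem_of_pow_mem _ hf), fun i hi => ?_⟩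
  obtain ⟨e₁⟩ := RGam.nonempty_completion_gamma I ((DRing.RgammaI J).obj (Dual.inD A M))
  haveI : DRing.HasRgammaI (J ⊔ I) := RGam.hasRgammaI _
  obtain ⟨e₂⟩ := RGam.nonempty_comp (I := J) (J := I) (Dual.inD A M)
  obtain ⟨e₃⟩ := RGam.nonempty_completion_iso_RHomR fs I hI
    ((DRing.RgammaI I).obj ((DRing.RgammaI J).obj (Dual.inD A M)))
  let e₄ : (DRing.RgammaI I).obj ((DRing.RgammaI J).obj (Dual.inD A M)) ≅ X :=
    e₂ ≪≫ eqToIso (by simp only [X, sup_comm])
  let E : ((DRing.derivedCompletion I).obj ((DRing.RgammaI J).obj (Dual.inD A M))).obj ≅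
      (DTen.RHomR A (DerivedCategory.Q.obj (DerCA.extCech (ModuleCat.of A A) fs))).obj X :=
    ((ObjectProperty.ι _).mapIso e₁).symm ≪≫ e₃ ≪≫ (DTen.RHomR A _).mapIso e₄
  intro x
  apply ((DerivedCategory.homologyFunctor (ModuleCat.{u} A) i).mapIso E).toLinearEquiv.injective
  rw [map_smul, map_zero]
  exact kills_RHomR _ d f _ (d + s + 1) X inferInstance hX i (by push_cast; omega) _

end Groth.Agent.CAlgH3.DT
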