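import Groth.Agent.CAlgH3.DT.Stab
import Groth.Agent.CAlgH3.DT.AdicPoint
import Groth.Agent.LocCoh.NonVanishing
import Groth.Agent.LocCoh.BaseChange
import Groth.Agent.DCat.LTensorModule
import Groth.Agent.S1779
import Mathlib.RingTheory.AdicCompletion.LocalRing

/-! Depth of an adic completion at primes outside the ideal. -/

set_option autoImplicit false
set_option backward.isDefEq.respectTransparency false
set_option backward.defeqAttrib.useBackward true
set_option linter.style.haveILetI false

universe u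

open CategoryTheory CategoryTheory.Limits Opposite CategoryTheory.Abelian TensorProduct

attribute [local instance] HasDerivedCategory.standard

namespace Groth.Agent.CAlgH3.DT

open Groth.Agent.LocCoh (toH toH_eq_zero_iff exists_toH quot)

/-- From local cohomology of `I` to supports in `V(I)`. -/
theorem kills_HT_of_kills_H {A : Type u} [CommRing A] [IsNoetherianRing A] (I : Ideal A) (i : ℕ) (M : Type u)
    [AddCommGroup M] [Module A M] {a : A} (h : ∀ x : _root_.LocCoh.H I i M, a • x = 0)
    (x : Dual2.HT (PrimeSpectrum.zeroLocus (I : Set A)) i M) : a • x = 0 := by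
  obtain ⟨d, x, rfl⟩ := exists_toH (F := Dual2.idealsInDiagram (PrimeSpectrum.zeroLocus (I : Set A))) x
  obtain ⟨m, hm⟩ : ∃ m, I ^ m ≤ d.obj := Ideal.exists_pow_le_of_le_radical_of_fg
    ((PrimeSpectrum.zeroLocus_subset_zeroLocus_iff d.obj I).1 d.property) (IsNoetherian.noetherian _)
  let g : quot (localCohomology.idealPowersDiagram I) (op m) ⟶ quot (Dual2.idealsInDiagram _) d :=
    ModuleCat.ofHom (Submodule.mapQ (I ^ m) d.obj LinearMap.id fun z hz => hm hz)
  let x' : Ext (quot (Dual2.idealsInDiagram _) d) (ModuleCat.of A M) i := x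
  let y : Ext (quot (localCohomology.idealPowersDiagram I) (op m)) (ModuleCat.of A M) i :=
    (Ext.mk₀ g).comp x' (zero_add i)
  have h1 : toH (F := localCohomology.idealPowersDiagram I) (op m) i (ModuleCat.of A M) (a • y) = 0 :=
    (map_smul _ a y).trans (h _)
  obtain ⟨k, w, hw⟩ := (toH_eq_zero_iff (F := localCohomology.idealPowersDiagram I) (a • y)).1 h1
  let J : Dual2.IdealsIn (PrimeSpectrum.zeroLocus (I : Set A)) :=
    ⟨I ^ k.unop, LocCohSupportFin.zeroLocus_pow_subset _ le_rfl _⟩
  let w' : J ⟶ d := InducedCategory.homMk (homOfLE ((Ideal.pow_le_pow_right (leOfHom w.unop)).trans hm))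
  refine (map_smul _ a x).symm.trans ((toH_eq_zero_iff _).2 ⟨J, w', ?_⟩)
  have : (localCohomology.ringModIdeals (Dual2.idealsInDiagram _)).map w' =
      (localCohomology.ringModIdeals (localCohomology.idealPowersDiagram I)).map w ≫ g :=
    ModuleCat.hom_ext (Submodule.linearMap_qext _ (LinearMap.ext fun z => rfl))
  rw [this, ← Ext.mk₀_comp_mk₀, Ext.comp_assoc_of_second_deg_zero]
  rw [← hw]
  simp only [y, x', Ext.comp_smul]

variable {R : Type u} [CommRing R] [IsNoetherianRing R] [IsLocalRing R] (I : Ideal R)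

theorem isLocalRing_adicCompletion (hI : I ≠ ⊤) :
    ∃ _ : IsLocalRing (AdicCompletion I R),
      IsLocalRing.maximalIdeal (AdicCompletion I R) =
        (IsLocalRing.maximalIdeal R).map (algebraMap R (AdicCompletion I R)) := by
  set B := AdicCompletion I R
  set J := I.map (algebraMap R B)
  set mB := (IsLocalRing.maximalIdeal R).map (algebraMap R B)
  haveI hmB : mB.IsMaximal :=
    AdicCompletion.isMaximal_map_of_le _ _ (IsLocalRing.le_maximalIdeal hI) (IsNoetherian.noetherian _)
  haveI : IsAdicComplete J B := AdicCompletion.isAdicComplete_self _ (IsNoetherian.noetherian _)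
  have huniq : ∀ n : Ideal B, n.IsMaximal → n = mB := by
    intro n hn
    have hJn : J ≤ n := (IsAdicComplete.le_jacobson_bot J).trans (sInf_le ⟨bot_le, hn⟩)
    have hle : n.under R ≤ IsLocalRing.maximalIdeal R := IsLocalRing.le_maximalIdeal (Ideal.IsPrime.ne_top inferInstance)
    refine hn.eq_of_le hmB.ne_top fun x hx => ?_
    obtain ⟨a, ha⟩ := Ideal.Quotient.mk_surjective (AdicCompletion.evalOneₐ I x)
    have hxa : x - algebraMap R B a ∈ J := by
      show x - algebraMap R (AdicCompletion I R) a ∈ I.map (algebraMap R (AdicCompletion I R))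
      rw [← AdicCompletion.ker_evalOneₐ_eq_map I (IsNoetherian.noetherian _), RingHom.mem_ker, map_sub, sub_eq_zero,
        ← RingHom.comp_apply, AdicCompletion.evalOneₐ_comp_algebraMap_eq_mk]
      exact ha.symm
    have han : a ∈ n.under R := by
      show algebraMap R B a ∈ n
      simpa using sub_mem hx (hJn hxa)
    simpa using add_mem (Ideal.map_mono (IsLocalRing.le_maximalIdeal hI) hxa) (Ideal.mem_map_of_mem _ (hle han))
  haveI : IsLocalRing B := IsLocalRing.of_unique_max_ideal ⟨mB, hmB, huniq⟩
  exact ⟨inferInstance, (IsLocalRing.eq_maximalIdeal hmB).symm⟩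

variable {ω : Dual.D R} (hω : Dual.IsDualizing R ω)
include hω

/-- If depth plus dimension is large below, the completion has large depth at a point of small dimension. -/
theorem lt_depth_completion (hI : I ≠ ⊤) (M : Type u) [AddCommGroup M] [Module R M] [Module.Finite R M] {s d : ℕ}
    (p' : Ideal (AdicCompletion I R)) [p'.IsPrime]
    (hd : ringKrullDim (AdicCompletion I R ⧸ p') ≤ ((d : ℕ∞) : WithBot ℕ∞))
    (hc : (((d + s : ℕ) : ℕ∞) : WithBot ℕ∞) <
      ((_root_.LocCoh.depth (Localization.AtPrime (p'.under R)) (LocalizedModule (p'.under R).primeCompl M) : ℕ∞) :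
        WithBot ℕ∞) + ringKrullDim (R ⧸ p'.under R)) :
    (s : ℕ∞) < _root_.LocCoh.depth (Localization.AtPrime p') (LocalizedModule p'.primeCompl (AdicCompletion I M)) := by
  haveI := Matlis6.isNoetherianRing_adicCompletion I
  obtain ⟨hloc, hmax⟩ := isLocalRing_adicCompletion I hI
  haveI := hloc
  set B := AdicCompletion I R
  haveI : DRing.HasLBaseChange (algebraMap R B) := DCat.hasLBaseChange _
  have hωB := Groth.Agent.S1779.result R I ω hω
  let p : PrimeSpectrum R := ⟨p'.under R, inferInstance⟩
  let P' : PrimeSpectrum B := ⟨p', inferInstance⟩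
  let m : PrimeSpectrum R := IsLocalRing.closedPoint R
  let mB : PrimeSpectrum B := IsLocalRing.closedPoint B
  have hle : ∀ x : PrimeSpectrum R, x ≤ m := fun x => IsLocalRing.le_maximalIdeal x.2.ne_top
  have hdim : Order.krullDim (Set.Icc p m) = ringKrullDim (R ⧸ p.asIdeal) := by
    rw [ringKrullDim_quotient]
    refine Order.krullDim_eq_of_orderIso ⟨⟨fun x => ⟨x.1, x.2.1⟩, fun x => ⟨x.1, x.2, hle _⟩, fun _ => rfl, fun _ => rfl⟩, Iff.rfl⟩
  have hdim' : Order.krullDim (Set.Icc P' mB) ≤ ringKrullDim (B ⧸ p') := by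
    rw [ringKrullDim_quotient]
    exact Order.krullDim_le_of_strictMono (fun x => ⟨x.1, x.2.1⟩) fun a b h => h
  -- an element off `p` kills the local cohomology
  let T' : Set (PrimeSpectrum R) := {x | ¬ x ≤ p}
  have hT' : StableUnderSpecialization T' := fun x y hxy hx hy =>
    hx (((PrimeSpectrum.le_iff_specializes x y).2 hxy).trans hy)
  have hmc : (PrimeSpectrum.zeroLocus ((IsLocalRing.maximalIdeal R : Ideal R) : Set R)) ⊆ {m} := fun x hx =>
    le_antisymm (hle x) hx
  obtain ⟨J, hJ, hk⟩ := (annihilator_theorem_module hω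
    (PrimeSpectrum.isClosed_zeroLocus ((IsLocalRing.maximalIdeal R : Ideal R) : Set R)).stableUnderSpecialization hT'
      (d + s) M).2 fun x q hx hq _ => by
    obtain rfl : q = m := hmc hq
    have hxp : x ≤ p := not_not.1 hx
    refine (depth_condition_iff hω M (hle x) (d + s)).2 fun i hi j hj θ => ?_
    obtain ⟨t, ht, h0⟩ := (depth_condition_iff hω M (hle p) (d + s)).1 (by rw [hdim]; exact_mod_cast hc) i hi j hj θ
    exact ⟨t, fun h => ht (hxp h), h0⟩
  obtain ⟨f, hfJ, hfp⟩ := Set.not_subset.1 fun h : (J : Set R) ⊆ p.asIdeal => (hJ (show p ∈ _ from h)) le_rfl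
  have hkA : ∀ i ≤ d + s, ∀ x : _root_.LocCoh.H (IsLocalRing.maximalIdeal R) i M, f • x = 0 := fun i hi =>
    kills_H_of_kills_HT _ i M (hk i hi f hfJ)
  have hkB : ∀ i ≤ d + s, ∀ x : _root_.LocCoh.H (IsLocalRing.maximalIdeal B) i (B ⊗[R] M),
      algebraMap R B f • x = 0 := by
    intro i hi
    rw [hmax]
    obtain ⟨e⟩ := Groth.Agent.LocCoh.nonempty_H_baseChange R B (IsLocalRing.maximalIdeal R) i M
    intro x
    obtain ⟨y, rfl⟩ := e.surjective x
    rw [← map_smul, algebraMap_smul]
    suffices f • y = 0 by rw [this, map_zero]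
    induction y using TensorProduct.induction_on with
    | zero => exact smul_zero _
    | tmul b z => rw [← TensorProduct.tmul_smul, hkA i hi z, TensorProduct.tmul_zero]
    | add y z hy hz => rw [smul_add, hy, hz, add_zero]
  have h := (annihilator_theorem_module hωB
    (PrimeSpectrum.isClosed_zeroLocus ((IsLocalRing.maximalIdeal B : Ideal B) : Set B)).stableUnderSpecialization
    (T' := {x | ¬ x ≤ P'}) (fun x y hxy hx hy => hx (((PrimeSpectrum.le_iff_specializes x y).2 hxy).trans hy))
    (d + s) (B ⊗[R] M)).1 ⟨Ideal.span {algebraMap R B f}, fun x hx hxP => hfp (show f ∈ p'.under R from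
      hxP (hx (Ideal.mem_span_singleton_self _))), fun i hi a ha x => by
        obtain ⟨c, rfl⟩ := Ideal.mem_span_singleton'.1 ha
        rw [mul_smul, kills_HT_of_kills_H _ i _ (hkB i hi) x, smul_zero]⟩
    P' mB (fun h => h le_rfl) (show IsLocalRing.maximalIdeal B ≤ mB.asIdeal from le_rfl)
    (IsLocalRing.le_maximalIdeal Ideal.IsPrime.ne_top')
  have e := IsLocalizedModule.mapEquiv p'.primeCompl
    (LocalizedModule.mkLinearMap p'.primeCompl (B ⊗[R] M))
    (LocalizedModule.mkLinearMap p'.primeCompl (AdicCompletion I M)) (Localization.AtPrime p')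
    (AdicCompletion.ofTensorProductEquivOfFiniteNoetherian I M)
  rw [← CAlgH3.depth_congr e]
  have h' := lt_of_lt_of_le h (add_le_add le_rfl (hdim'.trans hd))
  generalize _root_.LocCoh.depth (Localization.AtPrime P'.asIdeal) (LocalizedModule P'.asIdeal.primeCompl (B ⊗[R] M)) = D at h' ⊢
  rcases eq_or_ne D ⊤ with rfl | hD
  · exact ENat.coe_lt_top s
  obtain ⟨n, rfl⟩ := ENat.ne_top_iff_exists.1 hD
  have : d + s < n + d := by exact_mod_cast h'
  exact_mod_cast (show s < n by omega)

omit hω in
/-- The closed-point dimension is bounded by the cohomological dimension. -/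
theorem ringKrullDim_le_of_cdLE {A S : Type u} [CommRing A] [IsNoetherianRing A] [CommRing S] [IsNoetherianRing S]
    [IsLocalRing S] [Algebra A S] (K : Ideal A) {d : ℕ} (hcd : _root_.LocCoh.CdLE A K d)
    (hK : ∀ P : PrimeSpectrum S, K.map (algebraMap A S) ≤ P.asIdeal → P.asIdeal = IsLocalRing.maximalIdeal S)
    (hne : K.map (algebraMap A S) ≤ IsLocalRing.maximalIdeal S) :
    ringKrullDim S ≤ ((d : ℕ∞) : WithBot ℕ∞) := by
  obtain ⟨n, hn⟩ : ∃ n : ℕ, ringKrullDim S = n := by
    obtain ⟨n, hn⟩ := ENat.ne_top_iff_exists.1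
      (Ideal.height_ne_top (IsLocalRing.maximalIdeal.isMaximal S).ne_top : (IsLocalRing.maximalIdeal S).height ≠ ⊤)
    exact ⟨n, by rw [← IsLocalRing.maximalIdeal_height_eq_ringKrullDim, ← hn]; rfl⟩
  rw [hn]
  by_contra hlt
  have hdn : d < n := by
    by_contra hle
    exact hlt (by exact_mod_cast Nat.le_of_not_lt hle)
  haveI := hcd S n hdn
  obtain ⟨φ, -⟩ := Groth.Agent.LocCoh.exists_H_independence A S K n S
  haveI : Subsingleton (_root_.LocCoh.H (K.map (algebraMap A S)) n S) := φ.toEquiv.subsingleton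
  have hb := (Groth.Agent.LocCoh.Hle_surjective_injective_of_local hne S n).1
    fun p hp hp' => absurd (hK p hp).ge hp'
  have hb' := (Groth.Agent.LocCoh.Hle_surjective_injective_of_local hne S n).2
    fun p hp hp' => absurd (hK p hp).ge hp'
  haveI := Groth.Agent.LocCoh.nontrivial_H_ring S n hn
  exact not_subsingleton _ (hb'.subsingleton)

end Groth.Agent.CAlgH3.DT
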