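import Groth.Agent.CAlgH3.DT.HomCx
import Groth.Agent.CAlgH3.DT.Module
import Groth.Agent.CAlgH3.DT.CompletionDepth
import Groth.Agent.CAlgH3.RGam.Coreflect
import Groth.Agent.LocCoh.AdjDepth

/-! Over a complete local ring, high degree classes in `Hom(X, ω⟦j⟧)` die on `I^k X`. -/

set_option autoImplicit false
set_option backward.isDefEq.respectTransparency false
set_option backward.defeqAttrib.useBackward true
set_option linter.style.haveILetI false

universe u

open CategoryTheory CategoryTheory.Limits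

attribute [local instance] HasDerivedCategory.standard

namespace Groth.Agent.CAlgH3.DT

open Groth.Agent.DualLib

variable {C : Type u} [CommRing C] [IsLocalRing C] [IsNoetherianRing C]

/-- The closed point is the only one of `V(p + I)`. -/
def IsTPoint (I : Ideal C) (p : PrimeSpectrum C) : Prop :=
  ∀ P : PrimeSpectrum C, p ≤ P → I ≤ P.asIdeal → P = IsLocalRing.closedPoint C

omit [IsNoetherianRing C] in
theorem one_le_of_not_isTPoint {I : Ideal C} {p : PrimeSpectrum C} (hp : ¬ IsTPoint I p) :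
    1 ≤ ringKrullDim (C ⧸ (I ⊔ p.asIdeal)) := by
  simp only [IsTPoint, not_forall] at hp
  obtain ⟨P, hpP, hIP, hne⟩ := hp
  rw [ringKrullDim_quotient, Order.one_le_krullDim_iff]
  refine ⟨⟨P, ?_⟩, ⟨IsLocalRing.closedPoint C, ?_⟩, ?_⟩
  · exact sup_le hIP hpP
  · exact (sup_le hIP hpP).trans (IsLocalRing.le_maximalIdeal P.2.ne_top)
  · exact lt_of_le_of_ne (IsLocalRing.le_maximalIdeal P.2.ne_top : P.asIdeal ≤ (IsLocalRing.closedPoint C).asIdeal) fun h => hne (congrArg Subtype.val h)

variable {ω : Dual.D C} (hω : Dual.IsDualizing C ω)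
include hω

/-- `dim C/p` in terms of the degree. -/
theorem ringKrullDim_quotient_eq_deg (p : PrimeSpectrum C) :
    ringKrullDim (C ⧸ p.asIdeal) = (((deg hω (IsLocalRing.closedPoint C) - deg hω p).toNat : ℕ) : WithBot ℕ∞) := by
  rw [← krullDim_Icc hω (show p ≤ IsLocalRing.closedPoint C from IsLocalRing.le_maximalIdeal p.2.ne_top),
    ringKrullDim_quotient]
  refine Order.krullDim_eq_of_orderIso
    { toFun := fun P => ⟨P.1, P.2, IsLocalRing.le_maximalIdeal P.1.2.ne_top⟩
      invFun := fun P => ⟨P.1, P.2.1⟩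
      left_inv := fun _ => rfl
      right_inv := fun _ => rfl
      map_rel_iff' := Iff.rfl }

omit hω in
/-- A cohomological dimension bound is positive unless `I` is nilpotent. -/
theorem one_le_of_cdLE {I : Ideal C} (hI : I ≤ IsLocalRing.maximalIdeal C) {d : ℕ} (hcd : _root_.LocCoh.CdLE C I d)
    {p : PrimeSpectrum C} (hp : ¬ I ≤ p.asIdeal) : 1 ≤ d := by
  by_contra hd
  haveI : Nontrivial (C ⧸ p.asIdeal) := Ideal.Quotient.nontrivial_iff.2 p.2.ne_top
  have hall : ∀ i : ℕ, Subsingleton (_root_.LocCoh.H I i (C ⧸ p.asIdeal)) := by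
    intro i
    rcases Nat.eq_zero_or_pos i with rfl | hi
    · refine LocCoh.subsingleton_H0_iff.2 ((Submodule.eq_bot_iff _).2 fun z hz => ?_)
      obtain ⟨n, hn⟩ := hz
      obtain ⟨y, rfl⟩ := Ideal.Quotient.mk_surjective z
      obtain ⟨a, ha, hap⟩ := SetLike.not_le_iff_exists.1 hp
      have h1 : a ^ n • (Ideal.Quotient.mk p.asIdeal y) = 0 := hn _ (Ideal.pow_mem_pow ha n)
      rw [Algebra.smul_def, Ideal.Quotient.algebraMap_eq, ← map_mul, Ideal.Quotient.eq_zero_iff_mem] at h1
      exact Ideal.Quotient.eq_zero_iff_mem.2 ((p.2.mem_or_mem h1).resolve_left fun h => hap (p.2.mem_of_pow_mem n h))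
    · exact hcd (C ⧸ p.asIdeal) i (by omega)
  have hlt := (LocCoh.idealDepth_le_depth I (fun h => (IsLocalRing.maximalIdeal.isMaximal C).ne_top
    (top_le_iff.1 (h.ge.trans hI))) (C ⧸ p.asIdeal)).trans_lt CAlgH3.depth_lt_top
  obtain ⟨n, hn⟩ := ENat.ne_top_iff_exists.1 hlt.ne
  have h2 := (LocCoh.natCast_le_idealDepth_iff_H I (C ⧸ p.asIdeal) (n + 1)).2 fun i _ => hall i
  rw [← hn] at h2
  exact absurd (show n + 1 ≤ n by exact_mod_cast h2) (Nat.not_succ_le_self n)

variable [IsAdicComplete (IsLocalRing.maximalIdeal C) C] (I : Ideal C) (hI : I ≤ IsLocalRing.maximalIdeal C) {d s : ℕ}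
  (hcd : _root_.LocCoh.CdLE C I d)
include hI hcd

/-- Classes in degrees `≥ deg 𝔪 - s - 1` die on `I^k X`. -/
theorem exists_emap_zero (X : Type u) [AddCommGroup X] [Module C X] [Module.Finite C X]
    (hX : ∀ p ∈ Module.support C X, ¬ I ≤ p.asIdeal → ∀ n : ℕ,
      _root_.LocCoh.depth (Localization.AtPrime p.asIdeal) (LocalizedModule p.asIdeal.primeCompl X) = n →
      (s ≤ n ∧ (IsTPoint I p → s < n)) ∨ d + s < n + (deg hω (IsLocalRing.closedPoint C) - deg hω p).toNat)
    (j : ℤ) (hj : deg hω (IsLocalRing.closedPoint C) ≤ j + (s + 1)) (x : E ω X j) :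
    ∃ k : ℕ, emap ω (I ^ k • (⊤ : Submodule C X)).subtype j x = 0 := by
  obtain ⟨lo, hi, hL⟩ := exists_injAmplitude hω
  haveI := isGE_of_injAmp hL
  obtain ⟨J, hJc, hJK, hJ, ⟨e⟩⟩ := exists_model ω lo ((DRingLib.isGE_iff_HD ω lo).1 inferInstance)
  haveI := hJK
  haveI : (Dual.inD C X).IsGE 0 := inferInstance
  refine exists_emap_zero_of_diesIn X e hJ I j ?_ x
  let a := lo
  let b := max hi lo
  haveI : (DerivedCategory.Q.obj (homCx X J)).IsGE a := (DRingLib.isGE_iff_HD _ a).2 fun q hq => by
    obtain ⟨η⟩ := nonempty_homology_homCx X e q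
    haveI : Subsingleton ((homCx X J).homology q) := subsingleton_of_forall_eq 0 fun y => by
      obtain ⟨z, rfl⟩ := RGam.cl_surjective (homCx X J) q y
      haveI := hJc q hq
      haveI : Subsingleton ((homCx X J).X q) := inferInstanceAs (Subsingleton (X →ₗ[C] J.X q))
      rw [Subsingleton.elim z 0, map_zero]
    exact (RGam.hdQ _ q).toEquiv.subsingleton
  haveI : (DerivedCategory.Q.obj (homCx X J)).IsLE b := (DRingLib.isLE_iff_HD _ b).2 fun q hq => by
    obtain ⟨η⟩ := nonempty_homology_homCx X e q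
    haveI : Subsingleton (E ω X q) := subsingleton_hom_of_isGE hL (Dual.inD C X) 0 q (by omega)
    exact ((RGam.hdQ _ q).trans η).toEquiv.subsingleton
  refine diesIn_of_homology (b + 1 - a).toNat a _ inferInstance ((ts C).isLE_of_le _ b _ (by omega)) j fun q _ _ => ?_
  obtain ⟨η⟩ := nonempty_homology_homCx X e q
  let ε := (RGam.hdQ (homCx X J) q).trans η
  haveI hfin : Module.Finite C (E ω X q) := DualLib.finite hω X q
  let N := Dual.HD C (DerivedCategory.Q.obj (homCx X J)) q
  haveI : Module.Finite C N := Module.Finite.equiv ε.symm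
  have key : ∀ p ∈ Module.support C N, ¬ I ≤ p.asIdeal →
      1 ≤ j - q ∧ ((d : ℤ) ≤ j - q ∨ ((deg hω (IsLocalRing.closedPoint C) - deg hω p).toNat : ℤ) ≤ j - q ∨
        (((deg hω (IsLocalRing.closedPoint C) - deg hω p).toNat : ℤ) = j - q + 1 ∧ ¬ IsTPoint I p)) := by
    intro p hp hpI
    rw [LinearEquiv.support_eq ε] at hp
    have hpX : p ∈ Module.support C X := by
      by_contra hne
      exact notMem_support_of_kills (annihilator_le_annihilator ω q)
        (fun hle => hne (Module.mem_support_iff_of_finite.2 hle)) hp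
    obtain ⟨n, hn⟩ : ∃ n : ℕ, _root_.LocCoh.depth (Localization.AtPrime p.asIdeal)
        (LocalizedModule p.asIdeal.primeCompl X) = n := by
      haveI : Nontrivial (LocalizedModule p.asIdeal.primeCompl X) := hpX
      haveI : Module.Finite (Localization.AtPrime p.asIdeal) (LocalizedModule p.asIdeal.primeCompl X) :=
        Module.Finite.of_isLocalizedModule p.asIdeal.primeCompl (LocalizedModule.mkLinearMap p.asIdeal.primeCompl X)
      exact ENat.ne_top_iff_exists.1 (CAlgH3.depth_lt_top.ne) |>.imp fun n h => h.symm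
    obtain ⟨hvan, -⟩ := localDepth_spec hω p n X hpX hn
    have hq' : q ≤ deg hω p - n := by
      by_contra hlt
      exact hvan q (by omega) hp
    have hlt : p < IsLocalRing.closedPoint C := lt_of_le_of_ne
      (show p ≤ IsLocalRing.closedPoint C from IsLocalRing.le_maximalIdeal p.2.ne_top) fun h => hpI (h ▸ hI)
    have hdeg := deg_lt hω hlt
    have hd1 := one_le_of_cdLE hI hcd hpI
    by_cases hT : IsTPoint I p
    · rcases hX p hpX hpI n hn with ⟨h1, h2⟩ | h
      · have := h2 hT
        exact ⟨by omega, Or.inr (Or.inl (by omega))⟩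
      · exact ⟨by omega, Or.inl (by omega)⟩
    · have hne : 2 ≤ deg hω (IsLocalRing.closedPoint C) - deg hω p := by
        simp only [IsTPoint, not_forall] at hT
        obtain ⟨P, hpP, hIP, hP⟩ := hT
        have h1 := deg_lt hω (lt_of_le_of_ne hpP fun h => hpI (h ▸ hIP))
        have h2 := deg_lt hω (lt_of_le_of_ne
          (show P ≤ IsLocalRing.closedPoint C from IsLocalRing.le_maximalIdeal P.2.ne_top) hP)
        omega
      rcases hX p hpX hpI n hn with ⟨h1, -⟩ | h
      · refine ⟨by omega, ?_⟩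
        rcases le_or_gt ((deg hω (IsLocalRing.closedPoint C) - deg hω p).toNat : ℤ) (j - q) with h' | h'
        · exact Or.inr (Or.inl h')
        · exact Or.inr (Or.inr ⟨by omega, hT⟩)
      · exact ⟨by omega, Or.inl (by omega)⟩
  rcases lt_trichotomy (j - q) 0 with hc | hc | hc
  · exact diesIn_neg hc
  · rw [hc]
    have hle : I ≤ (Module.annihilator C N).radical := by
      rw [Ideal.radical_eq_sInf]
      refine le_sInf fun P ⟨hP, hPprime⟩ => ?_
      by_contra hne
      have := (key ⟨P, hPprime⟩ (Module.mem_support_iff_of_finite.2 hP) hne).1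
      omega
    obtain ⟨n, hn⟩ := Ideal.exists_pow_le_of_le_radical_of_fg hle (IsNoetherian.noetherian _)
    exact diesIn_zero fun a ha y => Module.mem_annihilator.1 (hn ha) y
  · obtain ⟨c, hc'⟩ := Int.eq_ofNat_of_zero_le hc.le
    rw [hc']
    have hc1 : 1 ≤ c := by omega
    refine diesIn_pos hc1 ?_
    by_cases hdc : d ≤ c
    · exact hcd N (c + 1) (by omega)
    refine subsingleton_H_of_primes I (by omega) fun p hp => ?_
    by_cases hpI : I ≤ p.asIdeal
    · exact Or.inl hpI
    refine Or.inr ?_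
    obtain ⟨-, h | h | ⟨h, hT⟩⟩ := key p hp hpI
    · exact absurd h (by omega)
    · exact Or.inl (by rw [ringKrullDim_quotient_eq_deg hω p]; exact_mod_cast (show _ < c + 1 by omega))
    · exact Or.inr ⟨by rw [ringKrullDim_quotient_eq_deg hω p]; exact_mod_cast (show _ = c + 1 by omega),
        one_le_of_not_isTPoint hT⟩

end Groth.Agent.CAlgH3.DT
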