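import Groth.Agent.CAlgH3.DT.CechGood
import Groth.Agent.CAlgH3.DT.ComplBij
import Groth.Agent.CAlgH3.DT.ComplKill

/-! Cohomology of the completed Čech complex of finite modules. -/

set_option autoImplicit false
set_option backward.isDefEq.respectTransparency false
set_option backward.isDefEq.respectTransparency.types false
set_option backward.defeqAttrib.useBackward true
set_option linter.style.haveILetI false

universe u

open CategoryTheory CategoryTheory.Limits

attribute [local instance] HasDerivedCategory.standard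

namespace Groth.Agent.CAlgH3.DT

open Groth.Agent.CAlgH3.RGam Groth.Agent.CAlgH3.RGam.CechF Groth.Agent.CAlgH3.RGam.Lam Groth.Agent.CAlgH3.ExtCech
open Groth.Agent.DCat.DC

variable {A : Type u} [CommRing A] (I : Ideal A) (t : List A)

theorem smul_X_eq_zero_of_killed : ∀ (t : List A) (M : ModuleCat.{u} A) (a : A), (∀ m : M, a • m = 0) →
    ∀ (q : ℤ) (x : ((C t (𝟭 _)).obj M).X q), a • x = 0
  | [], M, a, h, q, x => by
    rcases single_cases M q with rfl | hs
    · exact (s0 M).injective (by rw [map_smul, map_zero]; exact h _)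
    · exact hs.elim _ _
  | f :: t, M, a, h, q, x => by
    have h' : ∀ y : (loc f).obj M, a • y = 0 := fun y => by
      refine loc_killed (Ideal.span {a}) f (fun b hb m => ?_) a (Ideal.mem_span_singleton_self a) y
      obtain ⟨c, rfl⟩ := Ideal.mem_span_singleton'.1 hb
      rw [mul_smul, h, smul_zero]
    exact cocone_ext (step f t (𝟭 _) M) (show q - 1 + 1 = q by omega)
      (by rw [afst_smul, smul_X_eq_zero_of_killed t M a h q]; exact (afst_zero _).symm)
      (by rw [asnd_smul, smul_X_eq_zero_of_killed t _ a h' (q - 1)]; exact (asnd_zero _ _).symm)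

/-- The completed cohomology. -/
noncomputable abbrev CH (M : ModuleCat.{u} A) (i : ℤ) : ModuleCat.{u} A := ((C t (Lam I)).obj M).homology i

/-- Functoriality. -/
noncomputable abbrev chMap {M N : ModuleCat.{u} A} (g : M ⟶ N) (i : ℤ) : CH I t M i →ₗ[A] CH I t N i :=
  hm ((C t (Lam I)).map g) i

theorem chMap_smul {M : ModuleCat.{u} A} (g : M ⟶ M) (a : A) (h : ∀ m, g.hom m = a • m) (i : ℤ) (z : CH I t M i) :
    chMap I t g i z = a • z := by
  obtain ⟨c, rfl⟩ := cl_surjective _ i z
  rw [chMap, hm, homologyMap_cl, ← map_smul]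
  exact congrArg _ (Subtype.ext (actsAs I t g a h i c.1))

theorem smul_ch_eq_zero (M : ModuleCat.{u} A) (a : A) (h : ∀ m : M, a • m = 0) (i : ℤ) (z : CH I t M i) :
    a • z = 0 := by
  obtain ⟨c, rfl⟩ := cl_surjective _ i z
  have h0 : a • c.1 = (0 : A) • c.1 :=
    (actsAs I t (0 : M ⟶ M) a (fun m => (h m).symm) i c.1).symm.trans
      (actsAs I t (0 : M ⟶ M) 0 (fun m => (zero_smul A m).symm) i c.1)
  rw [← map_smul, show a • c = 0 from Subtype.ext (h0.trans (zero_smul A c.1)), map_zero]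

theorem subsingleton_ch_of_neg (M : ModuleCat.{u} A) (i : ℤ) (hi : i < 0) : Subsingleton (CH I t M i) :=
  subsingleton_of_forall_eq 0 fun z => by
    obtain ⟨c, rfl⟩ := cl_surjective _ i z
    rw [show c = 0 from Subtype.ext ((subsingleton_X (Lam I) t M i hi).elim _ _), map_zero]

/-- The long exact sequence. -/
theorem exists_les {X Y Z : ModuleCat.{u} A} {g : X ⟶ Y} {h : Y ⟶ Z} (H : Good I g h) (i j : ℤ) (hij : i + 1 = j) :
    ∃ δ : CH I t Z i →ₗ[A] CH I t X j, Function.Exact δ (chMap I t g j) ∧ Function.Exact (chMap I t h i) δ := by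
  let Φ := C t (Lam I)
  have hc := fun q => Good.cech I t H q
  have hzero : Φ.map g ≫ Φ.map h = 0 := by
    ext q x
    exact (hc q).2.1.apply_apply_eq_zero x
  let S := ShortComplex.mk (Φ.map g) (Φ.map h) hzero
  have hS : S.ShortExact := HomologicalComplex.shortExact_of_degreewise_shortExact S fun q =>
    { exact := (ShortComplex.ShortExact.moduleCat_exact_iff_function_exact _).2 (hc q).2.1
      mono_f := (ModuleCat.mono_iff_injective _).2 (hc q).1
      epi_g := (ModuleCat.epi_iff_surjective _).2 (hc q).2.2 }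
  refine ⟨(hS.δ i j hij).hom, fun z => ⟨fun hz => ?_, ?_⟩, fun z => ⟨fun hz => ?_, ?_⟩⟩
  · exact (ShortComplex.moduleCat_exact_iff _).1 (hS.homology_exact₁ i j hij) z hz
  · rintro ⟨w, rfl⟩
    exact congrArg (fun φ => φ.hom w) (hS.δ_comp i j hij)
  · exact (ShortComplex.moduleCat_exact_iff _).1 (hS.homology_exact₃ i j hij) z hz
  · rintro ⟨w, rfl⟩
    exact congrArg (fun φ => φ.hom w) (hS.comp_δ i j hij)

theorem exists_ch_middle {X Y Z : ModuleCat.{u} A} {g : X ⟶ Y} {h : Y ⟶ Z} (H : Good I g h) (i : ℤ)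
    (y : CH I t Y i) (hy : chMap I t h i y = 0) : ∃ x, chMap I t g i x = y :=
  exists_hm_of_exact _ _ (fun q => (Good.cech I t H q).1) (fun q => (Good.cech I t H q).2.1)
    (fun q => (Good.cech I t H q).2.2) i y hy

/-- Cohomology of a module killed by `I` is torsion. -/
theorem exists_pow_smul_of_killed [IsNoetherianRing A] (J : Ideal A) (ht : Ideal.ofList t = J) (M : ModuleCat.{u} A)
    (h : ∀ a ∈ I, ∀ m : M, a • m = 0) (i : ℤ) (z : CH I t M i) : ∃ L : ℕ, ∀ a ∈ J ^ L, a • z = 0 := by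
  haveI := hasRgammaI (A := A) J
  obtain ⟨e, -⟩ := exists_compare J ht M
  obtain ⟨c, rfl⟩ := cl_surjective _ i z
  obtain ⟨b, hb⟩ := (cN_ofN_bijective I t M h i).2 c.1
  have hd : (((C t (𝟭 _)).obj M).d i (i + 1)).hom b = 0 := by
    apply (cN_ofN_bijective I t M h (i + 1)).1
    rw [map_zero, ← RGam.comm, hb]
    exact c.2
  obtain ⟨L, hL⟩ := (tors_Q_iff _).1 (Tors.of_iso e.symm (tors_RgammaI _ _)) i (cl _ i ⟨b, hd⟩)
  refine ⟨L, fun a ha => ?_⟩
  have e1 : cl _ i c = hm ((cN (ofN I) t).app M) i (cl _ i ⟨b, hd⟩) := by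
    rw [hm, homologyMap_cl]
    exact congrArg _ (Subtype.ext hb.symm)
  rw [e1, ← map_smul, hL a ha, map_zero]

/-- Cohomology vanishes when an element of the ideal acts as the identity. -/
theorem ch_eq_zero_of_unit [IsNoetherianRing A] (J : Ideal A) (ht : Ideal.ofList t = J) (M : ModuleCat.{u} A) (a : A)
    (ha : a ∈ J) (h : ∀ m : M, a • m = m) (i : ℤ) (z : CH I t M i) : z = 0 := by
  have hz : ∀ (n : ℕ) (j : ℤ) (y : ((C t (𝟭 _)).obj ((Qn I n).obj M)).homology j), y = 0 := by
    intro n j y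
    haveI := hasRgammaI (A := A) J
    let N := (Qn I n).obj M
    obtain ⟨e, -⟩ := exists_compare J ht N
    obtain ⟨L, hL⟩ := (tors_Q_iff _).1 (Tors.of_iso e.symm (tors_RgammaI _ _)) j y
    have h1 : ∀ m : N, (a - 1) • m = 0 := fun m => by
      obtain ⟨m, rfl⟩ := Submodule.Quotient.mk_surjective _ m
      rw [← Submodule.Quotient.mk_smul, sub_smul, h, one_smul, sub_self, Submodule.Quotient.mk_zero]
    obtain ⟨c, rfl⟩ := cl_surjective _ j y
    have h2 : a • c.1 = c.1 := by
      have h3 := smul_X_eq_zero_of_killed t N (a - 1) h1 j c.1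
      rwa [sub_smul, one_smul, sub_eq_zero] at h3
    have h4 : ∀ k : ℕ, a ^ k • c = c := fun k => by
      induction k with
      | zero => rw [pow_zero, one_smul]
      | succ k ih => rw [pow_succ, mul_smul, show a • c = c from Subtype.ext h2, ih]
    rw [← h4 L, map_smul]
    exact hL _ (Ideal.pow_mem_pow ha L)
  refine eq_zero_of_components I t M i (fun n => ?_) z fun n => ?_
  · haveI : Subsingleton (((C t (Qn I n)).obj M).homology (i - 1)) :=
      haveI : Subsingleton ((HomologicalComplex.homologyFunctor (ModuleCat.{u} A) (ComplexShape.up ℤ) (i - 1)).obj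
          ((C t (𝟭 (ModuleCat.{u} A))).obj ((Qn I n).obj M))) := subsingleton_of_forall_eq 0 (hz n _)
      ((HomologicalComplex.homologyFunctor (ModuleCat.{u} A) (ComplexShape.up ℤ) (i - 1)).mapIso
        (red I t M n)).toLinearEquiv.toEquiv.subsingleton
    infer_instance
  · apply ((HomologicalComplex.homologyFunctor (ModuleCat.{u} A) (ComplexShape.up ℤ) i).mapIso
        (red I t M n)).toLinearEquiv.injective
    rw [map_zero]
    exact hz n i _

theorem exists_pow_smul_mem_of_ch_zero (M : ModuleCat.{u} A) (z : LinearMap.ker (((C t (Lam I)).obj M).d 0 (0 + 1)).hom)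
    (x : M) (hx : val (Lam I) t M z.1 = AdicCompletion.of I M x) (g : A) (hg : g ∈ t) :
    ∀ n : ℕ, ∃ k : ℕ, g ^ k • x ∈ (I ^ n • ⊤ : Submodule A M) := by
  refine (map_lu_eq_zero_iff I g M x).1 ?_
  rw [← hx]
  exact (d_eq_zero_iff t M z.1).1 z.2 g hg

/-- Classes in degree zero vanish at primes outside `T`. -/
theorem exists_smul_ch_zero [IsNoetherianRing A] [IsAdicComplete I A] (J : Ideal A) (ht : Ideal.ofList t = J)
    (M : Type u) [AddCommGroup M] [Module A M] [Module.Finite A M] {p r : PrimeSpectrum A} (hpr : p ≤ r)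
    (hIr : I ≤ r.asIdeal) (hJr : ¬ J ≤ r.asIdeal) (z : CH I t (ModuleCat.of A M) 0) :
    ∃ g ∉ p.asIdeal, g • z = 0 := by
  haveI := Groth.Agent.AdicRing.isAdicComplete_of_finite (I := I) M
  obtain ⟨f, hft, hfr⟩ : ∃ f ∈ t, f ∉ r.asIdeal := by
    by_contra h
    push Not at h
    exact hJr (ht ▸ Ideal.span_le.2 h)
  obtain ⟨c, rfl⟩ := cl_surjective _ 0 z
  obtain ⟨x, hx⟩ := (AdicCompletion.of_bijective I M).2 (val (Lam I) t (ModuleCat.of A M) c.1)
  have hk := exists_pow_smul_mem_of_ch_zero I t (ModuleCat.of A M) c x hx.symm f hft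
  obtain ⟨m, hm⟩ := Ideal.exists_pow_inf_eq_pow_smul I (A ∙ x)
  obtain ⟨k, hk⟩ := hk (m + 1)
  have hk' : f ^ k • x ∈ (I • (A ∙ x) : Submodule A M) := by
    have h1 : f ^ k • x ∈ (I ^ (m + 1 - m) • (I ^ m • ⊤ ⊓ A ∙ x) : Submodule A M) :=
      (hm (m + 1) (by omega)) ▸ ⟨hk, Submodule.smul_mem _ _ (Submodule.mem_span_singleton_self x)⟩
    rw [Nat.add_sub_cancel_left, pow_one] at h1
    exact Submodule.smul_mono le_rfl inf_le_right h1
  obtain ⟨a, ha, hax⟩ := Submodule.mem_smul_span_singleton.1 hk'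
  refine ⟨f ^ k - a, fun h => hfr (r.2.mem_of_pow_mem k ?_), ?_⟩
  · rw [show f ^ k = (f ^ k - a) + a by ring]
    exact add_mem (hpr h) (hIr ha)
  · rw [← map_smul, show (f ^ k - a) • c = 0 from Subtype.ext ((bijective_val t (ModuleCat.of A M)).1 ?_), map_zero]
    show val (Lam I) t _ ((f ^ k - a) • c.1) = val (Lam I) t _ 0
    rw [val_zero]
    show s0 _ (((aug (Lam I) t (ModuleCat.of A M)).f 0).hom ((f ^ k - a) • c.1)) = 0
    rw [map_smul, map_smul]
    show (f ^ k - a) • val (Lam I) t (ModuleCat.of A M) c.1 = 0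
    rw [← hx]
    refine (map_smul (AdicCompletion.of I M) _ x).symm.trans ?_
    rw [sub_smul, hax, sub_self, map_zero]

/-- The completed Čech complex computes the completion of `RΓ_J`. -/
theorem nonempty_model [IsNoetherianRing A] (J : Ideal A) [DRing.HasRgammaI J] [DRing.HasDerivedCompletion I]
    (ht : Ideal.ofList t = J ⊔ I) (M : Type u) [AddCommGroup M] [Module A M] [Module.Finite A M] (i : ℤ) :
    Nonempty (Dual.HD A ((DRing.derivedCompletion I).obj ((DRing.RgammaI J).obj (Dual.inD A M))).obj i ≃ₗ[A]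
      CH I t (ModuleCat.of A M) i) := by
  haveI := hasRgammaI (A := A) I
  haveI := hasRgammaI (A := A) (J ⊔ I)
  let MM := ModuleCat.of A M
  let ν := (SingleFunctors.evaluation _ _ 0).mapIso (DerivedCategory.singleFunctorsPostcompQIso (ModuleCat.{u} A))
  let νM : Dual.inD A M ≅ DerivedCategory.Q.obj (single0 MM) := ν.app MM
  have hM : FinAlg MM := finAlg_of_finite M
  obtain ⟨e, -⟩ := exists_compare (J ⊔ I) ht MM
  let e' := e ≪≫ (DRing.RgammaI (J ⊔ I)).mapIso νM.symm
  have hr : IsCompl I (e'.inv ≫ DerivedCategory.Q.map ((cN (ofN I) t).app MM)) :=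
    ⟨(isCompl_cN t MM hM).1, (cIso_of_isIso e'.inv).comp (isCompl_cN t MM hM).2⟩
  obtain ⟨w, -⟩ := (isCompl_toDerivedCompletion I
    ((DRing.RgammaI (J ⊔ I)).obj (Dual.inD A M))).exists_iso hr
  obtain ⟨a₁⟩ := nonempty_completion_gamma I ((DRing.RgammaI J).obj (Dual.inD A M))
  obtain ⟨a₂⟩ := nonempty_comp (I := J) (J := I) (Dual.inD A M)
  let Φ : ((DRing.derivedCompletion I).obj ((DRing.RgammaI J).obj (Dual.inD A M))).obj ≅
      DerivedCategory.Q.obj ((C t (Lam I)).obj MM) :=
    (ObjectProperty.ι _).mapIso (a₁.symm ≪≫ (DRing.derivedCompletion I).mapIso a₂) ≪≫ w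
  exact ⟨((DerivedCategory.homologyFunctor (ModuleCat.{u} A) i).mapIso Φ).toLinearEquiv.trans
    (hdQ ((C t (Lam I)).obj MM) i)⟩

end Groth.Agent.CAlgH3.DT
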