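import Groth.Prelude
import Groth.Agent.InvLib.DepthLocalize
import Groth.Agent.LocCoh.FinitenessRegular
import Groth.Agent.CAlgH3.Altitude
import Groth.Agent.CAlgMisc2.CatenaryLocal
import Groth.Agent.EGA43.DimFormula.Ring

/-! Heights and the cutoff invariant along finite maps of universally catenary rings. -/

set_option autoImplicit false
set_option linter.style.haveILetI false

universe u

open IsLocalRing

namespace Groth.Agent.CAlgH3.DT.CutoffFinite

/-- The height of a prime is preserved by a finite extension of a universally catenary domain. -/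
theorem height_eq_of_finite (R S : Type u) [CommRing R] [IsDomain R] [CommRing S] [IsDomain S] [Algebra R S]
    [FaithfulSMul R S] [Module.Finite R S] (hR : CAlg.IsUniversallyCatenary R) (q : Ideal S) [q.IsPrime] :
    q.height = (q.under R).height := by
  haveI := hR.1
  let p := q.under R
  let W := Algebra.algebraMapSubmonoid S p.primeCompl
  let R' := Localization.AtPrime p
  let S' := Localization W
  letI : Algebra R' S' := localizationAlgebra p.primeCompl S
  haveI : IsScalarTower R R' S' := isScalarTower_localizationAlgebra p.primeCompl S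
  haveI : IsNoetherianRing R' := IsLocalization.isNoetherianRing p.primeCompl R' inferInstance
  have hW : W ≤ nonZeroDivisors S := by
    rintro _ ⟨a, ha, rfl⟩
    exact mem_nonZeroDivisors_of_ne_zero fun h0 => ha (by
      have : a = 0 := FaithfulSMul.algebraMap_injective R S (h0.trans (map_zero _).symm)
      rw [this]; exact Ideal.zero_mem _)
  haveI : IsDomain S' := IsLocalization.isDomain_localization hW
  haveI : IsLocalization (Submonoid.map (algebraMap R S) p.primeCompl) S' := inferInstanceAs (IsLocalization W S')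
  have hinj : Function.Injective (algebraMap R' S') :=
    IsLocalization.map_injective_of_injective p.primeCompl R' S' (FaithfulSMul.algebraMap_injective R S)
  haveI : FaithfulSMul R' S' := (faithfulSMul_iff_algebraMap_injective R' S').2 hinj
  haveI : Module.Finite R' S' := Module.Finite.of_isLocalization R S p.primeCompl
  have hdisj : Disjoint (W : Set S) (q : Set S) := Set.disjoint_left.2 fun x ⟨a, ha, hax⟩ hxq => ha (by
    rw [← hax] at hxq; exact hxq)
  let q' := q.map (algebraMap S S')
  haveI hq' : q'.IsPrime := IsLocalization.isPrime_of_isPrime_disjoint W S' _ inferInstance hdisj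
  have hqu : q'.under S = q := IsLocalization.under_map_of_isPrime_disjoint W S' inferInstance hdisj
  haveI : q'.LiesOver (maximalIdeal R') := ⟨by
    rw [← IsLocalization.map_under p.primeCompl R' (q'.under R'), Ideal.under_under,
      ← Ideal.under_under (B := S), hqu, Localization.AtPrime.map_eq_maximalIdeal]⟩
  have h := CAlgH3.Altitude.main R' S' q' fun A' hA' m' _ _ =>
    CAlgMisc2.isCatenary_of_isLocalization m'.primeCompl _
      ((CAlgMisc2.isUniversallyCatenary_localization p.primeCompl R' hR).2 A'
        ((Subalgebra.fg_iff_finiteType A').1 hA'))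
  haveI : Module.Finite R' (S' ⧸ q') := inferInstance
  haveI : Module.Finite (R' ⧸ maximalIdeal R') (S' ⧸ q') := Module.Finite.of_restrictScalars_finite R' _ _
  haveI : Algebra.IsAlgebraic (R' ⧸ maximalIdeal R') (S' ⧸ q') := Algebra.IsAlgebraic.of_finite _ _
  haveI : Algebra.IsAlgebraic R' S' := Algebra.IsAlgebraic.of_finite _ _
  rw [trdeg_eq_zero, trdeg_eq_zero, add_zero, add_zero, Cardinal.ofENat_inj] at h
  rw [← hqu, IsLocalization.height_under W q', h, ← IsLocalization.height_under p.primeCompl (maximalIdeal R'),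
    Localization.AtPrime.under_maximalIdeal, hqu]

variable {A B : Type u} [CommRing A] [CommRing B] [Algebra A B]

omit [Algebra A B] in
/-- Contraction is monotone. -/
theorem comap_le {f : A →+* B} {P Q : PrimeSpectrum B} (h : P ≤ Q) :
    PrimeSpectrum.comap f P ≤ PrimeSpectrum.comap f Q :=
  Ideal.comap_mono h

/-- Relative heights are preserved by a finite map. -/
theorem orderHeight_comap [IsNoetherianRing A] [IsNoetherianRing B] [Module.Finite A B]
    (hA : CAlg.IsUniversallyCatenary A) (P Q : PrimeSpectrum B) (h : P ≤ Q) :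
    Order.height (⟨Q, h⟩ : Set.Ici P) = Order.height (⟨PrimeSpectrum.comap (algebraMap A B) Q,
      comap_le h⟩ : Set.Ici (PrimeSpectrum.comap (algebraMap A B) P)) := by
  rw [LocCoh.orderHeight_eq_hq, LocCoh.orderHeight_eq_hq]
  let p := PrimeSpectrum.comap (algebraMap A B) P
  haveI : P.asIdeal.LiesOver p.asIdeal := ⟨rfl⟩
  haveI : FaithfulSMul (A ⧸ p.asIdeal) (B ⧸ P.asIdeal) :=
    (faithfulSMul_iff_algebraMap_injective _ _).2 (Ideal.quotientMap_injective' le_rfl)
  haveI : IsScalarTower A (A ⧸ p.asIdeal) (B ⧸ P.asIdeal) := .of_algebraMap_eq fun _ => rfl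
  haveI : Module.Finite (A ⧸ p.asIdeal) (B ⧸ P.asIdeal) := Module.Finite.of_restrictScalars_finite A _ _
  haveI : (Q.asIdeal.map (Ideal.Quotient.mk P.asIdeal)).IsPrime := LocCoh.isPrime_map_mk h
  show (Q.asIdeal.map (Ideal.Quotient.mk P.asIdeal)).height =
    ((Q.asIdeal.comap (algebraMap A B)).map (Ideal.Quotient.mk p.asIdeal)).height
  rw [height_eq_of_finite (A ⧸ p.asIdeal) (B ⧸ P.asIdeal)
    (EGA43.DimFormula.isUniversallyCatenary_quotient hA p.asIdeal)]
  congr 1
  refine Ideal.comap_injective_of_surjective (Ideal.Quotient.mk p.asIdeal) Ideal.Quotient.mk_surjective ?_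
  rw [LocCoh.comap_map_mk (show p.asIdeal ≤ Q.asIdeal.comap (algebraMap A B) from Ideal.comap_mono h),
    Ideal.under_def, Ideal.comap_comap]
  conv_rhs => rw [← LocCoh.comap_map_mk (show P.asIdeal ≤ Q.asIdeal from h), Ideal.comap_comap]
  rfl

variable [IsNoetherianRing A] [IsNoetherianRing B] [Module.Finite A B]

/-- The cutoff does not change along a finite map. -/
theorem cutoff_eq (hA : CAlg.IsUniversallyCatenary A) (I : Ideal A) (M : Type u) [AddCommGroup M] [Module B M]
    [Module A M] [IsScalarTower A B M] [Module.Finite B M] :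
    Dual2.cutoff B (I.map (algebraMap A B)) M = Dual2.cutoff A I M := by
  haveI : Module.Finite A M := Module.Finite.trans B M
  unfold Dual2.cutoff
  refine le_antisymm ?_ ?_
  · refine le_iInf fun p => le_iInf fun q => le_iInf fun hpq => le_iInf fun hp => le_iInf fun hq => ?_
    rw [(InvLib.supportDim_depth_eq (B := B) M p.asIdeal).2, ENat.iInf₂_add]
    refine le_iInf₂ fun P hP => ?_
    obtain ⟨Q', hQ', hQp, hQq⟩ := Ideal.exists_ideal_over_prime_of_isIntegral_of_isPrime (S := B) q.asIdeal P.asIdeal
      (hP.1.le.trans hpq)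
    obtain rfl : PrimeSpectrum.comap (algebraMap A B) P = p := PrimeSpectrum.ext hP.1
    obtain rfl : PrimeSpectrum.comap (algebraMap A B) ⟨Q', hQp⟩ = q := PrimeSpectrum.ext hQq
    refine iInf_le_of_le P (iInf_le_of_le ⟨Q', hQp⟩ (iInf_le_of_le hQ' (iInf_le_of_le ?_ (iInf_le_of_le ?_ ?_))))
    · exact fun h => hp (Ideal.map_le_iff_le_comap.1 h)
    · exact Ideal.map_le_iff_le_comap.2 hq
    · rw [orderHeight_comap hA P ⟨Q', hQp⟩ hQ']
  · refine le_iInf fun P => le_iInf fun Q => le_iInf fun hPQ => le_iInf fun hP => le_iInf fun hQ => ?_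
    refine iInf_le_of_le (PrimeSpectrum.comap (algebraMap A B) P) (iInf_le_of_le (PrimeSpectrum.comap (algebraMap A B) Q)
      (iInf_le_of_le (comap_le hPQ) (iInf_le_of_le ?_ (iInf_le_of_le ?_ ?_))))
    · exact fun h => hP (Ideal.map_le_iff_le_comap.2 h)
    · exact Ideal.map_le_iff_le_comap.1 hQ
    · by_cases hs : P ∈ Module.support B M
      · rw [(InvLib.supportDim_depth_eq (B := B) M (PrimeSpectrum.comap (algebraMap A B) P).asIdeal).2,
          orderHeight_comap hA P Q hPQ]
        exact add_le_add_left (iInf₂_le P ⟨rfl, hs⟩) _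
      · haveI := Module.notMem_support_iff.1 hs
        rw [CAlgH3.depth_eq_top_of_subsingleton (R := Localization.AtPrime P.asIdeal)
          (M := LocalizedModule P.asIdeal.primeCompl M), top_add]
        exact le_top

end Groth.Agent.CAlgH3.DT.CutoffFinite
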