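import Groth.Agent.DualLib.Trunc
import Groth.Agent.LocCoh.HLV
import Groth.Agent.LocCoh.ExtShift
import Groth.Agent.LocCoh.Vanishing
import Mathlib.Algebra.Module.PID

/-! Classes on the punctured neighbourhood of `V(I)`: when does every map `I^k → K⟦j⟧` die? -/

set_option autoImplicit false
set_option backward.isDefEq.respectTransparency false
set_option backward.defeqAttrib.useBackward true
set_option linter.style.haveILetI false

universe u

open CategoryTheory CategoryTheory.Limits CategoryTheory.Pretriangulated CategoryTheory.Abelian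

attribute [local instance] HasDerivedCategory.standard

namespace Groth.Agent.CAlgH3.DT

open Groth.Agent.DualLib

variable {A : Type u} [CommRing A] (I : Ideal A)

/-- `I^l ⊆ I^k`. -/
abbrev pinc {k l : ℕ} (h : k ≤ l) : (I ^ l : Ideal A) →ₗ[A] (I ^ k : Ideal A) :=
  Submodule.inclusion (Ideal.pow_le_pow_right h)

/-- Every map `I^k → K⟦j⟧` dies on some `I^l`. -/
def DiesIn (K : Dual.D A) (j : ℤ) : Prop :=
  ∀ (k : ℕ) (φ : E K (I ^ k : Ideal A) j), ∃ (l : ℕ) (h : k ≤ l), emap K (pinc I h) j φ = 0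

variable {I}

theorem emap_post {N N' : Type u} [AddCommGroup N] [Module A N] [AddCommGroup N'] [Module A N'] {K L : Dual.D A}
    (g : N' →ₗ[A] N) {i j : ℤ} (φ : E K N j) (ψ : K⟦j⟧ ⟶ L⟦i⟧) :
    emap L g i (φ ≫ ψ) = emap K g j φ ≫ ψ := by
  rw [emap_apply, emap_apply]
  exact (Category.assoc _ _ _).symm

theorem DiesIn.of_iso {K L : Dual.D A} {j : ℤ} (h : DiesIn I K j) (e : K ≅ L) : DiesIn I L j := fun k φ => by
  obtain ⟨l, hl, h0⟩ := h k (φ ≫ e.inv⟦j⟧')
  refine ⟨l, hl, ?_⟩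
  have h1 : emap L (pinc I hl) j φ ≫ e.inv⟦j⟧' = 0 := by
    rw [← emap_post]
    exact h0
  rwa [← cancel_mono (e.inv⟦j⟧'), zero_comp]

theorem DiesIn.mid {T : Triangle (Dual.D A)} (hT : T ∈ distTriang _) {j : ℤ} (h₁ : DiesIn I T.obj₁ j)
    (h₃ : DiesIn I T.obj₃ j) : DiesIn I T.obj₂ j := fun k φ => by
  obtain ⟨l, hl, h0⟩ := h₃ k (φ ≫ T.mor₂⟦j⟧')
  have h1 : emap T.obj₂ (pinc I hl) j φ ≫ T.mor₂⟦j⟧' = 0 := by
    rw [← emap_post]
    exact h0
  obtain ⟨g, hg⟩ := Triangle.coyoneda_exact₂ _ (Triangle.shift_distinguished T hT j) (emap T.obj₂ (pinc I hl) j φ) (by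
    show _ ≫ (j.negOnePow • T.mor₂⟦j⟧') = 0
    rw [Linear.comp_units_smul, h1, smul_zero])
  obtain ⟨l', hl', h0'⟩ := h₁ l (j.negOnePow • g)
  refine ⟨l', hl.trans hl', ?_⟩
  have h2 : emap T.obj₂ (pinc I hl) j φ = (j.negOnePow • g) ≫ T.mor₁⟦j⟧' := by
    rw [hg, Linear.units_smul_comp]
    show g ≫ (j.negOnePow • T.mor₁⟦j⟧') = _
    rw [Linear.comp_units_smul]
  rw [show pinc I (hl.trans hl') = pinc I hl ∘ₗ pinc I hl' from rfl, emap_comp, LinearMap.comp_apply, h2]
  rw [emap_post, h0', zero_comp]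

theorem diesIn_of_isZero {K : Dual.D A} (hK : IsZero K) (j : ℤ) : DiesIn I K j := fun k _ =>
  ⟨k, le_rfl, ((shiftFunctor (Dual.D A) j).map_isZero hK).eq_of_tgt _ _⟩

theorem comp_pinc_eq_zero {N : Type u} [AddCommGroup N] [Module A N] {n k : ℕ}
    (hn : ∀ a ∈ I ^ n, ∀ x : N, a • x = 0) (ψ : (I ^ k : Ideal A) →ₗ[A] N) (y : A) (hy : y ∈ I ^ n * I ^ k)
    (hyk : y ∈ I ^ k) : ψ ⟨y, hyk⟩ = 0 := by
  induction hy using Submodule.mul_induction_on' with
  | mem_mul_mem a ha b hb =>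
    rw [show (⟨a * b, hyk⟩ : (I ^ k : Ideal A)) = a • (⟨b, hb⟩ : (I ^ k : Ideal A)) from Subtype.ext rfl, map_smul]
    exact hn a ha _
  | add a ha b hb h1 h2 =>
    have ha' : a ∈ I ^ k := Ideal.mul_le_right ha
    have hb' : b ∈ I ^ k := Ideal.mul_le_right hb
    have e1 : (⟨a + b, hyk⟩ : (I ^ k : Ideal A)) = (⟨a, ha'⟩ : (I ^ k : Ideal A)) + ⟨b, hb'⟩ := Subtype.ext rfl
    refine (congrArg ψ e1).trans ((map_add ψ _ _).trans ?_)
    rw [h1 ha', h2 hb', add_zero]

/-- Maps of a power of `I` into a finite module killed by a power of `I` die. -/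
theorem diesIn_zero {N : Type u} [AddCommGroup N] [Module A N] {n : ℕ} (hn : ∀ a ∈ I ^ n, ∀ x : N, a • x = 0) :
    DiesIn I (Dual.inD A N) 0 := by
  intro k φ
  obtain ⟨x, rfl⟩ := (Ext.homLinearEquiv (R := A) (X := ModuleCat.of A (I ^ k : Ideal A))
    (Y := ModuleCat.of A N) (n := 0)).surjective φ
  obtain ⟨g, rfl⟩ := (Ext.mk₀_bijective _ _).2 x
  refine ⟨n + k, Nat.le_add_left k n, ?_⟩
  have hz : ModuleCat.ofHom (pinc I (Nat.le_add_left k n)) ≫ g = 0 :=
    ModuleCat.hom_ext (LinearMap.ext fun z =>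
      comp_pinc_eq_zero hn g.hom z.1 (by rw [← pow_add]; exact z.2) (Ideal.pow_le_pow_right (Nat.le_add_left k n) z.2))
  have h2 := congrArg (Ext.homLinearEquiv (R := A))
    ((Ext.mk₀_comp_mk₀ (ModuleCat.ofHom (pinc I (Nat.le_add_left k n))) g).trans ((congrArg Ext.mk₀ hz).trans (Ext.mk₀_zero _ _)))
  rw [map_zero] at h2
  refine Eq.trans ?_ h2
  show _ = ((Ext.mk₀ (ModuleCat.ofHom (pinc I (Nat.le_add_left k n)))).comp (Ext.mk₀ g) (zero_add 0)).hom
  rw [Ext.comp_hom, Ext.mk₀_hom, ShiftedHom.mk₀_comp]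
  rfl

/-- Maps of a power of `I` into `N⟦c⟧` die if `H^{c+1}_I(N) = 0`. -/
theorem diesIn_pos {N : Type u} [AddCommGroup N] [Module A N] {c : ℕ} (hc : 1 ≤ c)
    (h : Subsingleton (_root_.LocCoh.H I (c + 1) N)) : DiesIn I (Dual.inD A N) (c : ℤ) := by
  intro k φ
  obtain ⟨x, rfl⟩ := (Ext.homLinearEquiv (R := A) (X := ModuleCat.of A (I ^ k : Ideal A))
    (Y := ModuleCat.of A N) (n := c)).surjective φ
  obtain ⟨l, hl, h0⟩ := (LocCoh.cls_eq_zero_iff (I := I) (LocCoh.powDelta I k c _ x)).1 (Subsingleton.elim _ _)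
  rw [← LocCoh.powDelta_pre I hl] at h0
  have h1 := (LocCoh.powDelta_bijective I l hc _).1 (h0.trans (map_zero _).symm)
  refine ⟨l, hl, ?_⟩
  have h2 := congrArg (Ext.homLinearEquiv (R := A)) h1
  rw [map_zero] at h2
  refine Eq.trans ?_ h2
  show _ = ((Ext.mk₀ (ModuleCat.ofHom (pinc I hl))).comp x (zero_add c)).hom
  rw [Ext.comp_hom, Ext.mk₀_hom, ShiftedHom.mk₀_comp]
  rfl

theorem diesIn_neg {N : Type u} [AddCommGroup N] [Module A N] {c : ℤ} (hc : c < 0) :
    DiesIn I (Dual.inD A N) c := fun k φ => by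
  refine ⟨k, le_rfl, ?_⟩
  haveI : ((Dual.inD A N)⟦c⟧).IsGE (-c) := (ts A).isGE_shift (Dual.inD A N) 0 c (-c) (by omega)
  exact (ts A).zero _ 0 (-c) (by omega)

/-- The degree shift. -/
theorem DiesIn.shift {K : Dual.D A} {m i j : ℤ} (hij : m + i = j) (h : DiesIn I K j) : DiesIn I (K⟦m⟧) i :=
  fun k φ => by
    let c := (shiftFunctorAdd' (Dual.D A) m i j hij).app K
    obtain ⟨l, hl, h0⟩ := h k (φ ≫ c.inv)
    refine ⟨l, hl, ?_⟩
    have h1 : emap (K⟦m⟧) (pinc I hl) i φ ≫ c.inv = 0 := by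
      rw [emap_apply] at h0 ⊢
      exact (Category.assoc _ _ _).trans h0
    rwa [← cancel_mono c.inv, zero_comp]

/-- Dying for an object follows from dying for its cohomology modules. -/
theorem diesIn_of_homology : ∀ (n : ℕ) (a : ℤ) (X : Dual.D A), X.IsGE a → X.IsLE (a + n - 1) → ∀ j : ℤ,
    (∀ q : ℤ, a ≤ q → q < a + n → DiesIn I (Dual.inD A (Dual.HD A X q)) (j - q)) → DiesIn I X j := by
  intro n
  induction n with
  | zero =>
    intro a X hge hle j _
    exact diesIn_of_isZero ((ts A).isZero X (a + (0 : ℕ) - 1) a (by omega)) j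
  | succ n ih =>
    intro a X hge hle j h
    let T := ((ts A).triangleLTGE (a + n)).obj X
    haveI h₁ : (((ts A).truncLT (a + n)).obj X).IsLE (a + n - 1) := (ts A).isLE_truncLT_obj _ _ _ (by omega)
    haveI : (((ts A).truncLT (a + n)).obj X).IsGE a := inferInstance
    refine DiesIn.mid (T := T) ((ts A).triangleLTGE_distinguished (a + n) X) ?_ ?_
    · refine ih a _ inferInstance h₁ j fun q hq hq' => ?_
      exact (h q hq (by push_cast; omega)).of_iso ((S0 A).mapIso (hTruncLT X (a + n) q hq').symm.toModuleIso)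
    · haveI : X.IsLE (a + n) := by
        have : a + ((n + 1 : ℕ) : ℤ) - 1 = a + n := by push_cast; omega
        exact this ▸ hle
      haveI : (((ts A).truncGE (a + n)).obj X).IsGE (a + n) := inferInstance
      haveI : (((ts A).truncGE (a + n)).obj X).IsLE (a + n) := inferInstance
      obtain ⟨e⟩ := exists_single_iso (((ts A).truncGE (a + n)).obj X) (a + n)
      let N := ModuleCat.of A (Dual.HD A (((ts A).truncGE (a + n)).obj X) (a + n))
      have hN : DiesIn I ((S0 A).obj N) (j - (a + n)) := (h (a + n) (by omega) (by push_cast; omega)).of_iso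
        ((S0 A).mapIso (hTruncGE X (a + n) (a + n) le_rfl).toModuleIso)
      exact ((hN.shift (m := -(a + n)) (i := j) (by ring)).of_iso
        (((((DerivedCategory.singleFunctors (ModuleCat.{u} A)).shiftIso (-(a + n)) (a + n) 0 (by omega)).app N).symm).symm ≪≫ e))

section Complete

variable [IsLocalRing A] [IsNoetherianRing A] [IsAdicComplete (IsLocalRing.maximalIdeal A) A]

variable (I) in
/-- Vanishing of the top local cohomology of a finite module over a complete local ring. -/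
theorem subsingleton_H_of_primes {e : ℕ} (he : 1 ≤ e) {N : Type u} [AddCommGroup N] [Module A N] [Module.Finite A N]
    (h : ∀ p ∈ Module.support A N, I ≤ p.asIdeal ∨ ringKrullDim (A ⧸ p.asIdeal) < (e : WithBot ℕ∞) ∨
      (ringKrullDim (A ⧸ p.asIdeal) = (e : WithBot ℕ∞) ∧ 1 ≤ ringKrullDim (A ⧸ (I ⊔ p.asIdeal)))) :
    Subsingleton (_root_.LocCoh.H I e N) := by
  have hp : ∀ p : PrimeSpectrum A, (I ≤ p.asIdeal ∨ ringKrullDim (A ⧸ p.asIdeal) < (e : WithBot ℕ∞) ∨
      (ringKrullDim (A ⧸ p.asIdeal) = (e : WithBot ℕ∞) ∧ 1 ≤ ringKrullDim (A ⧸ (I ⊔ p.asIdeal)))) →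
      Subsingleton (_root_.LocCoh.H I e (A ⧸ p.asIdeal)) := by
    rintro ⟨p, hp⟩ (h1 | h1 | ⟨h1, h2⟩)
    · refine LocCoh.subsingleton_H_of_powerTorsion e _ (fun x => ⟨1, fun a ha => ?_⟩) (by omega)
      obtain ⟨x, rfl⟩ := Submodule.Quotient.mk_surjective _ x
      rw [pow_one] at ha
      rw [← Submodule.Quotient.mk_smul, Submodule.Quotient.mk_eq_zero]
      exact Ideal.mul_mem_right _ _ (h1 ha)
    · exact LocCoh.subsingleton_H_of_supportDim_lt (by rwa [Module.supportDim_quotient_eq_ringKrullDim])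
    · haveI : IsLocalRing (A ⧸ p) :=
        IsLocalRing.of_surjective' (Ideal.Quotient.mk p) Ideal.Quotient.mk_surjective
      have hmap : (IsLocalRing.maximalIdeal A).map (algebraMap A (A ⧸ p)) = IsLocalRing.maximalIdeal (A ⧸ p) :=
        IsLocalRing.map_maximalIdeal_of_surjective _ Ideal.Quotient.mk_surjective
      haveI : IsAdicComplete (IsLocalRing.maximalIdeal (A ⧸ p)) (A ⧸ p) := by
        rw [← hmap]
        exact (IsAdicComplete.map_algebraMap_iff _ _).2 (AdicRing.isAdicComplete_of_finite _ _)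
      obtain ⟨φ, -⟩ := LocCoh.exists_H_independence A (A ⧸ p) I e (A ⧸ p)
      haveI : Subsingleton (_root_.LocCoh.H (I.map (algebraMap A (A ⧸ p))) e (A ⧸ p)) := by
        refine LocCoh.subsingleton_H_complete (A ⧸ p) e h1.le _ fun P hP hPe => ?_
        haveI := hP
        have hbot : P = ⊥ := by
          by_contra hne
          have h3 := CAlgH3.ringKrullDim_quotient_add_one_le (R := A ⧸ p) (p := ⊥) (q := P)
            (bot_lt_iff_ne_bot.2 hne)
          rw [hPe, ringKrullDim_eq_of_ringEquiv (RingEquiv.quotientBot (A ⧸ p)), h1] at h3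
          exact absurd (show e + 1 ≤ e by exact_mod_cast h3) (Nat.not_succ_le_self e)
        rw [hbot, sup_bot_eq, Ideal.Quotient.algebraMap_eq,
          ringKrullDim_eq_of_ringEquiv (DoubleQuot.quotQuotEquivQuotSup p I), sup_comm]
        exact h2
      exact φ.symm.toEquiv.subsingleton
  suffices H : ∀ (M : Type u) [AddCommGroup M] [Module A M] [Module.Finite A M],
      Module.support A M ⊆ Module.support A N → Subsingleton (_root_.LocCoh.H I e M) from H N subset_rfl
  intro M _ _ hM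
  induction hM using IsNoetherianRing.induction_on_isQuotientEquivQuotientPrime A with
  | subsingleton M => exact fun _ => LocCoh.subsingleton_H_of_subsingleton e
  | quotient M p ε =>
    intro hs
    haveI := hp p (h p (hs ((LinearEquiv.support_eq ε).symm ▸
      (Module.mem_support_iff_of_finite.2 (by rw [Ideal.annihilator_quotient])))))
    exact (LocCoh.Hequiv I e ε).toEquiv.subsingleton
  | exact N₁ N₂ N₃ f g hf hg hfg h₁ h₃ =>
    intro hs
    haveI := h₁ ((Module.support_subset_of_injective f hf).trans hs)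
    haveI := h₃ ((Module.support_subset_of_surjective g hg).trans hs)
    exact LocCoh.subsingleton_mid hf hg hfg e

end Complete

end Groth.Agent.CAlgH3.DT
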