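import Groth.Agent.CAlgH3.DT.HomLoc
import Groth.Agent.DualLib.CxDualityHDI
import Groth.Agent.DualLib.Shift
import Groth.Agent.DualLib.LocalDim
import Groth.Agent.DualLib.LocSupport
import Groth.Agent.Matlis6.HullExistence

/-! Local cohomology at a prime and `Hom` into a dualizing complex. -/

set_option autoImplicit false
set_option backward.isDefEq.respectTransparency false
set_option backward.defeqAttrib.useBackward true
set_option linter.style.haveILetI false

universe u

open CategoryTheory CategoryTheory.Limits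

attribute [local instance] HasDerivedCategory.standard

namespace Groth.Agent.CAlgH3.DT

open Groth.Agent.DualLib

/-- The Matlis dual detects annihilation. -/
theorem smul_eq_zero_of_dual {R : Type u} [CommRing R] [IsLocalRing R] {E₀ : Type u} [AddCommGroup E₀] [Module R E₀]
    {f₀ : IsLocalRing.ResidueField R →ₗ[R] E₀} (hf₀ : InjHull.IsInjectiveHull f₀) {M : Type*} [AddCommGroup M]
    [Module R M] [Module.Finite R M] {r : R} (h : ∀ t : M →ₗ[R] E₀, r • t = 0) (x : M) : r • x = 0 := by
  by_contra hx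
  haveI : Module.Injective R E₀ := hf₀.isInjective
  let y := r • x
  let I : Ideal R := LinearMap.ker (LinearMap.toSpanSingleton R M y)
  have hI : I ≤ IsLocalRing.maximalIdeal R := IsLocalRing.le_maximalIdeal fun h1 => hx (by
    have h2 : (1 : R) ∈ I := by rw [h1]; trivial
    simpa [I, y] using h2)
  have hI' : I ≤ Submodule.comap LinearMap.id (IsLocalRing.maximalIdeal R) := fun a ha => hI ha
  let g : (LinearMap.toSpanSingleton R M y).range →ₗ[R] E₀ :=
    f₀ ∘ₗ Submodule.mapQ I (IsLocalRing.maximalIdeal R) LinearMap.id hI' ∘ₗ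
      (LinearMap.toSpanSingleton R M y).quotKerEquivRange.symm.toLinearMap
  obtain ⟨t, ht⟩ := (Module.Baer.of_injective (inferInstance : Module.Injective R E₀)).extension_property
    (LinearMap.toSpanSingleton R M y).range.subtype Subtype.val_injective g
  have h1 : g ⟨y, 1, one_smul R y⟩ = 0 := by
    rw [← LinearMap.congr_fun ht]
    show t (r • x) = 0
    rw [map_smul]
    exact LinearMap.congr_fun (h t) x
  have h2 : (LinearMap.toSpanSingleton R M y).quotKerEquivRange.symm ⟨y, 1, one_smul R y⟩ =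
      Submodule.Quotient.mk 1 := by
    rw [LinearEquiv.symm_apply_eq]
    exact Subtype.ext (one_smul R y).symm
  have h3 : f₀ (Submodule.Quotient.mk 1) = 0 := by
    rw [← h1]
    show _ = f₀ (Submodule.mapQ I _ LinearMap.id hI' _)
    rw [show (LinearMap.toSpanSingleton R M y).quotKerEquivRange.symm.toLinearMap ⟨y, 1, one_smul R y⟩ = _ from h2]
    rfl
  have h4 := hf₀.injective (h3.trans (map_zero f₀).symm)
  exact (Ideal.ne_top_iff_one _).1 (IsLocalRing.maximalIdeal.isMaximal R).ne_top
    ((Submodule.Quotient.mk_eq_zero _).1 h4)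

variable {A : Type u} [CommRing A] [IsNoetherianRing A] (q : PrimeSpectrum A)

local notation "Bq" => Localization.AtPrime q.asIdeal
local notation "φ" => algebraMap A (Localization.AtPrime q.asIdeal)

variable {ω : Dual.D A} (hω : Dual.IsDualizing A ω)
include hω

theorem isNormalized_loc : Dual.IsNormalized Bq (((extD φ).obj ω)⟦deg hω q⟧) := by
  haveI : IsNoetherianRing Bq := IsLocalization.isNoetherianRing q.asIdeal.primeCompl Bq inferInstance
  have hW : Dual.IsDualizing Bq ((extD φ).obj ω) := isDualizing_extD q.asIdeal.primeCompl hω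
  obtain ⟨lo, hi, hge, -⟩ := exists_bound hω
  let P := IsLocalRing.closedPoint Bq
  have hP : PrimeSpectrum.comap φ P = q := PrimeSpectrum.ext Localization.AtPrime.under_maximalIdeal
  have hdeg : deg hω q = deg hW P := by
    refine (mem_support_iff_eq_deg (B := Localization.AtPrime q.asIdeal) q.asIdeal.primeCompl hW (Iso.refl _) hge P
      (deg hω q) inferInstance).1 ?_
    rw [hP]
    exact (deg_spec hω q _).2 rfl
  intro i hi'
  haveI : Subsingleton (Dual.inD Bq (IsLocalRing.ResidueField Bq) ⟶ ((extD φ).obj ω)⟦deg hω q + i⟧) := by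
    by_contra hne
    haveI : Nontrivial (Dual.inD Bq (Bq ⧸ P.asIdeal) ⟶ ((extD φ).obj ω)⟦deg hω q + i⟧) := not_subsingleton_iff_nontrivial.1 hne
    obtain ⟨Q, hQ⟩ := Module.nonempty_support_of_nontrivial (R := Bq)
      (M := E ((extD φ).obj ω) (Bq ⧸ P.asIdeal) (deg hω q + i))
    have hQP : P ≤ Q := by
      show IsLocalRing.maximalIdeal Bq ≤ Q.asIdeal
      refine le_trans ?_ (Module.annihilator_le_of_mem_support hQ)
      exact (Ideal.annihilator_quotient (I := P.asIdeal)).ge.trans (annihilator_le_annihilator _ _)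
    have hQ' : Q = P := PrimeSpectrum.ext (le_antisymm (IsLocalRing.le_maximalIdeal Q.2.ne_top) hQP)
    have := (deg_spec hW P (deg hω q + i)).1 (hQ' ▸ hQ)
    omega
  exact (homShift _ _ (deg hω q) i (deg hω q + i) rfl).symm.injective.subsingleton

theorem kills_HDI_hom (K : Dual.D A) (hK : ∀ i, Module.Finite A (Dual.HD A K i)) {K' : Dual.D Bq}
    (e : K' ≅ (extD φ).obj K) (i : ℤ) (r : Bq) :
    (∀ x : Dual2.HDI Bq (IsLocalRing.maximalIdeal Bq) K' i, r • x = 0) ↔
      ∀ f : (extD φ).obj K ⟶ ((extD φ).obj ω)⟦deg hω q - i⟧, r • f = 0 := by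
  haveI : IsNoetherianRing Bq := IsLocalization.isNoetherianRing q.asIdeal.primeCompl Bq inferInstance
  let W := ((extD φ).obj ω)⟦deg hω q⟧
  have hW : Dual.IsDualizing Bq W := isDualizing_shift (isDualizing_extD q.asIdeal.primeCompl hω) _
  obtain ⟨E₀, _, _, f₀, hf₀⟩ := Matlis6.exists_isInjectiveHull Bq (IsLocalRing.ResidueField Bq)
  have hK' : ∀ j, Module.Finite Bq (Dual.HD Bq K' j) := fun j =>
    haveI := hK j
    haveI := finite_HD_extD (B := Localization.AtPrime q.asIdeal) K j
    Module.Finite.equiv ((DerivedCategory.homologyFunctor (ModuleCat.{u} Bq) j).mapIso e).toLinearEquiv.symm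
  obtain ⟨Ψ⟩ := CxDuality.nonempty_HDI_equiv hW (isNormalized_loc q hω) hf₀ K' hK' i
  haveI := CxDuality.finite_hom hW K' hK' (-i)
  let χ : (K' ⟶ W⟦(-i)⟧) ≃ₗ[Bq] ((extD φ).obj K ⟶ ((extD φ).obj ω)⟦deg hω q - i⟧) :=
    (homShift K' ((extD φ).obj ω) (deg hω q) (-i) (deg hω q - i) (by ring)).symm.trans
      (Linear.homCongr Bq e (Iso.refl _))
  constructor
  · intro h f
    refine χ.symm.injective ?_
    rw [map_smul, map_zero]
    refine smul_eq_zero_of_dual hf₀ (fun t => ?_) _
    obtain ⟨x, rfl⟩ := Ψ.surjective t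
    rw [← map_smul, h, map_zero]
  · intro h x
    refine Ψ.injective ?_
    rw [map_smul, map_zero]
    refine LinearMap.ext fun ψ => ?_
    rw [LinearMap.smul_apply, ← map_smul, show r • ψ = 0 from χ.injective (by rw [map_smul, h, map_zero]), map_zero,
      LinearMap.zero_apply]

/-- Local annihilation in terms of the dual. -/
theorem lk_iff_hom {K : Dual.D A} (hK : ∀ i, Module.Finite A (Dual.HD A K i)) (c : ℤ) [K.IsGE c]
    {J : DRing.Cx A} (hJ : ∀ j, Module.Injective A (J.X j)) (hJc : ∀ j < c, Subsingleton (J.X j))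
    (e : DerivedCategory.Q.obj J ≅ K) (i : ℤ) (r : A) :
    LK J q i r ↔ ∀ θ : K ⟶ ω⟦deg hω q - i⟧, ∃ s ∉ q.asIdeal, s • r • θ = 0 := by
  obtain ⟨lo, hi, hL⟩ := exists_injAmplitude hω
  rw [← kills_HDI_iff q hJ hJc e, kills_HDI_hom q hω K hK (Iso.refl _) i (φ r), kills_hom_iff q hL K c hK]

/-- Vanishing of local cohomology of the derived base change in terms of the dual. -/
theorem subsingleton_HDI_iff [DRing.HasLBaseChange φ] (K : Dual.D A) (c : ℤ) [K.IsGE c]
    (hK : ∀ i, Module.Finite A (Dual.HD A K i)) (i : ℤ) :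
    Subsingleton (Dual2.HDI Bq (IsLocalRing.maximalIdeal Bq) ((DRing.LBaseChange φ).obj K) i) ↔
      ∀ θ : K ⟶ ω⟦deg hω q - i⟧, ∃ s ∉ q.asIdeal, s • θ = 0 := by
  obtain ⟨e⟩ := nonempty_LBaseChange_iso (flat_atPrime q) K
  obtain ⟨lo, hi, hL⟩ := exists_injAmplitude hω
  have h := (kills_HDI_hom q hω K hK e i (φ 1)).trans (kills_hom_iff q hL K c hK (deg hω q - i) 1)
  simp only [map_one, one_smul] at h
  rw [← h]
  exact ⟨fun _ x => Subsingleton.elim x 0, subsingleton_of_forall_eq 0⟩

end Groth.Agent.CAlgH3.DT
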