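import Groth.Agent.CAlgH3.DT.HDT

/-! Finiteness of cohomology with supports from uniform annihilation. -/

set_option autoImplicit false
set_option backward.isDefEq.respectTransparency false
set_option linter.style.haveILetI false

universe u

open CategoryTheory CategoryTheory.Limits

namespace Groth.Agent.CAlgH3.DT

open GammaQuot (gam mem_gam)

variable {A : Type u} [CommRing A]

section Cone

variable (f : A) (J : DRing.Cx A)

/-- The differential of the cone of `f • id`. -/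
noncomputable def coneD (k : ℤ) : (J.X (k + 1) × J.X k) →ₗ[A] (J.X (k + 1 + 1) × J.X (k + 1)) :=
  LinearMap.prod (-((J.d (k + 1) (k + 1 + 1)).hom ∘ₗ LinearMap.fst A _ _))
    (f • LinearMap.fst A _ _ + (J.d k (k + 1)).hom ∘ₗ LinearMap.snd A _ _)

theorem coneD_apply (k : ℤ) (x : J.X (k + 1) × J.X k) :
    coneD f J k x = (-(J.d (k + 1) (k + 1 + 1)).hom x.1, f • x.1 + (J.d k (k + 1)).hom x.2) := rfl

theorem d_d (i j k : ℤ) (x : J.X i) : (J.d j k).hom ((J.d i j).hom x) = 0 :=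
  congrArg (fun g => g.hom x) (J.d_comp_d i j k)

/-- The cone of `f • id`. -/
noncomputable def cone : DRing.Cx A :=
  CochainComplex.of (fun i => ModuleCat.of A (J.X (i + 1) × J.X i)) (fun k => ModuleCat.ofHom (coneD f J k))
    (fun k => ModuleCat.hom_ext (LinearMap.ext fun x => by
      show coneD f J (k + 1) (coneD f J k x) = 0
      rw [coneD_apply, coneD_apply, map_neg, neg_neg, d_d, map_add, map_smul, d_d, add_zero]
      refine Prod.ext rfl ?_
      show f • (-(J.d (k + 1) (k + 1 + 1)).hom x.1) + f • (J.d (k + 1) (k + 1 + 1)).hom x.1 = 0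
      rw [smul_neg, neg_add_cancel]))

theorem cone_d (k : ℤ) : (cone f J).d k (k + 1) = ModuleCat.ofHom (coneD f J k) :=
  by simp [cone, CochainComplex.of, CochainComplex.of.d]

theorem injective_cone (hJ : ∀ i, Module.Injective A (J.X i)) (i : ℤ) : Module.Injective A ((cone f J).X i) := by
  haveI := hJ (i + 1)
  haveI := hJ i
  refine ⟨fun X Y _ _ _ _ g hg φ => ?_⟩
  obtain ⟨a, ha⟩ := Module.Injective.out (Q := J.X (i + 1)) g hg (LinearMap.fst A _ _ ∘ₗ φ)
  obtain ⟨b, hb⟩ := Module.Injective.out (Q := J.X i) g hg (LinearMap.snd A _ _ ∘ₗ φ)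
  exact ⟨a.prod b, fun x => Prod.ext (ha x) (hb x)⟩

theorem subsingleton_cone {c : ℤ} (hJ : ∀ i < c, Subsingleton (J.X i)) (i : ℤ) (hi : i < c - 1) :
    Subsingleton ((cone f J).X i) :=
  haveI := hJ (i + 1) (by omega)
  haveI := hJ i (by omega)
  inferInstanceAs (Subsingleton (J.X (i + 1) × J.X i))

end Cone

/-- `a • id` is null homotopic. -/
def Null (J : DRing.Cx A) (a : A) : Prop :=
  ∃ h : ∀ i j : ℤ, J.X i →ₗ[A] J.X j, ∀ (k : ℤ) (x : J.X (k + 1)),
    a • x = (J.d k (k + 1)).hom (h (k + 1) k x) + h (k + 1 + 1) (k + 1) ((J.d (k + 1) (k + 1 + 1)).hom x)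

theorem null_cone_self (f : A) (J : DRing.Cx A) : Null (cone f J) f := by
  classical
  refine ⟨fun i j => if hij : j + 1 = i then
      (LinearMap.inl A (J.X (j + 1)) (J.X j)) ∘ₗ (J.XIsoOfEq hij.symm).hom.hom ∘ₗ LinearMap.snd A (J.X (i + 1)) (J.X i)
    else 0, fun k x => ?_⟩
  beta_reduce
  rw [cone_d, cone_d, dif_pos rfl, dif_pos rfl]
  simp only [HomologicalComplex.XIsoOfEq_rfl, Iso.refl_hom, ModuleCat.hom_id, LinearMap.id_comp]
  show f • x = coneD f J k (x.2, 0) + (((coneD f J (k + 1) x).2, 0) : _ × _)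
  rw [coneD_apply, coneD_apply, map_zero]
  refine Prod.ext ?_ ?_
  · show f • x.1 = -(J.d (k + 1) (k + 1 + 1)).hom x.2 + (f • x.1 + (J.d (k + 1) (k + 1 + 1)).hom x.2)
    abel
  · show f • x.2 = f • x.2 + 0 + 0
    rw [add_zero, add_zero]

theorem Null.cone {J : DRing.Cx A} {g : A} (hg : Null J g) (f : A) : Null (cone f J) g := by
  obtain ⟨h, hh⟩ := hg
  refine ⟨fun i j => LinearMap.prod (-(h (i + 1) (j + 1) ∘ₗ LinearMap.fst A (J.X (i + 1)) (J.X i)))
    (h i j ∘ₗ LinearMap.snd A (J.X (i + 1)) (J.X i)), fun k x => ?_⟩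
  rw [cone_d, cone_d]
  show g • x = coneD f J k (-h (k + 1 + 1) (k + 1) x.1, h (k + 1) k x.2) +
    ((-h (k + 1 + 1 + 1) (k + 1 + 1) (coneD f J (k + 1) x).1, h (k + 1 + 1) (k + 1) (coneD f J (k + 1) x).2) : _ × _)
  rw [coneD_apply, coneD_apply]
  refine Prod.ext ?_ ?_
  · show g • x.1 = -(J.d (k + 1) (k + 1 + 1)).hom (-h (k + 1 + 1) (k + 1) x.1) +
      -h (k + 1 + 1 + 1) (k + 1 + 1) (-(J.d (k + 1 + 1) (k + 1 + 1 + 1)).hom x.1)
    rw [hh, map_neg, neg_neg, map_neg, neg_neg]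
  · show g • x.2 = f • (-h (k + 1 + 1) (k + 1) x.1) + (J.d k (k + 1)).hom (h (k + 1) k x.2) +
      h (k + 1 + 1) (k + 1) (f • x.1 + (J.d (k + 1) (k + 1 + 1)).hom x.2)
    rw [hh, map_add, map_smul, smul_neg]
    abel

section Exact

variable {T : Set (PrimeSpectrum A)} (f : A) (J : DRing.Cx A)

theorem mem_gam_prod {M N : Type u} [AddCommGroup M] [Module A M] [AddCommGroup N] [Module A N] {x : M × N} :
    x ∈ gam T (M × N) ↔ x.1 ∈ gam T M ∧ x.2 ∈ gam T N :=
  ⟨fun h => ⟨map_gam (LinearMap.fst A M N) h, map_gam (LinearMap.snd A M N) h⟩, fun h => by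
    rw [show x = LinearMap.inl A M N x.1 + LinearMap.inr A M N x.2 by simp]
    exact add_mem (map_gam _ h.1) (map_gam _ h.2)⟩

/-- `H(J) → H(cone) → H(J)[1]`. -/
theorem exists_exact (i : ℤ) : ∃ (e : Hc T J i →ₗ[A] Hc T (cone f J) i) (p : Hc T (cone f J) i →ₗ[A] Hc T J (i + 1)),
    Function.Exact e p ∧ ((∀ x : Hc T J (i + 1), f • x = 0) → Function.Surjective p) := by
  obtain ⟨k, rfl⟩ : ∃ k, i = k + 1 := ⟨i - 1, by ring⟩
  have hd : ∀ (m : ℤ) (x : (cone f J).X m), ((cone f J).d m (m + 1)).hom x = coneD f J m x := fun m x => by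
    rw [cone_d]; rfl
  let e₀ : Zc T J (k + 1) →ₗ[A] Zc T (cone f J) (k + 1) :=
    { toFun := fun v => ⟨(0, v.1), mem_gam_prod.2 ⟨zero_mem _, v.2.1⟩, by
        show ((cone f J).d (k + 1) (k + 1 + 1)).hom _ = 0
        rw [hd, coneD_apply]
        refine Prod.ext ?_ ?_
        · show -(J.d _ _).hom 0 = 0
          rw [map_zero, neg_zero]
        · show f • 0 + (J.d _ _).hom v.1 = 0
          rw [smul_zero, zero_add]
          exact v.2.2⟩
      map_add' := fun v w => Subtype.ext (Prod.ext (zero_add (0 : J.X (k + 1 + 1))).symm rfl)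
      map_smul' := fun a v => Subtype.ext (Prod.ext (smul_zero (A := J.X (k + 1 + 1)) a).symm rfl) }
  let p₀ : Zc T (cone f J) (k + 1) →ₗ[A] Zc T J (k + 1 + 1) :=
    { toFun := fun x => ⟨x.1.1, (mem_gam_prod.1 x.2.1).1, by
        have h : ((cone f J).d (k + 1) (k + 1 + 1)).hom x.1 = 0 := x.2.2
        rw [hd, coneD_apply] at h
        exact neg_eq_zero.1 (congrArg Prod.fst h)⟩
      map_add' := fun _ _ => Subtype.ext rfl
      map_smul' := fun _ _ => Subtype.ext rfl }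
  have he₀ : ∀ v : Zc T J (k + 1), v.1 ∈ Bc T J (k + 1) → (e₀ v).1 ∈ Bc T (cone f J) (k + 1) := fun v hv => by
    obtain ⟨k', hk, y, hy, hyd⟩ : ∃ (k' : ℤ) (_ : k' + 1 = k + 1), ∃ y ∈ gam T (J.X k'),
        (J.d k' (k + 1)).hom y = v.1 := ⟨k + 1 - 1, by ring, hv⟩
    obtain rfl : k' = k := by omega
    refine mem_Bc rfl (y := ((0, y) : J.X (k' + 1) × J.X k')) (mem_gam_prod.2 ⟨zero_mem _, hy⟩) ?_
    rw [hd, coneD_apply]
    refine Prod.ext ?_ ?_
    · show -(J.d _ _).hom 0 = 0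
      rw [map_zero, neg_zero]
    · show f • 0 + (J.d _ _).hom y = v.1
      rw [smul_zero, zero_add, hyd]
  have hp₀ : ∀ x : Zc T (cone f J) (k + 1), x.1 ∈ Bc T (cone f J) (k + 1) → (p₀ x).1 ∈ Bc T J (k + 1 + 1) := by
    intro x hx
    obtain ⟨k', hk, y, hy, hyd⟩ : ∃ (k' : ℤ) (_ : k' + 1 = k + 1), ∃ y ∈ gam T ((cone f J).X k'),
        ((cone f J).d k' (k + 1)).hom y = x.1 := ⟨k + 1 - 1, by ring, hx⟩
    obtain rfl : k' = k := by omega
    refine mem_Bc rfl (neg_mem (mem_gam_prod.1 hy).1) ?_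
    rw [map_neg]
    exact ((congrArg Prod.fst (coneD_apply f J k' y)).symm.trans (congrArg Prod.fst ((hd _ y).symm.trans hyd)))
  let e := Submodule.mapQ ((Bc T J (k + 1)).comap (Zc T J (k + 1)).subtype)
    ((Bc T (cone f J) (k + 1)).comap (Zc T (cone f J) (k + 1)).subtype) e₀ he₀
  let p := Submodule.mapQ ((Bc T (cone f J) (k + 1)).comap (Zc T (cone f J) (k + 1)).subtype)
    ((Bc T J (k + 1 + 1)).comap (Zc T J (k + 1 + 1)).subtype) p₀ hp₀
  refine ⟨e, p, fun x => ⟨fun hx => ?_, ?_⟩, fun hf w => ?_⟩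
  · obtain ⟨x, rfl⟩ := Submodule.Quotient.mk_surjective _ x
    obtain ⟨k', hk, w, hw, hwd⟩ : ∃ (k' : ℤ) (_ : k' + 1 = k + 1 + 1), ∃ w ∈ gam T (J.X k'),
        (J.d k' (k + 1 + 1)).hom w = x.1.1 := ⟨k + 1 + 1 - 1, by ring, (Submodule.Quotient.mk_eq_zero _).1 hx⟩
    obtain rfl : k' = k + 1 := by omega
    refine ⟨Submodule.Quotient.mk ⟨x.1.2 + f • w,
      add_mem (mem_gam_prod.1 x.2.1).2 (Submodule.smul_mem _ _ hw), ?_⟩, ?_⟩
    · show (J.d _ _).hom _ = 0
      have h : ((cone f J).d (k + 1) (k + 1 + 1)).hom x.1 = 0 := x.2.2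
      rw [hd, coneD_apply] at h
      rw [map_add, map_smul, hwd]
      exact (add_comm _ _).trans (congrArg Prod.snd h)
    · refine (Submodule.Quotient.eq _).2 ?_
      refine mem_Bc rfl (y := ((w, 0) : J.X (k + 1) × J.X k)) (mem_gam_prod.2 ⟨hw, zero_mem _⟩) ?_
      rw [hd, coneD_apply]
      refine Prod.ext ?_ ?_
      · show -(J.d _ _).hom w = 0 - x.1.1
        rw [hwd, zero_sub]
      · show f • w + (J.d _ _).hom 0 = x.1.2 + f • w - x.1.2
        rw [map_zero, add_zero, add_sub_cancel_left]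
  · rintro ⟨v, rfl⟩
    obtain ⟨v, rfl⟩ := Submodule.Quotient.mk_surjective _ v
    exact (Submodule.Quotient.mk_eq_zero _).2 (zero_mem (Bc T J (k + 1 + 1)))
  · obtain ⟨w, rfl⟩ := Submodule.Quotient.mk_surjective _ w
    obtain ⟨k', hk, y, hy, hyd⟩ : ∃ (k' : ℤ) (_ : k' + 1 = k + 1 + 1), ∃ y ∈ gam T (J.X k'),
        (J.d k' (k + 1 + 1)).hom y = f • w.1 :=
      ⟨k + 1 + 1 - 1, by ring, (Submodule.Quotient.mk_eq_zero _).1 (hf (Submodule.Quotient.mk w))⟩
    obtain rfl : k' = k + 1 := by omega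
    refine ⟨Submodule.Quotient.mk ⟨(w.1, -y), mem_gam_prod.2 ⟨w.2.1, neg_mem hy⟩, ?_⟩, rfl⟩
    show ((cone f J).d (k + 1) (k + 1 + 1)).hom _ = 0
    rw [hd, coneD_apply]
    refine Prod.ext ?_ ?_
    · show -(J.d _ _).hom w.1 = 0
      rw [w.2.2, neg_zero]
    · show f • w.1 + (J.d _ _).hom (-y) = 0
      rw [map_neg, hyd, add_neg_cancel]

end Exact

variable [IsNoetherianRing A]

/-- Off `T` null homotopic: boundaries supported in `T` are boundaries of such. -/
theorem exists_lift {T : Set (PrimeSpectrum A)} (hT : StableUnderSpecialization T) {J : DRing.Cx A}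
    (hJ : ∀ i, Module.Injective A (J.X i)) (hN : ∀ q, q ∉ T → ∃ a ∉ q.asIdeal, Null J a) (i : ℤ)
    {z : J.X (i + 1 + 1)} (hz : z ∈ gam T (J.X (i + 1 + 1))) :
    ∀ y : J.X (i + 1), (J.d (i + 1) (i + 1 + 1)).hom y = z →
      ∃ y' ∈ gam T (J.X (i + 1)), (J.d (i + 1) (i + 1 + 1)).hom y' = z := by
  suffices H : ∀ (I : Ideal A) (y : J.X (i + 1)), (annEl y : Ideal A).radical = I →
      (J.d (i + 1) (i + 1 + 1)).hom y = z → ∃ y' ∈ gam T (J.X (i + 1)), (J.d (i + 1) (i + 1 + 1)).hom y' = z from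
    fun y hy => H _ y rfl hy
  intro I
  refine IsNoetherian.induction (P := fun I => ∀ y : J.X (i + 1), (annEl y : Ideal A).radical = I →
    (J.d (i + 1) (i + 1 + 1)).hom y = z → ∃ y' ∈ gam T (J.X (i + 1)), (J.d (i + 1) (i + 1 + 1)).hom y' = z)
    (fun I ih y hy hd => ?_) I
  by_cases hyT : PrimeSpectrum.zeroLocus ((annEl y : Ideal A) : Set A) ⊆ T
  · exact ⟨y, mem_gam_iff.2 hyT, hd⟩
  obtain ⟨q₀, hq₀, hq₀T⟩ := Set.not_subset.1 hyT
  obtain ⟨P, hP, hPq⟩ := Ideal.exists_minimalPrimes_le (I := annEl y) (J := q₀.asIdeal) hq₀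
  let q : PrimeSpectrum A := ⟨P, hP.1.1⟩
  haveI : q.asIdeal.IsPrime := hP.1.1
  have hqT : q ∉ T := fun h => hq₀T (hT ((PrimeSpectrum.le_iff_specializes q q₀).1 hPq) h)
  obtain ⟨s, hs, n, hn⟩ := local_torsion (T := PrimeSpectrum.zeroLocus ((annEl y : Ideal A) : Set A)) (x := y)
    (mem_gam_iff.2 le_rfl) q fun q' hlt hq' => hlt.not_ge (hP.2 ⟨q'.2, hq'⟩ hlt.le)
  obtain ⟨a, ha, h, hh⟩ := hN q hqT
  obtain ⟨s₁, hs₁, hs₁z⟩ := (mem_gam _ _).1 hz q hqT
  let Y : J.X (i + 1) := (s₁ * s) • y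
  have hY : a • Y = (J.d i (i + 1)).hom (h (i + 1) i Y) := by
    rw [hh i Y, show (J.d (i + 1) (i + 1 + 1)).hom Y = 0 by
      rw [map_smul, hd, mul_comm, mul_smul, hs₁z, smul_zero], map_zero, add_zero]
  have hYk : ∀ r ∈ q.asIdeal ^ n, r • h (i + 1) i Y = 0 := fun r hr => by
    rw [← map_smul, show r • Y = 0 by rw [← mul_smul, mul_comm, mul_assoc, mul_smul, mul_comm s r, mul_smul, hn r hr,
      smul_zero], map_zero]
  haveI := hJ i
  obtain ⟨t, ht, hdiv⟩ := exists_divide (M := J.X i) q n hYk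
  have hS : a * (s₁ * s) * t ∉ q.asIdeal := q.asIdeal.primeCompl.mul_mem (q.asIdeal.primeCompl.mul_mem ha
    (q.asIdeal.primeCompl.mul_mem hs₁ hs)) ht
  obtain ⟨u, hu, hue⟩ := hdiv _ hS
  let y' := y - (J.d i (i + 1)).hom u
  have hSy : (a * (s₁ * s) * t) • y' = 0 := by
    rw [smul_sub, ← map_smul, hue, map_smul, ← hY]
    show (a * (s₁ * s) * t) • y - t • a • (s₁ * s) • y = 0
    rw [← mul_smul, ← mul_smul, show t * a * (s₁ * s) = a * (s₁ * s) * t by ring, sub_self]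
  have hle : I ≤ (annEl y' : Ideal A).radical := by
    rw [← hy]
    refine Ideal.radical_le_radical_iff.2 fun r hr => ⟨n + 1, mem_annEl.2 ?_⟩
    have hr' : r ∈ q.asIdeal := hP.1.2 hr
    rw [smul_sub, ← map_smul, hu _ (Ideal.pow_le_pow_right (Nat.le_succ n) (Ideal.pow_mem_pow hr' _)), map_zero,
      pow_succ, mul_smul, mem_annEl.1 hr, smul_zero, sub_zero]
  refine ih _ (lt_of_le_of_ne hle fun e => hS ?_) y' rfl (by
    show (J.d (i + 1) (i + 1 + 1)).hom (y - _) = z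
    rw [map_sub, hd, show (J.d (i + 1) (i + 1 + 1)).hom ((J.d i (i + 1)).hom u) = 0 from d_d J i _ _ u, sub_zero])
  have : a * (s₁ * s) * t ∈ (annEl y' : Ideal A).radical := Ideal.le_radical (mem_annEl.2 hSy)
  rw [← e, ← hy] at this
  exact (Ideal.IsPrime.radical_le_iff q.2).2 hP.1.2 this

theorem finite_of_le {T : Set (PrimeSpectrum A)} (hT : StableUnderSpecialization T) {J : DRing.Cx A}
    (hJ : ∀ i, Module.Injective A (J.X i)) (hN : ∀ q, q ∉ T → ∃ a ∉ q.asIdeal, Null J a) (i : ℤ)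
    [Module.Finite A (Hc Set.univ J i)] : Module.Finite A (Hc T J i) := by
  obtain ⟨k, rfl⟩ : ∃ k, i = k + 1 + 1 := ⟨i - 2, by ring⟩
  let φ₀ : Zc T J (k + 1 + 1) →ₗ[A] Zc Set.univ J (k + 1 + 1) :=
    Submodule.inclusion (inf_le_inf_right _ fun _ hx => gam_mono (Set.subset_univ T) hx)
  have hφ : ∀ z : Zc T J (k + 1 + 1), z.1 ∈ Bc T J (k + 1 + 1) → z.1 ∈ Bc Set.univ J (k + 1 + 1) :=
    fun z ⟨y, hy, hyd⟩ => ⟨y, gam_mono (Set.subset_univ T) hy, hyd⟩
  let φ := Submodule.mapQ ((Bc T J (k + 1 + 1)).comap (Zc T J (k + 1 + 1)).subtype)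
    ((Bc Set.univ J (k + 1 + 1)).comap (Zc Set.univ J (k + 1 + 1)).subtype) φ₀ hφ
  refine Module.Finite.of_injective φ ((injective_iff_map_eq_zero _).2 fun x hx => ?_)
  obtain ⟨z, rfl⟩ := Submodule.Quotient.mk_surjective _ x
  obtain ⟨k', hk, y, -, hyd⟩ : ∃ (k' : ℤ) (_ : k' + 1 = k + 1 + 1), ∃ y ∈ gam Set.univ (J.X k'),
      (J.d k' (k + 1 + 1)).hom y = z.1 := ⟨k + 1 + 1 - 1, by ring, (Submodule.Quotient.mk_eq_zero _).1 hx⟩
  obtain rfl : k' = k + 1 := by omega
  obtain ⟨y', hy', hyd'⟩ := exists_lift hT hJ hN k z.2.1 y hyd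
  exact (Submodule.Quotient.mk_eq_zero _).2 (mem_Bc rfl hy' hyd')

theorem finite_of_exact {M N P : Type u} [AddCommGroup M] [Module A M] [AddCommGroup N] [Module A N] [AddCommGroup P]
    [Module A P] {e : M →ₗ[A] N} {p : N →ₗ[A] P} (h : Function.Exact e p) [Module.Finite A M] [Module.Finite A P] :
    Module.Finite A N := by
  refine ⟨Submodule.fg_of_fg_map_of_fg_inf_ker p (IsNoetherian.noetherian _) ?_⟩
  rw [top_inf_eq, LinearMap.exact_iff.1 h]
  exact LinearMap.range_eq_map e ▸ (Module.Finite.fg_top.map e)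

/-- The induction on the number of generators. -/
theorem finite_of_kills_list {T : Set (PrimeSpectrum A)} (hT : StableUnderSpecialization T) :
    ∀ (m : ℕ) (l : List A), l.length = m → ∀ (D : Set A) (J : DRing.Cx A) (n : ℤ),
      PrimeSpectrum.zeroLocus (D ∪ {x | x ∈ l}) ⊆ T → (∀ g ∈ D, Null J g) → (∀ i, Module.Injective A (J.X i)) →
        (∀ i, Module.Finite A (Hc Set.univ J i)) →
          (∀ g ∈ l, ∀ i ≤ n, ∀ x : Hc T J i, g • x = 0) → ∀ i ≤ n, Module.Finite A (Hc T J i) := by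
  intro m
  induction m with
  | zero =>
    intro l hl D J n hV hD hJ hfin _ i _
    haveI := hfin i
    refine finite_of_le hT hJ (fun q hq => ?_) i
    by_contra h
    push Not at h
    refine hq (hV fun a ha => ?_)
    rcases ha with ha | ha
    · exact by_contra fun haq => h a haq (hD a ha)
    · rw [List.length_eq_zero_iff.1 hl] at ha
      exact absurd ha List.not_mem_nil
  | succ m ih =>
    intro l hl D J n hV hD hJ hfin hk i hi
    obtain ⟨f, l', rfl⟩ := List.exists_of_length_succ l hl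
    have hC := ih (l'.map fun g => g * g) (by simpa using hl) (insert f D) (cone f J) (n - 1) ?_ ?_
      (injective_cone f J hJ) ?_ ?_ (i - 1) (by omega)
    · obtain ⟨k, rfl⟩ : ∃ k, i = k + 1 := ⟨i - 1, by ring⟩
      obtain ⟨e, p, -, hp⟩ := exists_exact (T := T) f J k
      haveI : Module.Finite A (Hc T (cone f J) k) := by rwa [add_sub_cancel_right] at hC
      exact Module.Finite.of_surjective p (hp (hk f List.mem_cons_self (k + 1) hi))
    · intro q hq
      refine hV fun a ha => ?_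
      rcases ha with ha | ha
      · exact hq (Or.inl (Or.inr ha))
      · rcases List.mem_cons.1 ha with rfl | ha
        · exact hq (Or.inl (Or.inl rfl))
        · exact (q.2.mem_or_mem (hq (Or.inr (show a * a ∈ l'.map _ from List.mem_map_of_mem ha)))).elim id id
    · rintro g (rfl | hg)
      · exact null_cone_self g J
      · exact (hD g hg).cone f
    · intro j
      obtain ⟨e, p, hex, -⟩ := exists_exact (T := (Set.univ : Set (PrimeSpectrum A))) f J j
      haveI := hfin j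
      haveI := hfin (j + 1)
      exact finite_of_exact hex
    · intro g hg j hj x
      obtain ⟨g, hgl, rfl⟩ := List.mem_map.1 hg
      obtain ⟨e, p, hex, -⟩ := exists_exact (T := T) f J j
      have h1 : p (g • x) = 0 := by rw [map_smul]; exact hk g (List.mem_cons_of_mem _ hgl) (j + 1) (by omega) _
      obtain ⟨w, hw⟩ := (hex _).1 h1
      rw [mul_smul, ← hw, ← map_smul, hk g (List.mem_cons_of_mem _ hgl) j (by omega) w, map_zero]

/-- Uniform annihilation by an ideal cutting out a subset of `T` gives finiteness. -/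
theorem finite_of_kills {T : Set (PrimeSpectrum A)} (hT : StableUnderSpecialization T) (J : DRing.Cx A)
    (hJ : ∀ i, Module.Injective A (J.X i)) (hfin : ∀ i, Module.Finite A (Hc Set.univ J i)) {I : Ideal A}
    (hI : PrimeSpectrum.zeroLocus (I : Set A) ⊆ T) {n : ℤ} (hk : ∀ i ≤ n, ∀ a ∈ I, KT J T i a) :
    ∀ i ≤ n, Module.Finite A (Hc T J i) := by
  obtain ⟨G, hG⟩ := IsNoetherian.noetherian I
  refine finite_of_kills_list hT _ G.toList rfl ∅ J n ?_ (fun g hg => absurd hg (Set.notMem_empty g)) hJ hfin ?_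
  · refine Set.Subset.trans ?_ hI
    rw [← hG]
    refine Eq.subset ?_ |>.trans (PrimeSpectrum.zeroLocus_span _).ge
    rw [Set.empty_union]
    exact congrArg PrimeSpectrum.zeroLocus (Set.ext fun x => Finset.mem_toList)
  · intro g hg i hi
    exact kills_Hc_iff.2 (hk i hi g (hG ▸ Submodule.subset_span (Finset.mem_toList.1 hg)))

end Groth.Agent.CAlgH3.DT
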