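import Groth.Agent.CAlgH3.GammaQuot
import Groth.Prelude.Def_DualLC
import Mathlib.RingTheory.Ideal.Height

/-!
Cycles supported in specialisation closed sets of a complex of injectives: strata by height.
-/

set_option autoImplicit false
set_option backward.isDefEq.respectTransparency false

universe u

open CategoryTheory

namespace Groth.Agent.CAlgH3.DT

open GammaQuot (gam mem_gam)

variable {A : Type u} [CommRing A]

section Module

variable {M N : Type u} [AddCommGroup M] [Module A M] [AddCommGroup N] [Module A N]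

/-- The annihilator of an element. -/
abbrev annEl (x : M) : Ideal A := LinearMap.ker (LinearMap.toSpanSingleton A M x)

theorem mem_annEl {x : M} {a : A} : a ∈ annEl x ↔ a • x = 0 := Iff.rfl

theorem mem_gam_iff {T : Set (PrimeSpectrum A)} {x : M} :
    x ∈ gam T M ↔ PrimeSpectrum.zeroLocus ((annEl x : Ideal A) : Set A) ⊆ T := by
  rw [mem_gam]
  refine ⟨fun h q hq => ?_, fun h q hq => ?_⟩
  · by_contra hqT
    obtain ⟨s, hs, hsx⟩ := h q hqT
    exact hs (hq hsx)
  · by_contra hne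
    push Not at hne
    exact hq (h fun a ha => by_contra fun haq => hne a haq ha)

theorem gam_of_killed {T : Set (PrimeSpectrum A)} {x : M} {I : Ideal A}
    (hI : PrimeSpectrum.zeroLocus (I : Set A) ⊆ T) (h : ∀ a ∈ I, a • x = 0) : x ∈ gam T M :=
  mem_gam_iff.2 ((PrimeSpectrum.zeroLocus_anti_mono fun a ha => mem_annEl.2 (h a ha)).trans hI)

theorem map_gam (f : M →ₗ[A] N) {T : Set (PrimeSpectrum A)} {x : M} (hx : x ∈ gam T M) : f x ∈ gam T N :=
  (mem_gam T N).2 fun q hq => by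
    obtain ⟨s, hs, hsx⟩ := (mem_gam T M).1 hx q hq
    exact ⟨s, hs, by rw [← map_smul, hsx, map_zero]⟩

theorem gam_mono {S T : Set (PrimeSpectrum A)} (h : S ⊆ T) {x : M} (hx : x ∈ gam S M) : x ∈ gam T M :=
  mem_gam_iff.2 ((mem_gam_iff.1 hx).trans h)

/-- Near a minimal point of the support set, supported elements are killed by a power. -/
theorem local_torsion [IsNoetherianRing A] {T : Set (PrimeSpectrum A)} {x : M} (hx : x ∈ gam T M)
    (q : PrimeSpectrum A) (hmin : ∀ q', q' < q → q' ∉ T) :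
    ∃ s ∉ q.asIdeal, ∃ n : ℕ, ∀ r ∈ q.asIdeal ^ n, r • (s • x) = 0 := by
  classical
  let I : Ideal A := annEl x
  by_cases hIq : I ≤ q.asIdeal
  swap
  · obtain ⟨s, hs, hsq⟩ := SetLike.not_le_iff_exists.1 hIq
    exact ⟨s, hsq, 0, fun r _ => by rw [mem_annEl.1 hs, smul_zero]⟩
  let F := (Ideal.finite_minimalPrimes_of_isNoetherianRing A I).toFinset.filter (fun P => P ≠ q.asIdeal)
  have hs : ∃ s ∉ q.asIdeal, ∀ P ∈ F, s ∈ P := by
    have hnle : ∀ P ∈ F, ¬ P ≤ q.asIdeal := by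
      intro P hP hle
      rw [Finset.mem_filter, Set.Finite.mem_toFinset] at hP
      have hlt : (⟨P, hP.1.1.1⟩ : PrimeSpectrum A) < q :=
        lt_of_le_of_ne hle fun e => hP.2 (congrArg PrimeSpectrum.asIdeal e)
      exact hmin _ hlt (mem_gam_iff.1 hx hP.1.1.2)
    choose! g hg hgq using fun P (hP : P ∈ F) => SetLike.not_le_iff_exists.1 (hnle P hP)
    exact ⟨∏ P ∈ F, g P, prod_mem (S := q.asIdeal.primeCompl) hgq,
      fun P hP => Ideal.mem_of_dvd P (Finset.dvd_prod_of_mem g hP) (hg P hP)⟩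
  obtain ⟨s, hsq, hsF⟩ := hs
  have hle : Ideal.span {s} * q.asIdeal ≤ I.radical := by
    rw [← Ideal.sInf_minimalPrimes]
    refine le_sInf fun P hP => ?_
    by_cases hPq : P = q.asIdeal
    · exact hPq ▸ Ideal.mul_le_right
    · exact Ideal.mul_le_left.trans ((Ideal.span_singleton_le_iff_mem P).2
        (hsF P (Finset.mem_filter.2 ⟨(Ideal.finite_minimalPrimes_of_isNoetherianRing A I).mem_toFinset.2 hP, hPq⟩)))
  obtain ⟨n, hn⟩ := Ideal.exists_pow_le_of_le_radical_of_fg hle (IsNoetherian.noetherian _)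
  refine ⟨s ^ n, fun h => hsq (q.2.mem_of_pow_mem n h), n, fun r hr => ?_⟩
  rw [← mul_smul]
  refine mem_annEl.1 (hn ?_)
  rw [mul_pow, Ideal.span_singleton_pow, mul_comm r]
  exact Ideal.mul_mem_mul (Ideal.mem_span_singleton_self _) hr

/-- Torsion elements at `q` can be divided, up to a fixed element off `q`. -/
theorem exists_divide [IsNoetherianRing A] [Module.Injective A M] (q : PrimeSpectrum A) (m : ℕ) {y : M}
    (hy : ∀ r ∈ q.asIdeal ^ m, r • y = 0) :
    ∃ t ∉ q.asIdeal, ∀ s ∉ q.asIdeal, ∃ y' : M, (∀ r ∈ q.asIdeal ^ m, r • y' = 0) ∧ s • y' = t • y := by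
  classical
  let Q : Ideal A :=
    { carrier := {r | ∃ t ∉ q.asIdeal, t * r ∈ q.asIdeal ^ m}
      zero_mem' := ⟨1, q.2.one_notMem, by simp⟩
      add_mem' := by
        rintro a b ⟨t, ht, hta⟩ ⟨t', ht', htb⟩
        refine ⟨t * t', q.asIdeal.primeCompl.mul_mem ht ht', ?_⟩
        rw [mul_add]
        exact add_mem (by rw [mul_right_comm]; exact Ideal.mul_mem_right _ _ hta)
          (by rw [mul_assoc]; exact Ideal.mul_mem_left _ _ htb)
      smul_mem' := by
        rintro c r ⟨t, ht, htr⟩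
        exact ⟨t, ht, by rw [smul_eq_mul, mul_left_comm]; exact Ideal.mul_mem_left _ _ htr⟩ }
  obtain ⟨G, hG⟩ := IsNoetherian.noetherian Q
  have hGQ : ∀ g ∈ G, ∃ t ∉ q.asIdeal, t * g ∈ q.asIdeal ^ m := fun g hg =>
    (show g ∈ Q from hG ▸ Submodule.subset_span hg)
  choose! τ hτ hτg using hGQ
  refine ⟨∏ g ∈ G, τ g, prod_mem (S := q.asIdeal.primeCompl) hτ, fun s hs => ?_⟩
  have hQy : ∀ r ∈ Q, r • ((∏ g ∈ G, τ g) • y) = 0 := by
    intro r hr
    rw [← hG] at hr
    induction hr using Submodule.span_induction with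
    | mem g hg =>
      obtain ⟨c, hc⟩ := Finset.dvd_prod_of_mem τ hg
      rw [← mul_smul]
      refine hy _ ?_
      rw [hc, ← mul_assoc, mul_comm g (τ g)]
      exact Ideal.mul_mem_right _ _ (hτg g hg)
    | zero => exact zero_smul _ _
    | add a b _ _ ha hb => rw [add_smul, ha, hb, add_zero]
    | smul c a _ ha => rw [smul_eq_mul, mul_smul, ha, smul_zero]
  let f : (A ⧸ Q) →ₗ[A] (A ⧸ Q) := s • LinearMap.id
  have hf : Function.Injective f := by
    refine (injective_iff_map_eq_zero f).2 fun x hx => ?_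
    obtain ⟨x, rfl⟩ := Submodule.Quotient.mk_surjective _ x
    have h1 : s * x ∈ Q := by
      rw [← Submodule.Quotient.mk_eq_zero Q, ← smul_eq_mul, Submodule.Quotient.mk_smul]
      exact hx
    obtain ⟨t, ht, htx⟩ := h1
    exact (Submodule.Quotient.mk_eq_zero Q).2 ⟨t * s, q.asIdeal.primeCompl.mul_mem ht hs, by rwa [mul_assoc]⟩
  let g : (A ⧸ Q) →ₗ[A] M := Submodule.liftQ Q (LinearMap.toSpanSingleton A M ((∏ g ∈ G, τ g) • y)) hQy
  obtain ⟨h, hh⟩ := Module.Injective.out f hf g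
  refine ⟨h (Submodule.Quotient.mk 1), fun r hr => ?_, ?_⟩
  · rw [← map_smul, ← Submodule.Quotient.mk_smul, smul_eq_mul, mul_one,
      (Submodule.Quotient.mk_eq_zero Q).2 ⟨1, q.2.one_notMem, by rwa [one_mul]⟩, map_zero]
  · rw [← map_smul]
    refine (hh _).trans ?_
    show LinearMap.toSpanSingleton A M ((∏ g ∈ G, τ g) • y) 1 = _
    rw [LinearMap.toSpanSingleton_apply, one_smul]

end Module

/-- The points of `T` of height at least `c`. -/
def Tc (T : Set (PrimeSpectrum A)) (c : ℕ) : Set (PrimeSpectrum A) := {q | q ∈ T ∧ (c : ℕ∞) ≤ q.asIdeal.height}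

theorem Tc_zero (T : Set (PrimeSpectrum A)) : Tc T 0 = T := Set.ext fun q => by simp [Tc]

theorem Tc_succ_subset (T : Set (PrimeSpectrum A)) (c : ℕ) : Tc T (c + 1) ⊆ Tc T c :=
  fun _ h => ⟨h.1, le_trans (by exact_mod_cast Nat.le_succ c) h.2⟩

theorem Tc_stable {T : Set (PrimeSpectrum A)} (hT : StableUnderSpecialization T) (c : ℕ) :
    StableUnderSpecialization (Tc T c) := fun q q' h hq =>
  ⟨hT h hq.1, hq.2.trans (Ideal.height_mono ((PrimeSpectrum.le_iff_specializes q q').2 h))⟩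

variable [IsNoetherianRing A]

theorem eq_of_le_of_height {T : Set (PrimeSpectrum A)} {c : ℕ} {q q' : PrimeSpectrum A} (hq' : q' ∈ Tc T c)
    (hq : q.asIdeal.height = c) (hle : q' ≤ q) : q' = q := by
  by_contra hne
  have hlt : q'.asIdeal < q.asIdeal := lt_of_le_of_ne hle fun e => hne (PrimeSpectrum.ext e)
  have := Ideal.height_strict_mono_of_isPrime_of_isPrime hlt
  rw [hq] at this
  exact absurd hq'.2 (not_le.2 this)

theorem height_eq_of_mem_of_notMem {T : Set (PrimeSpectrum A)} {c : ℕ} {q : PrimeSpectrum A} (hq : q ∈ Tc T c)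
    (hq' : q ∉ Tc T (c + 1)) : q.asIdeal.height = c :=
  le_antisymm (Order.le_of_lt_add_one (not_le.1 fun h => hq' ⟨hq.1, by exact_mod_cast h⟩)) hq.2

variable (J : CochainComplex (ModuleCat.{u} A) ℤ)

/-- Multiplication by `a` kills the cohomology with supports in `T`. -/
def KT (T : Set (PrimeSpectrum A)) (i : ℤ) (a : A) : Prop :=
  ∀ z ∈ gam T (J.X i), (J.d i (i + 1)).hom z = 0 → ∃ y ∈ gam T (J.X (i - 1)), a • z = (J.d (i - 1) i).hom y

/-- Multiplication by `a` kills the local cohomology at `q`. -/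
def LK (q : PrimeSpectrum A) (i : ℤ) (a : A) : Prop :=
  ∀ (n : ℕ) (z : J.X i), (∀ r ∈ q.asIdeal ^ n, r • z = 0) → (J.d i (i + 1)).hom z = 0 →
    ∃ s ∉ q.asIdeal, ∃ (m : ℕ) (y : J.X (i - 1)),
      (∀ r ∈ q.asIdeal ^ m, r • y = 0) ∧ (s * a) • z = (J.d (i - 1) i).hom y

variable {J}

omit [IsNoetherianRing A] in
theorem KT.mul {T : Set (PrimeSpectrum A)} {i : ℤ} {a : A} (h : KT J T i a) (b : A) : KT J T i (b * a) :=
  fun z hz hd => by
    obtain ⟨y, hy, he⟩ := h z hz hd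
    exact ⟨b • y, Submodule.smul_mem _ _ hy, by rw [mul_smul, he, map_smul]⟩

omit [IsNoetherianRing A] in
theorem KT.add {T : Set (PrimeSpectrum A)} {i : ℤ} {a b : A} (h : KT J T i a) (h' : KT J T i b) :
    KT J T i (a + b) := fun z hz hd => by
  obtain ⟨y, hy, he⟩ := h z hz hd
  obtain ⟨y', hy', he'⟩ := h' z hz hd
  exact ⟨y + y', add_mem hy hy', by rw [add_smul, he, he', map_add]⟩

omit [IsNoetherianRing A] in
theorem LK.mul {q : PrimeSpectrum A} {i : ℤ} {a : A} (h : LK J q i a) (b : A) : LK J q i (b * a) :=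
  fun n z hz hd => by
    obtain ⟨s, hs, m, y, hy, he⟩ := h n z hz hd
    exact ⟨s, hs, m, b • y, fun r hr => by rw [smul_comm, hy r hr, smul_zero],
      by rw [show s * (b * a) = b * (s * a) by ring, mul_smul, he, map_smul]⟩

omit [IsNoetherianRing A] in
theorem LK.add {q : PrimeSpectrum A} {i : ℤ} {a b : A} (h : LK J q i a) (h' : LK J q i b) :
    LK J q i (a + b) := fun n z hz hd => by
  obtain ⟨s, hs, m, y, hy, he⟩ := h n z hz hd
  obtain ⟨s', hs', m', y', hy', he'⟩ := h' n z hz hd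
  refine ⟨s * s', q.asIdeal.primeCompl.mul_mem hs hs', m + m', s' • y + s • y', fun r hr => ?_, ?_⟩
  · rw [smul_add, smul_comm r s', smul_comm r s, hy r (Ideal.pow_le_pow_right (Nat.le_add_right m m') hr),
      hy' r (Ideal.pow_le_pow_right (Nat.le_add_left m' m) hr), smul_zero, smul_zero, add_zero]
  · rw [map_add, map_smul, map_smul, ← he, ← he', ← mul_smul, ← mul_smul, ← add_smul]
    congr 1
    ring

variable (hJ : ∀ i, Module.Injective A (J.X i))
include hJ

/-- Local boundaries at the points of height `c` patch. -/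
theorem patch {T : Set (PrimeSpectrum A)} (hT : StableUnderSpecialization T) {c : ℕ} {i : ℤ} {x : J.X i}
    (hx : x ∈ gam (Tc T c) (J.X i))
    (hloc : ∀ q ∈ T, q.asIdeal.height = c → ∃ s ∉ q.asIdeal, ∃ (m : ℕ) (y : J.X (i - 1)),
      (∀ r ∈ q.asIdeal ^ m, r • y = 0) ∧ s • x = (J.d (i - 1) i).hom y) :
    ∃ Y ∈ gam (Tc T c) (J.X (i - 1)), x - (J.d (i - 1) i).hom Y ∈ gam (Tc T (c + 1)) (J.X i) := by
  classical
  have := hJ (i - 1)
  let dd := (J.d (i - 1) i).hom
  have hfin : {q : PrimeSpectrum A | q ∈ T ∧ q.asIdeal.height = c ∧ annEl x ≤ q.asIdeal}.Finite := by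
    refine Set.Finite.of_finite_image (f := PrimeSpectrum.asIdeal)
      ((Ideal.finite_minimalPrimes_of_isNoetherianRing A (annEl x)).subset ?_) fun a _ b _ h => PrimeSpectrum.ext h
    rintro _ ⟨q, ⟨-, hqc, hq⟩, rfl⟩
    refine ⟨⟨q.2, hq⟩, fun P hP hPq => ?_⟩
    exact le_of_eq (congrArg PrimeSpectrum.asIdeal
      (eq_of_le_of_height (mem_gam_iff.1 hx (show (⟨P, hP.1⟩ : PrimeSpectrum A) ∈ _ from hP.2)) hqc hPq)).symm
  let F := hfin.toFinset
  have hF : ∀ q ∈ F, q ∈ T ∧ q.asIdeal.height = c := fun q hq => ⟨(hfin.mem_toFinset.1 hq).1, (hfin.mem_toFinset.1 hq).2.1⟩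
  have hpiece : ∀ q ∈ F, ∃ u : J.X (i - 1), ∃ m : ℕ, (∀ r ∈ q.asIdeal ^ m, r • u = 0) ∧
      ∃ s ∉ q.asIdeal, s • (x - dd u) = 0 := by
    intro q hq
    obtain ⟨s, hs, m, y, hy, he⟩ := hloc q (hF q hq).1 (hF q hq).2
    obtain ⟨t, ht, hdiv⟩ := exists_divide (M := J.X (i - 1)) q m hy
    obtain ⟨u, hu, hue⟩ := hdiv (s * t) (q.asIdeal.primeCompl.mul_mem hs ht)
    refine ⟨u, m, hu, s * t, q.asIdeal.primeCompl.mul_mem hs ht, ?_⟩
    rw [smul_sub, ← map_smul dd, hue, map_smul, mul_comm, mul_smul, he, sub_self]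
  choose! u m hu s hs hsu using hpiece
  refine ⟨∑ q ∈ F, u q, sum_mem fun q hq => gam_of_killed (I := q.asIdeal ^ m q) (fun p hp => ?_) (hu q hq), ?_⟩
  · refine ⟨hT ((PrimeSpectrum.le_iff_specializes q p).1 fun a ha => ?_) (hF q hq).1, ?_⟩
    · exact p.2.mem_of_pow_mem (m q) (hp (Ideal.pow_mem_pow ha _))
    · rw [← (hF q hq).2]
      exact Ideal.height_mono fun a ha => p.2.mem_of_pow_mem (m q) (hp (Ideal.pow_mem_pow ha _))
  rw [mem_gam]
  intro q hq
  -- a multiplier off `q` killing the pieces at the other points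
  have hother : ∀ q' ∈ F, q' ≠ q → ¬ q' ≤ q → ∃ r ∉ q.asIdeal, r • u q' = 0 := fun q' hq' _ hle => by
    obtain ⟨a, ha, haq⟩ := SetLike.not_le_iff_exists.1 (show ¬ q'.asIdeal ≤ q.asIdeal from hle)
    exact ⟨a ^ m q', fun h => haq (q.2.mem_of_pow_mem _ h), hu q' hq' _ (Ideal.pow_mem_pow ha _)⟩
  by_cases hqc : q ∈ Tc T c
  · have hh := height_eq_of_mem_of_notMem hqc hq
    have hnle : ∀ q' ∈ F, q' ≠ q → ¬ q' ≤ q := fun q' hq' hne hle =>
      hne (eq_of_le_of_height ⟨(hF q' hq').1, (hF q' hq').2.ge⟩ hh hle)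
    choose! r hr hru using fun q' hq' => fun hne => hother q' hq' hne (hnle q' hq' hne)
    let R := ∏ q' ∈ F.erase q, r q'
    have hR : R ∉ q.asIdeal := prod_mem (S := q.asIdeal.primeCompl) fun q' hq' =>
      hr q' (Finset.mem_of_mem_erase hq') (Finset.ne_of_mem_erase hq')
    have hRu : ∀ q' ∈ F.erase q, R • u q' = 0 := fun q' hq' => by
      obtain ⟨a, ha⟩ := Finset.dvd_prod_of_mem r hq'
      rw [show R = a * r q' by rw [mul_comm]; exact ha, mul_smul,
        hru q' (Finset.mem_of_mem_erase hq') (Finset.ne_of_mem_erase hq'), smul_zero]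
    by_cases hqF : q ∈ F
    · refine ⟨R * s q, q.asIdeal.primeCompl.mul_mem hR (hs q hqF), ?_⟩
      rw [← Finset.add_sum_erase F u hqF, map_add, ← sub_sub, smul_sub, mul_smul, hsu q hqF, smul_zero, zero_sub,
        ← map_smul, Finset.smul_sum, Finset.sum_eq_zero fun q' hq' => ?_, map_zero, neg_zero]
      rw [mul_comm, mul_smul, hRu q' hq', smul_zero]
    · have hnot : ¬ annEl x ≤ q.asIdeal := fun h => hqF (hfin.mem_toFinset.2 ⟨hqc.1, hh, h⟩)
      obtain ⟨a, ha, haq⟩ := SetLike.not_le_iff_exists.1 hnot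
      refine ⟨R * a, q.asIdeal.primeCompl.mul_mem hR haq, ?_⟩
      rw [smul_sub, mul_smul, mem_annEl.1 ha, smul_zero, zero_sub, ← map_smul, Finset.smul_sum,
        Finset.sum_eq_zero fun q' hq' => ?_, map_zero, neg_zero]
      rw [mul_comm, mul_smul, hRu q' (Finset.mem_erase.2 ⟨fun e => hqF (e ▸ hq'), hq'⟩), smul_zero]
  · have hY : (∑ q' ∈ F, u q') ∈ gam (Tc T c) (J.X (i - 1)) := sum_mem fun q' hq' => by
      refine gam_of_killed (I := q'.asIdeal ^ m q') (fun p hp => ?_) (hu q' hq')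
      have hle : q'.asIdeal ≤ p.asIdeal := fun a ha => p.2.mem_of_pow_mem (m q') (hp (Ideal.pow_mem_pow ha _))
      exact ⟨hT ((PrimeSpectrum.le_iff_specializes q' p).1 hle) (hF q' hq').1,
        (hF q' hq').2.ge.trans (Ideal.height_mono hle)⟩
    exact (mem_gam _ _).1 (sub_mem hx (map_gam dd hY)) q hqc

/-- From the stratum of height `c` and the points above to all of height `≥ c`. -/
theorem step_down {T : Set (PrimeSpectrum A)} (hT : StableUnderSpecialization T) {c : ℕ} {i : ℤ} {a b : A}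
    (ha : KT J (Tc T (c + 1)) i a) (hb : ∀ q ∈ T, q.asIdeal.height = c → LK J q i b) :
    KT J (Tc T c) i (a * b) := by
  intro z hz hd
  obtain ⟨Y, hY, hW⟩ := patch hJ hT (x := b • z) (Submodule.smul_mem _ _ hz) (c := c) fun q hq hc => by
    obtain ⟨s, hs, n, hn⟩ := local_torsion hz q fun q' hlt hq' => hlt.ne (eq_of_le_of_height hq' hc hlt.le)
    obtain ⟨s', hs', m, y, hy, he⟩ := hb q hq hc n (s • z) hn (by rw [map_smul, hd, smul_zero])
    refine ⟨s' * s, q.asIdeal.primeCompl.mul_mem hs' hs, m, y, hy, ?_⟩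
    rw [← he, ← mul_smul, ← mul_smul]
    congr 1
    ring
  obtain ⟨Y', hY', he⟩ := ha _ hW (by
    have h0 : (J.d i (i + 1)).hom ((J.d (i - 1) i).hom Y) = 0 :=
      congrArg (fun f => f.hom Y) (J.d_comp_d (i - 1) i (i + 1))
    rw [map_sub, map_smul, hd, smul_zero, h0, sub_zero])
  refine ⟨Y' + a • Y, add_mem (gam_mono (Tc_succ_subset T c) hY') (Submodule.smul_mem _ _ hY), ?_⟩
  rw [map_add, ← he, map_smul, smul_sub, sub_add_cancel, mul_smul]

/-- From all of height `≥ c` to all of height `> c`. -/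
theorem step_up {T : Set (PrimeSpectrum A)} (hT : StableUnderSpecialization T) {c : ℕ} {i : ℤ} {a b : A}
    (ha : KT J (Tc T c) i a) (hb : ∀ q ∈ T, q.asIdeal.height = c → LK J q (i - 1) b) :
    KT J (Tc T (c + 1)) i (b * a) := by
  intro z hz hd
  obtain ⟨Y, hY, he⟩ := ha z (gam_mono (Tc_succ_subset T c) hz) hd
  obtain ⟨U, hU, hW⟩ := patch hJ hT (x := b • Y) (Submodule.smul_mem _ _ hY) (c := c) fun q hq hc => by
    obtain ⟨s, hs, n, hn⟩ := local_torsion hY q fun q' hlt hq' => hlt.ne (eq_of_le_of_height hq' hc hlt.le)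
    obtain ⟨s₁, hs₁, hs₁z⟩ := (mem_gam _ _).1 hz q fun h => by
      have h2 := h.2
      rw [hc] at h2
      exact absurd h2 (by exact_mod_cast Nat.not_succ_le_self c)
    have hd' : (J.d (i - 1) (i - 1 + 1)).hom ((s₁ * s) • Y) = 0 := by
      have h1 : (J.d (i - 1) i).hom ((s₁ * s) • Y) = 0 := by
        rw [map_smul, ← he, mul_comm s₁, mul_smul, smul_comm s₁ a, hs₁z, smul_zero, smul_zero]
      rw [J.d_comp_XIsoOfEq_hom (show i = i - 1 + 1 by ring) (i - 1) |>.symm]
      show (J.XIsoOfEq _).hom.hom ((J.d (i - 1) i).hom _) = 0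
      rw [h1, map_zero]
    obtain ⟨s', hs', m, y, hy, he'⟩ := hb q hq hc n ((s₁ * s) • Y)
      (fun r hr => by rw [mul_smul, smul_comm r s₁, hn r hr, smul_zero]) hd'
    refine ⟨s' * (s₁ * s), q.asIdeal.primeCompl.mul_mem hs' (q.asIdeal.primeCompl.mul_mem hs₁ hs), m, y, hy, ?_⟩
    rw [← he', ← mul_smul, ← mul_smul]
    congr 1
    ring
  refine ⟨_, hW, ?_⟩
  have h0 : (J.d (i - 1) i).hom ((J.d (i - 1 - 1) (i - 1)).hom U) = 0 :=
    congrArg (fun f => f.hom U) (J.d_comp_d (i - 1 - 1) (i - 1) i)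
  rw [map_sub, h0, sub_zero, map_smul, ← he, mul_smul]

/-- Killing supports in `T` gives killing at the points. -/
theorem lk_of_kt {T : Set (PrimeSpectrum A)} (hT : StableUnderSpecialization T) {c : ℕ} {i : ℤ} {a : A}
    (ha : KT J (Tc T c) i a) {q : PrimeSpectrum A} (hq : q ∈ T) (hc : q.asIdeal.height = c) : LK J q i a := by
  intro n z hz hd
  have hzT : z ∈ gam (Tc T c) (J.X i) := gam_of_killed (I := q.asIdeal ^ n) (fun p hp => by
    have hle : q.asIdeal ≤ p.asIdeal := fun b hb => p.2.mem_of_pow_mem n (hp (Ideal.pow_mem_pow hb _))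
    exact ⟨hT ((PrimeSpectrum.le_iff_specializes q p).1 hle) hq, hc.ge.trans (Ideal.height_mono hle)⟩) hz
  obtain ⟨Y, hY, he⟩ := ha z hzT hd
  obtain ⟨s, hs, m, hm⟩ := local_torsion hY q fun q' hlt hq' => hlt.ne (eq_of_le_of_height hq' hc hlt.le)
  exact ⟨s, hs, m, s • Y, hm, by rw [map_smul, ← he, mul_smul]⟩

end Groth.Agent.CAlgH3.DT
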