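import Groth.Agent.CAlgH3.DT.Module
import Groth.Agent.DualLib.LocalDim
import Groth.Agent.LocCoh.LocalVanishing
import Groth.Agent.LocCoh.Finiteness
import Groth.Agent.LocCoh.AdjDepth
import Groth.Prelude.Def_Formal2
import Mathlib.RingTheory.KrullDimension.NonZeroDivisors

/-! Stabilisation of local cohomology with supports shrinking towards a closed subset of `V(I)`. -/

set_option autoImplicit false
set_option backward.isDefEq.respectTransparency false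
set_option linter.style.haveILetI false

universe u

open CategoryTheory

attribute [local instance] HasDerivedCategory.standard

namespace Groth.Agent.CAlgH3.DT

open Groth.Agent.DualLib

variable {A : Type u} [CommRing A] [IsNoetherianRing A] {ω : Dual.D A} (hω : Dual.IsDualizing A ω)
include hω

theorem dimBetween_eq {p q : PrimeSpectrum A} (hpq : p ≤ q) :
    Formal2.dimBetween A p.asIdeal q.asIdeal = Order.krullDim (Set.Icc p q) := by
  let Aq := Localization.AtPrime q.asIdeal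
  let f := IsLocalization.AtPrime.primeSpectrumOrderIso Aq q.asIdeal
  show ringKrullDim (Aq ⧸ p.asIdeal.map (algebraMap A Aq)) = _
  rw [ringKrullDim_quotient]
  have hcomap : ∀ P : PrimeSpectrum Aq, ((f P).1).asIdeal = P.asIdeal.comap (algebraMap A Aq) := fun _ => rfl
  let g : (PrimeSpectrum.zeroLocus ((p.asIdeal.map (algebraMap A Aq) : Ideal Aq) : Set Aq)) ≃o Set.Icc p q :=
    { toFun := fun P => ⟨(f P.1).1, by
        show p.asIdeal ≤ ((f P.1).1).asIdeal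
        rw [hcomap]; exact Ideal.map_le_iff_le_comap.1 P.2, (f P.1).2⟩
      invFun := fun r => ⟨f.symm ⟨r.1, r.2.2⟩, Ideal.map_le_iff_le_comap.2 (by
        rw [← hcomap, OrderIso.apply_symm_apply]; exact r.2.1)⟩
      left_inv := fun P => Subtype.ext (f.symm_apply_apply P.1)
      right_inv := fun r => Subtype.ext (by show (f (f.symm ⟨r.1, r.2.2⟩)).1 = r.1; rw [OrderIso.apply_symm_apply])
      map_rel_iff' := fun {P P'} => f.le_iff_le (x := P.1) (y := P'.1) }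
  exact Order.krullDim_eq_of_orderIso g

variable (M : Type u) [AddCommGroup M] [Module A M] [Module.Finite A M] {I J : Ideal A} {s d : ℕ}
  {T : Set (PrimeSpectrum A)}

/-- Depth at a prime. -/
noncomputable abbrev depthAt (N : Type u) [AddCommGroup N] [Module A N] (p : PrimeSpectrum A) : ℕ∞ :=
  LocCoh.depth (Localization.AtPrime p.asIdeal) (LocalizedModule p.asIdeal.primeCompl N)

/-- The annihilator condition off `T ∪ V(I)`. -/
theorem cond_of_hyp (hT : ∀ p : PrimeSpectrum A, p ∈ T ↔ ∀ q : PrimeSpectrum A, p ≤ q → I ≤ q.asIdeal → J ≤ q.asIdeal)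
    (h3 : ∀ p : PrimeSpectrum A, ¬ I ≤ p.asIdeal → p ∈ T → ∃ q : PrimeSpectrum A, p ≤ q ∧ J ≤ q.asIdeal ∧
      I ≤ q.asIdeal ∧ Formal2.dimBetween A p.asIdeal q.asIdeal ≤ ((d : ℕ∞) : WithBot ℕ∞))
    (h4 : ∀ p : PrimeSpectrum A, ¬ I ≤ p.asIdeal → p ∉ T → ∀ q : PrimeSpectrum A, p ≤ q → J ≤ q.asIdeal →
      I ≤ q.asIdeal → (s : ℕ∞) ≤ depthAt M p ∨ (((d + s : ℕ) : ℕ∞) : WithBot ℕ∞) <
        ((depthAt M p : ℕ∞) : WithBot ℕ∞) + Formal2.dimBetween A p.asIdeal q.asIdeal)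
    (p q : PrimeSpectrum A) (hp : ¬ I ≤ p.asIdeal) (hpT : p ∉ T) (hq : q ∈ T) (hpq : p ≤ q) :
    (s : WithBot ℕ∞) < ((depthAt M p : ℕ∞) : WithBot ℕ∞) + Order.krullDim (Set.Icc p q) := by
  have hd0 := deg_mono hω hpq
  have hne : deg hω p < deg hω q := deg_lt hω (lt_of_le_of_ne hpq fun e => hpT (e ▸ hq))
  obtain ⟨q', hqq', hJ', hI', hd'⟩ : ∃ q', q ≤ q' ∧ J ≤ q'.asIdeal ∧ I ≤ q'.asIdeal ∧
      Formal2.dimBetween A q.asIdeal q'.asIdeal ≤ ((d : ℕ∞) : WithBot ℕ∞) := by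
    by_cases hIq : I ≤ q.asIdeal
    · refine ⟨q, le_rfl, (hT q).1 hq q le_rfl hIq, hIq, ?_⟩
      rw [dimBetween_eq hω le_rfl, krullDim_Icc hω le_rfl]
      simp
    · exact h3 q hIq hq
  have h := h4 p hp hpT q' (hpq.trans hqq') hJ' hI'
  rw [dimBetween_eq hω (hpq.trans hqq'), krullDim_Icc hω (hpq.trans hqq')] at h
  rw [dimBetween_eq hω hqq', krullDim_Icc hω hqq'] at hd'
  rw [krullDim_Icc hω hpq]
  rcases ne_or_eq (depthAt M p) ⊤ with hn | hn
  swap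
  · show _ < ((depthAt M p : ℕ∞) : WithBot ℕ∞) + _
    rw [hn]
    exact WithBot.coe_lt_coe.2 (show (s : ℕ∞) < ⊤ + _ by rw [top_add]; exact ENat.coe_lt_top s)
  obtain ⟨n, hn⟩ := ENat.ne_top_iff_exists.1 hn
  simp only [← hn] at h ⊢
  have hd'' : (deg hω q' - deg hω q).toNat ≤ d := by exact_mod_cast hd'
  have hm := deg_mono hω hqq'
  suffices s < n + (deg hω q - deg hω p).toNat by exact_mod_cast this
  rcases h with h | h
  · have h' : s ≤ n := by exact_mod_cast h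
    omega
  · have h' : d + s < n + (deg hω q' - deg hω p).toNat := by exact_mod_cast h
    omega

theorem stable_of_hyp (hT : ∀ p : PrimeSpectrum A, p ∈ T ↔ ∀ q : PrimeSpectrum A, p ≤ q → I ≤ q.asIdeal → J ≤ q.asIdeal) :
    StableUnderSpecialization T := fun x y hxy hx => (hT y).2 fun q hq hIq =>
  (hT x).1 hx q (((PrimeSpectrum.le_iff_specializes x y).2 hxy).trans hq) hIq

/-- Vanishing of local cohomology at a point of large depth. -/
theorem subsingleton_H_of_depth {p : PrimeSpectrum A} (h : (s : ℕ∞) < depthAt M p) (i : ℕ) (hi : i ≤ s) :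
    Subsingleton (_root_.LocCoh.H (IsLocalRing.maximalIdeal (Localization.AtPrime p.asIdeal)) i
      (LocalizedModule p.asIdeal.primeCompl M)) := by
  haveI : IsNoetherianRing (Localization.AtPrime p.asIdeal) :=
    IsLocalization.isNoetherianRing p.asIdeal.primeCompl _ inferInstance
  haveI : Module.Finite (Localization.AtPrime p.asIdeal) (LocalizedModule p.asIdeal.primeCompl M) :=
    Module.Finite.of_isLocalizedModule p.asIdeal.primeCompl (LocalizedModule.mkLinearMap p.asIdeal.primeCompl M)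
  exact (LocCoh.natCast_le_idealDepth_iff_H (I := IsLocalRing.maximalIdeal (Localization.AtPrime p.asIdeal))
    (M := LocalizedModule p.asIdeal.primeCompl M) (s + 1)).1
    (by push_cast; exact Order.add_one_le_of_lt h) i (by omega)

/-- The comparison maps are bijective when the points in between have large depth. -/
theorem bijective_HmapOfLE {K K' : Ideal A} (hKK' : K ≤ K')
    (h : ∀ p : PrimeSpectrum A, K ≤ p.asIdeal → ¬ K' ≤ p.asIdeal → (s : ℕ∞) < depthAt M p) (i : ℕ) (hi : i ≤ s) :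
    Function.Bijective ((Dual2.HmapOfLE hKK' i).app (ModuleCat.of A M)).hom :=
  ⟨(LocCoh.Hle_surjective_injective_of_local hKK' M i).2 fun p hp hp' j hj =>
    subsingleton_H_of_depth hω M (h p hp hp') j (by omega),
   (LocCoh.Hle_surjective_injective_of_local hKK' M i).1 fun p hp hp' =>
    subsingleton_H_of_depth hω M (h p hp hp') i hi⟩

/-- Annihilation for a closed set of supports. -/
theorem exists_pow_kills_H {K L : Ideal A}
    (h : ∀ p q : PrimeSpectrum A, ¬ L ≤ p.asIdeal → K ≤ q.asIdeal → p ≤ q →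
      (s : WithBot ℕ∞) < ((depthAt M p : ℕ∞) : WithBot ℕ∞) + Order.krullDim (Set.Icc p q)) :
    ∃ n : ℕ, ∀ a ∈ L ^ n, ∀ i : ℕ, i ≤ s → ∀ x : _root_.LocCoh.H K i M, a • x = 0 := by
  obtain ⟨P, hP, hk⟩ := (annihilator_theorem_module hω
    (PrimeSpectrum.isClosed_zeroLocus (K : Set A)).stableUnderSpecialization
    (PrimeSpectrum.isClosed_zeroLocus (L : Set A)).stableUnderSpecialization s M).2 h
  obtain ⟨n, hn⟩ := Ideal.exists_pow_le_of_le_radical_of_fg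
    ((PrimeSpectrum.zeroLocus_subset_zeroLocus_iff P L).1 hP) (IsNoetherian.noetherian L)
  exact ⟨n, fun a ha i hi => kills_H_of_kills_HT K i M (hk i hi a (hn ha))⟩

/-- The stabilising ideal. -/
theorem exists_J0 (hT : ∀ p : PrimeSpectrum A, p ∈ T ↔ ∀ q : PrimeSpectrum A, p ≤ q → I ≤ q.asIdeal → J ≤ q.asIdeal)
    (h3 : ∀ p : PrimeSpectrum A, ¬ I ≤ p.asIdeal → p ∈ T → ∃ q : PrimeSpectrum A, p ≤ q ∧ J ≤ q.asIdeal ∧
      I ≤ q.asIdeal ∧ Formal2.dimBetween A p.asIdeal q.asIdeal ≤ ((d : ℕ∞) : WithBot ℕ∞))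
    (h4 : ∀ p : PrimeSpectrum A, ¬ I ≤ p.asIdeal → p ∉ T → ∀ q : PrimeSpectrum A, p ≤ q → J ≤ q.asIdeal →
      I ≤ q.asIdeal → (s : ℕ∞) ≤ depthAt M p ∨ (((d + s : ℕ) : ℕ∞) : WithBot ℕ∞) <
        ((depthAt M p : ℕ∞) : WithBot ℕ∞) + Formal2.dimBetween A p.asIdeal q.asIdeal) :
    ∃ J₀ : Ideal A, J₀ ≤ J ∧
      (∀ p : PrimeSpectrum A, J₀ ≤ p.asIdeal → p ∈ T) ∧
      (∀ p q : PrimeSpectrum A, ¬ I ≤ p.asIdeal → ¬ J₀ ≤ p.asIdeal → q ∈ T → p ≤ q →
        (s : WithBot ℕ∞) < ((depthAt M p : ℕ∞) : WithBot ℕ∞) + Order.krullDim (Set.Icc p q)) ∧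
      PrimeSpectrum.zeroLocus ((J₀ : Ideal A) : Set A) ∩ PrimeSpectrum.zeroLocus ((I : Ideal A) : Set A) =
        PrimeSpectrum.zeroLocus ((J : Ideal A) : Set A) ∩ PrimeSpectrum.zeroLocus ((I : Ideal A) : Set A) ∧
      (∀ (J' : Ideal A) (hJ' : J' ≤ J₀), PrimeSpectrum.zeroLocus ((J' : Ideal A) : Set A) ∩
          PrimeSpectrum.zeroLocus ((I : Ideal A) : Set A) =
            PrimeSpectrum.zeroLocus ((J : Ideal A) : Set A) ∩ PrimeSpectrum.zeroLocus ((I : Ideal A) : Set A) →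
          ∀ i : ℕ, i ≤ s → Function.Bijective ((Dual2.HmapOfLE hJ' i).app (ModuleCat.of A M)).hom) ∧
      ∃ n : ℕ, ∀ a ∈ (J₀ * I) ^ n, ∀ i : ℕ, i ≤ s → ∀ x : _root_.LocCoh.H J₀ i M, a • x = 0 := by
  classical
  have hTs := stable_of_hyp hω hT
  let U : Set (PrimeSpectrum A) := T ∪ PrimeSpectrum.zeroLocus (I : Set A)
  have hU : StableUnderSpecialization U := fun x y hxy hx => hx.imp (hTs hxy) ((PrimeSpectrum.isClosed_zeroLocus _).stableUnderSpecialization hxy)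
  obtain ⟨J₁, hJ₁, hk₁⟩ := (annihilator_theorem_module hω hTs hU s M).2 fun p q hp hq hpq =>
    cond_of_hyp hω M hT h3 h4 p q (fun h => hp (Or.inr h)) (fun h => hp (Or.inl h)) hq hpq
  let S := ((Ideal.finite_minimalPrimes_of_isNoetherianRing A J₁).toFinset).filter fun P => ¬ I ≤ P
  let J₀ := J ⊓ S.inf id
  have hsub : ∀ p : PrimeSpectrum A, J₀ ≤ p.asIdeal → p ∈ T := by
    intro p hp
    rcases p.2.inf_le.1 hp with h | h
    · exact (hT p).2 fun q hpq _ => h.trans hpq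
    · obtain ⟨P, hP, hPp⟩ := p.2.inf_le'.1 h
      simp only [S, Finset.mem_filter, Set.Finite.mem_toFinset] at hP
      let P' : PrimeSpectrum A := ⟨P, hP.1.1.1⟩
      have hP' : P' ∈ U := hJ₁ hP.1.1.2
      exact hTs ((PrimeSpectrum.le_iff_specializes P' p).1 hPp) (hP'.resolve_right hP.2)
  have hdepth : ∀ p : PrimeSpectrum A, ¬ I ≤ p.asIdeal → ¬ J₀ ≤ p.asIdeal → ∀ q ∈ T, p ≤ q →
      (s : WithBot ℕ∞) < ((depthAt M p : ℕ∞) : WithBot ℕ∞) + Order.krullDim (Set.Icc p q) := by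
    intro p hpI hp0 q hq hpq
    refine (annihilator_theorem_module hω hTs (PrimeSpectrum.isClosed_zeroLocus (J₁ : Set A)).stableUnderSpecialization
      s M).1 ⟨J₁, le_rfl, hk₁⟩ p q (fun hp1 => ?_) hq hpq
    obtain ⟨P, hP, hPp⟩ := Ideal.exists_minimalPrimes_le (I := J₁) (J := p.asIdeal) hp1
    refine hp0 (inf_le_right.trans ((Finset.inf_le (f := id) ?_).trans hPp))
    simp only [S, Finset.mem_filter, Set.Finite.mem_toFinset]
    exact ⟨hP, fun h => hpI (h.trans hPp)⟩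
  have hVI : PrimeSpectrum.zeroLocus ((J₀ : Ideal A) : Set A) ∩ PrimeSpectrum.zeroLocus ((I : Ideal A) : Set A) =
      PrimeSpectrum.zeroLocus ((J : Ideal A) : Set A) ∩ PrimeSpectrum.zeroLocus ((I : Ideal A) : Set A) := by
    refine Set.Subset.antisymm (fun p hp => ⟨(hT p).1 (hsub p hp.1) p le_rfl hp.2, hp.2⟩) fun p hp => ⟨?_, hp.2⟩
    exact (inf_le_left : J₀ ≤ J).trans hp.1
  refine ⟨J₀, inf_le_left, hsub, fun p q hpI hp0 hq hpq => hdepth p hpI hp0 q hq hpq, hVI, ?_, ?_⟩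
  · intro J' hJ' hJ'I i hi
    refine bijective_HmapOfLE hω M hJ' (fun p hp hp0 => ?_) i hi
    have hpI : ¬ I ≤ p.asIdeal := fun hI => hp0 (by
      have : p ∈ PrimeSpectrum.zeroLocus ((J₀ : Ideal A) : Set A) ∩ PrimeSpectrum.zeroLocus ((I : Ideal A) : Set A) := by
        rw [hVI, ← hJ'I]; exact ⟨hp, hI⟩
      exact this.1)
    have hpT : p ∈ T := (hT p).2 fun q hpq hIq => by
      have : q ∈ PrimeSpectrum.zeroLocus ((J : Ideal A) : Set A) ∩ PrimeSpectrum.zeroLocus ((I : Ideal A) : Set A) := by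
        rw [← hJ'I]; exact ⟨hp.trans hpq, hIq⟩
      exact this.1
    have h := hdepth p hpI hp0 p hpT le_rfl
    rw [krullDim_Icc hω le_rfl, sub_self, Int.toNat_zero, Nat.cast_zero, add_zero] at h
    exact_mod_cast h
  · refine exists_pow_kills_H hω M fun p q hp hq hpq => ?_
    exact hdepth p (fun h => hp (Ideal.mul_le_right.trans h)) (fun h => hp (Ideal.mul_le_left.trans h)) q (hsub q hq) hpq

/-- Finiteness of the stable value. -/
theorem finite_H_J0 {J₀ : Ideal A}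
    (hsub : ∀ p : PrimeSpectrum A, J₀ ≤ p.asIdeal → p ∈ T)
    (hdepth : ∀ p q : PrimeSpectrum A, ¬ I ≤ p.asIdeal → ¬ J₀ ≤ p.asIdeal → q ∈ T → p ≤ q →
      (s : WithBot ℕ∞) < ((depthAt M p : ℕ∞) : WithBot ℕ∞) + Order.krullDim (Set.Icc p q))
    (hT : ∀ p : PrimeSpectrum A, p ∈ T ↔ ∀ q : PrimeSpectrum A, p ≤ q → I ≤ q.asIdeal → J ≤ q.asIdeal)
    (hVI : PrimeSpectrum.zeroLocus ((J₀ : Ideal A) : Set A) ∩ PrimeSpectrum.zeroLocus ((I : Ideal A) : Set A) =
      PrimeSpectrum.zeroLocus ((J : Ideal A) : Set A) ∩ PrimeSpectrum.zeroLocus ((I : Ideal A) : Set A))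
    (h2 : ∀ p : PrimeSpectrum A, I ≤ p.asIdeal → ¬ J ≤ p.asIdeal → ∀ q : PrimeSpectrum A, p ≤ q → J ≤ q.asIdeal →
      I ≤ q.asIdeal → ((s : ℕ∞) : WithBot ℕ∞) < ((depthAt M p : ℕ∞) : WithBot ℕ∞) + Formal2.dimBetween A p.asIdeal q.asIdeal)
    (i : ℕ) (hi : i ≤ s) : Module.Finite A (_root_.LocCoh.H J₀ i M) := by
  obtain ⟨n, hn⟩ := exists_pow_kills_H hω M (K := J₀) (L := J₀) (s := s) fun p q hp hq hpq => by
    by_cases hIp : I ≤ p.asIdeal
    · have hIq : I ≤ q.asIdeal := hIp.trans hpq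
      have hJq : J ≤ q.asIdeal := (hT q).1 (hsub q hq) q le_rfl hIq
      have hJp : ¬ J ≤ p.asIdeal := fun h => hp (by
        have : p ∈ PrimeSpectrum.zeroLocus ((J₀ : Ideal A) : Set A) ∩ PrimeSpectrum.zeroLocus ((I : Ideal A) : Set A) := by
          rw [hVI]; exact ⟨h, hIp⟩
        exact this.1)
      have h := h2 p hIp hJp q hpq hJq hIq
      rw [dimBetween_eq hω hpq] at h
      exact h
    · exact hdepth p q hIp hp (hsub q hq) hpq
  exact (LocCoh.finite_H_iff_annihilated J₀ M s).2 ⟨J₀ ^ n, fun x hx => ⟨n, Ideal.pow_mem_pow hx n⟩,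
    fun j hj a ha => hn a ha j hj⟩ i hi

/-- Annihilation by a power of `I` and excision when `T ∖ V(I)` has large depth. -/
theorem of_large_depth {J₀ : Ideal A} (hJ₀ : J₀ ≤ J)
    (hsub : ∀ p : PrimeSpectrum A, J₀ ≤ p.asIdeal → p ∈ T)
    (hVI : PrimeSpectrum.zeroLocus ((J₀ : Ideal A) : Set A) ∩ PrimeSpectrum.zeroLocus ((I : Ideal A) : Set A) =
      PrimeSpectrum.zeroLocus ((J : Ideal A) : Set A) ∩ PrimeSpectrum.zeroLocus ((I : Ideal A) : Set A))
    (hT : ∀ p : PrimeSpectrum A, p ∈ T ↔ ∀ q : PrimeSpectrum A, p ≤ q → I ≤ q.asIdeal → J ≤ q.asIdeal)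
    (h3 : ∀ p : PrimeSpectrum A, ¬ I ≤ p.asIdeal → p ∈ T → ∃ q : PrimeSpectrum A, p ≤ q ∧ J ≤ q.asIdeal ∧
      I ≤ q.asIdeal ∧ Formal2.dimBetween A p.asIdeal q.asIdeal ≤ ((d : ℕ∞) : WithBot ℕ∞))
    (h4 : ∀ p : PrimeSpectrum A, ¬ I ≤ p.asIdeal → p ∉ T → ∀ q : PrimeSpectrum A, p ≤ q → J ≤ q.asIdeal →
      I ≤ q.asIdeal → (s : ℕ∞) ≤ depthAt M p ∨ (((d + s : ℕ) : ℕ∞) : WithBot ℕ∞) <
        ((depthAt M p : ℕ∞) : WithBot ℕ∞) + Formal2.dimBetween A p.asIdeal q.asIdeal)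
    (h6 : ∀ p : PrimeSpectrum A, ¬ I ≤ p.asIdeal → p ∈ T → (s : ℕ∞) < depthAt M p) :
    (∀ i : ℕ, i ≤ s → Function.Bijective ((Dual2.HmapOfLE hJ₀ i).app (ModuleCat.of A M)).hom ∧
      Function.Bijective ((Dual2.HmapOfLE (le_sup_left : J ≤ J ⊔ I) i).app (ModuleCat.of A M)).hom) ∧
    ∃ n : ℕ, ∀ a ∈ I ^ n, ∀ i : ℕ, i ≤ s → ∀ x : _root_.LocCoh.H J i M, a • x = 0 := by
  have hJT : ∀ q : PrimeSpectrum A, J ≤ q.asIdeal → q ∈ T := fun q hq => (hT q).2 fun r hqr _ => hq.trans hqr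
  refine ⟨fun i hi => ⟨bijective_HmapOfLE hω M hJ₀ (fun p hp hpJ => h6 p (fun hI => hpJ ?_) (hsub p hp)) i hi,
    bijective_HmapOfLE hω M _ (fun p hp hp' => h6 p (fun hI => hp' (sup_le hp hI)) (hJT p hp)) i hi⟩, ?_⟩
  · have : p ∈ PrimeSpectrum.zeroLocus ((J : Ideal A) : Set A) ∩ PrimeSpectrum.zeroLocus ((I : Ideal A) : Set A) := by
      rw [← hVI]; exact ⟨hp, hI⟩
    exact this.1
  refine exists_pow_kills_H hω M fun p q hp hq hpq => ?_
  by_cases hpT : p ∈ T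
  · calc (s : WithBot ℕ∞) < ((depthAt M p : ℕ∞) : WithBot ℕ∞) := by exact_mod_cast h6 p hp hpT
      _ ≤ _ := le_add_of_nonneg_right (by rw [krullDim_Icc hω hpq]; exact_mod_cast Nat.zero_le _)
  · exact cond_of_hyp hω M hT h3 h4 p q hp hpT (hJT q hq) hpq

end Groth.Agent.CAlgH3.DT
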