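import Groth.Agent.CAlgH3.DT.PrimeKill
import Groth.Agent.CAlgH3.DT.Stab
import Groth.Agent.CAlgH3.DT.CompletionDepth

/-! The completion of `RΓ_J M` has torsion cohomology in low degrees. -/

set_option autoImplicit false
set_option backward.isDefEq.respectTransparency false
set_option backward.isDefEq.respectTransparency.types false
set_option backward.defeqAttrib.useBackward true
set_option linter.style.haveILetI false

universe u

open CategoryTheory CategoryTheory.Limits

attribute [local instance] HasDerivedCategory.standard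

namespace Groth.Agent.CAlgH3.DT

open Groth.Agent.DualLib

variable {A : Type u} [CommRing A] [IsNoetherianRing A] {I : Ideal A} [IsAdicComplete I A]
  [DRing.HasDerivedCompletion I] {ω : Dual.D A} (hω : Dual.IsDualizing A ω) {d : ℕ}
  (hcd : _root_.LocCoh.CdLE A I d)

omit [DRing.HasDerivedCompletion I] in
include hcd in
/-- Every point of `T` is within distance `d` of `V(I) ∩ V(J)`. -/
theorem exists_near {J : Ideal A} {T : Set (PrimeSpectrum A)}
    (hT : ∀ p : PrimeSpectrum A, p ∈ T ↔ ∀ q : PrimeSpectrum A, p ≤ q → I ≤ q.asIdeal → J ≤ q.asIdeal)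
    (p : PrimeSpectrum A) (hp : p ∈ T) :
    ∃ q : PrimeSpectrum A, p ≤ q ∧ J ≤ q.asIdeal ∧ I ≤ q.asIdeal ∧
      Formal2.dimBetween A p.asIdeal q.asIdeal ≤ ((d : ℕ∞) : WithBot ℕ∞) := by
  obtain ⟨𝔪, h𝔪, hp𝔪⟩ := Ideal.exists_le_maximal p.asIdeal p.2.ne_top
  have hI𝔪 : I ≤ 𝔪 := (IsAdicComplete.le_jacobson_bot I).trans (sInf_le ⟨bot_le, h𝔪⟩)
  haveI := h𝔪.isPrime
  obtain ⟨Q, hQ, -⟩ := Ideal.exists_minimalPrimes_le (I := p.asIdeal ⊔ I) (J := 𝔪) (sup_le hp𝔪 hI𝔪)
  obtain ⟨q, rfl⟩ : ∃ q : PrimeSpectrum A, q.asIdeal = Q := ⟨⟨Q, hQ.1.1⟩, rfl⟩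
  have hpq : p ≤ q := le_sup_left.trans hQ.1.2
  have hIq : I ≤ q.asIdeal := le_sup_right.trans hQ.1.2
  refine ⟨q, hpq, (hT p).1 hp q hpq hIq, hIq, ?_⟩
  let Aq := Localization.AtPrime q.asIdeal
  haveI : IsNoetherianRing Aq := IsLocalization.isNoetherianRing q.asIdeal.primeCompl Aq inferInstance
  let K := p.asIdeal.map (algebraMap A Aq)
  have hK : K ≤ IsLocalRing.maximalIdeal Aq :=
    (Ideal.map_mono (show p.asIdeal ≤ q.asIdeal from hpq)).trans Localization.AtPrime.map_eq_maximalIdeal.le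
  haveI : Nontrivial (Aq ⧸ K) := Ideal.Quotient.nontrivial_iff.2 (ne_top_of_le_ne_top (IsLocalRing.maximalIdeal.isMaximal Aq).ne_top hK)
  haveI : IsLocalRing (Aq ⧸ K) := IsLocalRing.of_surjective' (Ideal.Quotient.mk K) Ideal.Quotient.mk_surjective
  have hcomp : algebraMap A (Aq ⧸ K) = (Ideal.Quotient.mk K).comp (algebraMap A Aq) := rfl
  have hmax : ∀ P : PrimeSpectrum (Aq ⧸ K), P.asIdeal.comap (Ideal.Quotient.mk K) = IsLocalRing.maximalIdeal Aq →
      P.asIdeal = IsLocalRing.maximalIdeal (Aq ⧸ K) := fun P hP => by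
    refine le_antisymm (IsLocalRing.le_maximalIdeal P.2.ne_top) ?_
    rw [← Ideal.map_comap_of_surjective _ Ideal.Quotient.mk_surjective P.asIdeal, hP]
    intro x hx
    obtain ⟨y, rfl⟩ := Ideal.Quotient.mk_surjective x
    exact Ideal.mem_map_of_mem _ ((IsLocalRing.mem_maximalIdeal y).2 fun hu => (IsLocalRing.mem_maximalIdeal _).1 hx (hu.map _))
  refine ringKrullDim_le_of_cdLE (S := Aq ⧸ K) I hcd (fun P hP => ?_) ?_
  · refine hmax P ?_
    rw [hcomp, ← Ideal.map_map, Ideal.map_le_iff_le_comap, Ideal.map_le_iff_le_comap] at hP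
    let P' := (P.asIdeal.comap (Ideal.Quotient.mk K)).comap (algebraMap A Aq)
    have hP'q : P' ≤ q.asIdeal := (Ideal.comap_mono (IsLocalRing.le_maximalIdeal
      (P.2.comap (Ideal.Quotient.mk K)).ne_top)).trans Localization.AtPrime.under_maximalIdeal.le
    have hle : p.asIdeal ⊔ I ≤ P' := sup_le (Ideal.map_le_iff_le_comap.1 (by
      intro z hz
      rw [Ideal.mem_comap, Ideal.Quotient.eq_zero_iff_mem.2 hz]
      exact zero_mem _)) hP
    have hP'eq : P' = q.asIdeal := le_antisymm hP'q (hQ.2 ⟨(P.2.comap _).comap _, hle⟩ hP'q)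
    rw [← IsLocalization.map_under q.asIdeal.primeCompl Aq (P.asIdeal.comap (Ideal.Quotient.mk K))]
    show Ideal.map (algebraMap A Aq) P' = _
    rw [hP'eq, Localization.AtPrime.map_eq_maximalIdeal]
  · rw [hcomp, ← Ideal.map_map]
    refine (Ideal.map_mono ((Ideal.map_mono hIq).trans Localization.AtPrime.map_eq_maximalIdeal.le)).trans ?_
    refine IsLocalRing.le_maximalIdeal fun h => ?_
    have h' := congrArg (Ideal.comap (Ideal.Quotient.mk K)) h
    rw [Ideal.comap_map_of_surjective _ Ideal.Quotient.mk_surjective, Ideal.comap_top, ← RingHom.ker_eq_comap_bot,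
      Ideal.mk_ker, sup_eq_left.2 hK] at h'
    exact (IsLocalRing.maximalIdeal.isMaximal Aq).ne_top h'

include hω hcd in
/-- Torsion of the completed cohomology. -/
theorem isPowerTorsion_completion (J' : Ideal A) [DRing.HasRgammaI J'] (M : Type u) [AddCommGroup M] [Module A M]
    [Module.Finite A M] (s : ℕ)
    (hI : ∀ p : PrimeSpectrum A, ¬ J' ≤ p.asIdeal → ¬ I ≤ p.asIdeal →
      ((s : ℕ∞) < _root_.LocCoh.depth (Localization.AtPrime p.asIdeal) (LocalizedModule p.asIdeal.primeCompl M)) ∨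
      ((∃ r : PrimeSpectrum A, p ≤ r ∧ I ≤ r.asIdeal ∧ ¬ J' ≤ r.asIdeal) ∧
        ∀ q : PrimeSpectrum A, p ≤ q → J' ≤ q.asIdeal → I ≤ q.asIdeal →
          (s : ℕ∞) ≤ _root_.LocCoh.depth (Localization.AtPrime p.asIdeal) (LocalizedModule p.asIdeal.primeCompl M) ∨
            (((d + s : ℕ) : ℕ∞) : WithBot ℕ∞) < ((_root_.LocCoh.depth (Localization.AtPrime p.asIdeal)
              (LocalizedModule p.asIdeal.primeCompl M) : ℕ∞) : WithBot ℕ∞) + Formal2.dimBetween A p.asIdeal q.asIdeal))
    (i : ℤ) (hi : i ≤ s) :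
    _root_.LocCoh.IsPowerTorsion J'
      (Dual.HD A ((DRing.derivedCompletion I).obj ((DRing.RgammaI J').obj (Dual.inD A M))).obj i) := by
  classical
  obtain ⟨t, ht⟩ := RGam.exists_list (J' ⊔ I)
  have key : ∀ p : PrimeSpectrum A, ¬ J' ≤ p.asIdeal → ∀ j : ℤ, j ≤ s → Van I t p (ModuleCat.of A M) j := by
    intro p
    induction hh : p.asIdeal.height using WellFoundedLT.induction generalizing p with
    | _ h₀ ih =>
      intro hp
      have htor : ∀ j : ℤ, j ≤ s → TorP I t p (ModuleCat.of A M) j := by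
        intro j hj z a ha
        by_contra h
        push Not at h
        let S : Submonoid A :=
          { carrier := {x | ∃ (g : A) (k : ℕ), g ∉ p.asIdeal ∧ x = g * a ^ k}
            one_mem' := ⟨1, 0, p.2.one_notMem, by simp⟩
            mul_mem' := by
              rintro x y ⟨g, k, hg, rfl⟩ ⟨g', k', hg', rfl⟩
              exact ⟨g * g', k + k', fun h => (p.2.mem_or_mem h).elim hg hg', by ring⟩ }
        let b : Ideal A := LinearMap.ker (LinearMap.toSpanSingleton A _ z)
        have hdis : Disjoint (b : Set A) (S : Set A) := Set.disjoint_left.2 fun x hx ⟨g, k, hg, hgk⟩ =>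
          h g k hg (by rw [smul_smul, ← hgk]; exact hx)
        obtain ⟨P, hP, hbP, hPS⟩ := Ideal.exists_le_prime_disjoint b S hdis
        have hlt : (⟨P, hP⟩ : PrimeSpectrum A) < p := by
          refine lt_of_le_of_ne (fun x hx => ?_) fun e => ?_
          · by_contra hxp
            exact Set.disjoint_left.1 hPS hx ⟨x, 0, hxp, by simp⟩
          · exact Set.disjoint_left.1 hPS (show a ∈ P from (congrArg PrimeSpectrum.asIdeal e).ge ha)
              ⟨1, 1, p.2.one_notMem, by simp⟩
        have hht : P.height < h₀ := hh ▸ Ideal.height_strict_mono_of_isPrime hlt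
        obtain ⟨g, hg, hgz⟩ := ih _ hht ⟨P, hP⟩ rfl (fun h' => hp (h'.trans hlt.le)) j hj z
        exact hg (hbP hgz)
      by_cases hIp : I ≤ p.asIdeal
      · refine van_of_torP I t p (s + 1) M 0 s (by omega) (by simp) (fun K _ _ _ hK j _ z => ?_) htor
        obtain ⟨L, hL⟩ := exists_pow_smul_of_killed I t (J' ⊔ I) ht (ModuleCat.of A K)
          (fun a ha x => hK a (hIp ha) x) j z
        obtain ⟨c, hc, hcp⟩ := SetLike.not_le_iff_exists.1 hp
        exact ⟨c ^ L, fun h => hcp (p.2.mem_of_pow_mem L h), hL _ (Ideal.pow_mem_pow (Ideal.mem_sup_left hc) L)⟩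
      rcases lt_or_ge (s : ℕ∞) (_root_.LocCoh.depth (Localization.AtPrime p.asIdeal)
          (LocalizedModule p.asIdeal.primeCompl M)) with hd | hd
      · exact van_of_torP I t p (s + 1) M (s + 1) s (by omega) (by push_cast; exact Order.add_one_le_of_lt hd)
          (fun K _ _ _ _ j hj => van_of_neg I t p _ j (by omega)) htor
      obtain ⟨⟨r, hpr, hIr, hJr⟩, h4⟩ := (hI p hp hIp).resolve_left (not_lt.2 hd)
      obtain ⟨n, hn⟩ := ENat.ne_top_iff_exists.1 (ne_top_of_le_ne_top (ENat.coe_ne_top s) hd)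
      refine van_of_torP I t p (s + 1) M n s (by omega) hn.le (fun K _ _ _ hK j hj z => ?_) htor
      rcases lt_trichotomy j 0 with hj0 | rfl | hj0
      · exact van_of_neg I t p _ j hj0 z
      · exact exists_smul_ch_zero I t (J' ⊔ I) ht K hpr hIr (fun h => hJr (le_sup_left.trans h)) z
      by_cases hq : ∃ q : PrimeSpectrum A, p ≤ q ∧ J' ≤ q.asIdeal ∧ I ≤ q.asIdeal
      · lift j to ℕ using hj0.le
        obtain ⟨f, hf, hkill⟩ := exists_kills_completion hω I J' K p j d hcd (fun x q hxp hxq hIJq => by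
          rcases eq_or_lt_of_le hxp with rfl | hlt
          · have hJq : J' ≤ q.asIdeal := le_sup_right.trans hIJq
            have hns : ¬ (s : ℕ∞) ≤ _root_.LocCoh.depth (Localization.AtPrime x.asIdeal)
                (LocalizedModule x.asIdeal.primeCompl M) := by
              rw [← hn]
              exact not_le.2 (by exact_mod_cast (show n < s by omega))
            have h5 := (h4 q hxq hJq (le_sup_left.trans hIJq)).resolve_left hns
            rw [← hn, dimBetween_eq hω hxq, krullDim_Icc hω hxq] at h5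
            rw [krullDim_Icc hω hxq]
            generalize (deg hω q - deg hω x).toNat = D at h5 ⊢
            generalize _root_.LocCoh.depth (Localization.AtPrime x.asIdeal) (LocalizedModule x.asIdeal.primeCompl K) = e
            have h6 : d + s < n + D := by exact_mod_cast h5
            have h7 : ((0 : ℕ∞) : WithBot ℕ∞) ≤ ((e : ℕ∞) : WithBot ℕ∞) := WithBot.coe_le_coe.2 bot_le
            refine lt_of_lt_of_le ?_ (add_le_add h7 le_rfl)
            exact_mod_cast (show d + j < 0 + D by omega)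
          · obtain ⟨a, hap, hax⟩ := SetLike.not_le_iff_exists.1 (show ¬ p.asIdeal ≤ x.asIdeal from
              fun h => hlt.not_ge h)
            haveI : Subsingleton (LocalizedModule x.asIdeal.primeCompl K) :=
              LocalizedModule.subsingleton_iff.2 fun y => ⟨a, hax, hK a hap y⟩
            rw [CAlgH3.depth_eq_top_of_subsingleton, krullDim_Icc hω hxq]
            generalize (deg hω q - deg hω x).toNat = D
            rw [show ((D : ℕ) : WithBot ℕ∞) = (((D : ℕ∞)) : WithBot ℕ∞) from rfl, ← WithBot.coe_add, top_add]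
            exact WithBot.coe_lt_coe.2 (ENat.natCast_lt_top _))
        obtain ⟨φ⟩ := nonempty_model I t J' ht K (j : ℤ)
        refine ⟨f, hf, ?_⟩
        obtain ⟨z, rfl⟩ := φ.surjective z
        rw [← map_smul, hkill (j : ℤ) le_rfl z, map_zero]
      · push Not at hq
        have h1 : p.asIdeal ⊔ (J' ⊔ I) = ⊤ := by
          by_contra h
          obtain ⟨𝔪, h𝔪, hle⟩ := Ideal.exists_le_maximal _ h
          exact hq ⟨𝔪, h𝔪.isPrime⟩ (le_sup_left.trans hle) ((le_sup_left.trans le_sup_right).trans hle)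
            ((le_sup_right.trans le_sup_right).trans hle)
        obtain ⟨e, he, a, ha, hea⟩ := Submodule.mem_sup.1 ((Ideal.eq_top_iff_one _).1 h1)
        exact ⟨1, p.2.one_notMem, by
          rw [one_smul]
          exact ch_eq_zero_of_unit I t (J' ⊔ I) ht (ModuleCat.of A K) a ha
            (fun (x : K) => (by rw [← hea, add_smul, hK e he, zero_add] : a • x = (1 : A) • x).trans (one_smul A x)) j z⟩
  obtain ⟨φ⟩ := nonempty_model I t J' ht M i
  intro y
  have hle : J' ≤ Ideal.radical (LinearMap.ker (LinearMap.toSpanSingleton A _ (φ y))) := by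
    rw [Ideal.radical_eq_sInf]
    refine le_sInf fun P ⟨hP, hPp⟩ => ?_
    by_contra h
    obtain ⟨g, hg, hgy⟩ := key ⟨P, hPp⟩ h i hi (φ y)
    exact hg (hP hgy)
  obtain ⟨N, hN⟩ := Ideal.exists_pow_le_of_le_radical_of_fg hle (IsNoetherian.noetherian _)
  exact ⟨N, fun a ha => φ.injective (by rw [map_smul, map_zero]; exact hN ha)⟩

end Groth.Agent.CAlgH3.DT
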