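import Groth.Agent.CAlgH3.DT.Gamma
import Groth.Agent.DualLib.GammaHDI

/-! `H^i_T(K)` as cohomology of the sections with supports in `T` of an injective model. -/

set_option autoImplicit false
set_option backward.isDefEq.respectTransparency false
set_option backward.defeqAttrib.useBackward true
set_option linter.style.haveILetI false

universe u

open CategoryTheory CategoryTheory.Limits Opposite

attribute [local instance] HasDerivedCategory.standard

namespace Groth.Agent.CAlgH3.DT

open GammaQuot (gam mem_gam)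
open Groth.Agent.DualLib.GammaHDI
open Groth.Agent.DCat
open Groth.Agent.DualLib (S0)

variable {A : Type u} [CommRing A] (T : Set (PrimeSpectrum A)) (J : DRing.Cx A) (i : ℤ)

/-- Cocycles supported in `T`. -/
noncomputable def Zc : Submodule A (J.X i) := gam T (J.X i) ⊓ LinearMap.ker (J.d i (i + 1)).hom

/-- Coboundaries of sections supported in `T`. -/
noncomputable def Bc : Submodule A (J.X i) := Submodule.map (J.d (i - 1) i).hom (gam T (J.X (i - 1)))

/-- Cohomology of the sections supported in `T`. -/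
abbrev Hc : Type u := Zc T J i ⧸ (Bc T J i).comap (Zc T J i).subtype

variable {T J i}

theorem mem_Bc {x : J.X i} {k : ℤ} (h : k + 1 = i) {y : J.X k} (hy : y ∈ gam T (J.X k)) (hd : (J.d k i).hom y = x) :
    x ∈ Bc T J i := by
  obtain rfl : k = i - 1 := by omega
  exact ⟨y, hy, hd⟩

theorem kills_Hc_iff {a : A} : (∀ x : Hc T J i, a • x = 0) ↔ KT J T i a := by
  constructor
  · intro h z hz hd
    obtain ⟨y, hy, he⟩ := (Submodule.Quotient.mk_eq_zero _).1 (h (Submodule.Quotient.mk ⟨z, hz, hd⟩))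
    exact ⟨y, hy, he.symm⟩
  · intro h x
    obtain ⟨z, rfl⟩ := Submodule.Quotient.mk_surjective _ x
    obtain ⟨y, hy, he⟩ := h z.1 z.2.1 z.2.2
    exact (Submodule.Quotient.mk_eq_zero _).2 ⟨y, hy, he.symm⟩

/-- The quotient by an ideal of the system. -/
noncomputable abbrev Qi (I : Ideal A) : ModuleCat.{u} A := ModuleCat.of A (A ⧸ I)

theorem mk_one_smul {I : Ideal A} {M : Type u} [AddCommGroup M] [Module A M] (f : (A ⧸ I) →ₗ[A] M) {a : A}
    (ha : a ∈ I) : a • f (Submodule.Quotient.mk 1) = 0 := by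
  rw [← map_smul, ← Submodule.Quotient.mk_smul,
    (Submodule.Quotient.mk_eq_zero I).2 (by rwa [smul_eq_mul, mul_one]), map_zero]

variable [J.IsKInjective] {K : Dual.D A} (e : DerivedCategory.Q.obj J ≅ K)

theorem lam_boundary {N : ModuleCat.{u} A} (f : cyc J i N) (h : N →ₗ[A] J.X (i - 1))
    (hh : (J.d (i - 1) i).hom ∘ₗ h = f.1) : lam e N f = 0 := by
  have hnull : DerivedCategory.Q.map (toCx f) = 0 := by
    rw [← DerivedCategory.Q.map_zero]
    refine DerivedCategory.Q_map_eq_of_homotopy _ ?_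
    refine Homotopy.ofEq ?_ |>.trans (Homotopy.nullHomotopy' fun p q _ =>
      if hp : p = i then
        if hq : q = i - 1 then
          (HomologicalComplex.singleObjXIsoOfEq (ComplexShape.up ℤ) i N p hp).hom ≫ ModuleCat.ofHom h ≫
            (J.XIsoOfEq hq).inv
        else 0
      else 0)
    refine HomologicalComplex.from_single_hom_ext ?_
    rw [Homotopy.nullHomotopicMap'_f (show (ComplexShape.up ℤ).Rel (i - 1) i by simp)
      (show (ComplexShape.up ℤ).Rel i (i + 1) by simp)]
    have hd : ((HomologicalComplex.single (ModuleCat.{u} A) (ComplexShape.up ℤ) i).obj N).d i (i + 1) = 0 :=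
      HomologicalComplex.single_obj_d _ _ _ _ _
    rw [hd, zero_comp, zero_add, dif_pos rfl, dif_pos rfl, toCx_f]
    show (HomologicalComplex.singleObjXSelf (ComplexShape.up ℤ) i N).hom ≫ _ = _
    rw [HomologicalComplex.XIsoOfEq_rfl, Iso.refl_inv, Category.comp_id, Category.assoc]
    congr 1
    exact ModuleCat.hom_ext hh.symm
  show (shIso i N).inv ≫ (DerivedCategory.Q.map (toCx f) ≫ e.hom)⟦i⟧' = 0
  rw [hnull, Limits.zero_comp, Functor.map_zero, Limits.comp_zero]

variable (T)

/-- From maps out of `A/I` to cohomology with supports. -/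
theorem exists_stageT (I : Dual2.IdealsIn T) : ∃ L : ((S0 A).obj (Qi I.obj) ⟶ K⟦i⟧) →ₗ[A] Hc T J i,
    ∀ (f : cyc J i (Qi I.obj)) (z : Zc T J i), z.1 = f.1 (Submodule.Quotient.mk 1) →
      L (lam e _ f) = Submodule.Quotient.mk z := by
  let ev : cyc J i (Qi I.obj) →ₗ[A] Zc T J i :=
    { toFun := fun f => ⟨f.1 (Submodule.Quotient.mk 1), gam_of_killed I.property fun a ha => mk_one_smul f.1 ha,
        LinearMap.congr_fun f.2 (Submodule.Quotient.mk 1)⟩
      map_add' := fun _ _ => Subtype.ext rfl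
      map_smul' := fun _ _ => Subtype.ext rfl }
  let E : cyc J i (Qi I.obj) →ₗ[A] Hc T J i := Submodule.mkQ _ ∘ₗ ev
  have hker : LinearMap.ker (lam (i := i) e (Qi I.obj)) ≤ LinearMap.ker E := by
    intro f hf
    obtain ⟨h, hh⟩ := lam_eq_zero e f hf
    exact (Submodule.Quotient.mk_eq_zero _).2 ⟨h (Submodule.Quotient.mk 1),
      gam_of_killed I.property fun a ha => mk_one_smul h ha, LinearMap.congr_fun hh _⟩
  let q := (lam (i := i) e (Qi I.obj)).quotKerEquivOfSurjective (lam_surjective e _)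
  refine ⟨Submodule.liftQ _ _ hker ∘ₗ q.symm.toLinearMap, fun f z hz => ?_⟩
  have : q.symm (lam e _ f) = Submodule.Quotient.mk f := by
    rw [LinearEquiv.symm_apply_eq]; rfl
  show Submodule.liftQ _ _ hker (q.symm (lam e _ f)) = _
  rw [this]
  show Submodule.Quotient.mk (ev f) = _
  rw [show ev f = z from Subtype.ext hz.symm]

omit [J.IsKInjective] in
theorem isFiltered : IsFiltered (Dual2.IdealsIn T)ᵒᵖ := by
  haveI : IsCofiltered (Dual2.IdealsIn T) := by
    refine { cone_objs := fun I I' => ?_, cone_maps := fun I I' f g => ?_, nonempty := ⟨⟨⊤, ?_⟩⟩ }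
    · refine ⟨⟨I.obj ⊓ I'.obj, ?_⟩, ⟨homOfLE inf_le_left⟩, ⟨homOfLE inf_le_right⟩, trivial⟩
      exact (PrimeSpectrum.zeroLocus_inf I.obj I'.obj).trans_subset (Set.union_subset I.property I'.property)
    · exact ⟨I, 𝟙 _, InducedCategory.hom_ext (Subsingleton.elim _ _)⟩
    · rw [show ((⊤ : Ideal A) : Set A) = Set.univ from rfl, PrimeSpectrum.zeroLocus_univ]
      exact Set.empty_subset _
  infer_instance

omit [J.IsKInjective] in
theorem exists_rep (K : Dual.D A) (i : ℤ) (x : Dual2.HDT A T K i) :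
    ∃ n z, (colimit.ι ((localCohomology.ringModIdeals (Dual2.idealsInDiagram T) ⋙
      DerivedCategory.singleFunctor (ModuleCat.{u} A) 0).op ⋙ (linearYoneda A (Dual.D A)).obj (K⟦i⟧)) n).hom z = x := by
  haveI := isFiltered (A := A) T
  haveI : PreservesFilteredColimitsOfSize.{u, u} (forget AddCommGrpCat.{u + 1}) :=
    preservesFilteredColimitsOfSize_shrink.{u, u + 1, u, u + 1} (forget AddCommGrpCat.{u + 1})
  haveI : PreservesColimitsOfShape (Dual2.IdealsIn T)ᵒᵖ (forget AddCommGrpCat.{u + 1}) :=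
    PreservesFilteredColimitsOfSize.preserves_filtered_colimits _
  haveI : PreservesColimitsOfShape (Dual2.IdealsIn T)ᵒᵖ (forget (ModuleCat.{u + 1} A)) :=
    comp_preservesColimitsOfShape (forget₂ (ModuleCat.{u + 1} A) AddCommGrpCat.{u + 1}) (forget AddCommGrpCat.{u + 1})
  exact Limits.Concrete.colimit_exists_rep _ x

include e in
/-- `H^i_T(K) = H^i(Γ_T J)`. -/
theorem nonempty_HDT_equiv : Nonempty (Dual2.HDT A T K i ≃ₗ[A] Hc T J i) := by
  choose L hL using exists_stageT (i := i) T e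
  let G := (localCohomology.ringModIdeals (Dual2.idealsInDiagram T) ⋙
      DerivedCategory.singleFunctor (ModuleCat.{u} A) 0).op ⋙ (linearYoneda A (Dual.D A)).obj (K⟦i⟧)
  let res : ∀ {I I' : Dual2.IdealsIn T}, (I' ⟶ I) → (Qi I'.obj ⟶ Qi I.obj) := fun φ =>
    (localCohomology.ringModIdeals (Dual2.idealsInDiagram T)).map φ
  have hres : ∀ {I I' : Dual2.IdealsIn T} (φ : I' ⟶ I),
      (res φ).hom (Submodule.Quotient.mk 1) = Submodule.Quotient.mk 1 := fun _ => rfl
  have hnat : ∀ (I I' : Dual2.IdealsIn T) (φ : I' ⟶ I) (x : (S0 A).obj (Qi I.obj) ⟶ K⟦i⟧),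
      L I' ((S0 A).map (res φ) ≫ x) = L I x := by
    intro I I' φ x
    obtain ⟨f, rfl⟩ := lam_surjective e _ x
    have hf : f.1 ∘ₗ (res φ).hom ∈ cyc J i (Qi I'.obj) := by
      show (J.d i (i + 1)).hom ∘ₗ _ = 0
      rw [← LinearMap.comp_assoc, f.2, LinearMap.zero_comp]
    rw [← lam_natural e (res φ) f hf]
    let z : Zc T J i := ⟨f.1 (Submodule.Quotient.mk 1), gam_of_killed I.property fun a ha => mk_one_smul f.1 ha,
      LinearMap.congr_fun f.2 (Submodule.Quotient.mk 1)⟩
    rw [hL I' ⟨_, hf⟩ z (congrArg f.1 (hres φ)).symm, hL I f z rfl]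
  let c : Cocone G :=
    { pt := ModuleCat.of A (ULift.{u + 1} (Hc T J i))
      ι :=
        { app := fun n => ModuleCat.ofHom (ULift.moduleEquiv.symm.toLinearMap ∘ₗ L n.unop)
          naturality := fun n k φ => by
            apply ModuleCat.hom_ext
            exact LinearMap.ext fun x => congrArg ULift.up (hnat n.unop k.unop φ.unop x) } }
  let Φ : Dual2.HDT A T K i →ₗ[A] Hc T J i := ULift.moduleEquiv.toLinearMap ∘ₗ (colimit.desc G c).hom
  have hΦ : ∀ (n) (x : G.obj n), Φ ((colimit.ι G n).hom x) = L n.unop x := fun n x => by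
    show ULift.down ((colimit.ι G n ≫ colimit.desc G c).hom x) = _
    rw [colimit.ι_desc]
    rfl
  refine ⟨LinearEquiv.ofBijective Φ ⟨(injective_iff_map_eq_zero _).2 fun z hz => ?_, fun y => ?_⟩⟩
  · obtain ⟨n, x, rfl⟩ := exists_rep T _ _ z
    obtain ⟨f, rfl⟩ : ∃ f, lam e (Qi n.unop.obj) f = x := lam_surjective e _ x
    rw [hΦ, hL n.unop f ⟨f.1 (Submodule.Quotient.mk 1),
      gam_of_killed n.unop.property fun a ha => mk_one_smul f.1 ha,
      LinearMap.congr_fun f.2 (Submodule.Quotient.mk 1)⟩ rfl] at hz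
    obtain ⟨w, hw, hdw⟩ := (Submodule.Quotient.mk_eq_zero _).1 hz
    let I' : Dual2.IdealsIn T := ⟨n.unop.obj ⊓ annEl w, by
      exact (PrimeSpectrum.zeroLocus_inf n.unop.obj (annEl w)).trans_subset (Set.union_subset n.unop.property (mem_gam_iff.1 hw))⟩
    let φ : I' ⟶ n.unop := ObjectProperty.homMk (homOfLE inf_le_left)
    let h : Qi I'.obj →ₗ[A] J.X (i - 1) :=
      Submodule.liftQ _ (LinearMap.toSpanSingleton A _ w) inf_le_right
    have hf' : f.1 ∘ₗ (res φ).hom ∈ cyc J i (Qi I'.obj) := by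
      show (J.d i (i + 1)).hom ∘ₗ _ = 0
      rw [← LinearMap.comp_assoc, f.2, LinearMap.zero_comp]
    have hw' : (G.map φ.op).hom (lam e _ f) = 0 := by
      show (S0 A).map (res φ) ≫ lam e _ f = 0
      rw [← lam_natural e _ f hf']
      refine lam_boundary e _ h ?_
      refine Submodule.linearMap_qext _ (LinearMap.ext_ring ?_)
      show (J.d (i - 1) i).hom ((1 : A) • w) = f.1 ((res φ).hom (Submodule.Quotient.mk 1))
      rw [one_smul, hres, hdw]
      rfl
    exact (show (colimit.ι G n).hom (lam e _ f) = (colimit.ι G (op I')).hom ((G.map φ.op).hom (lam e _ f)) by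
      rw [← colimit.w G φ.op]; rfl).trans (by rw [hw', map_zero])
  · obtain ⟨z, rfl⟩ := Submodule.Quotient.mk_surjective _ y
    let I : Dual2.IdealsIn T := ⟨annEl z.1, mem_gam_iff.1 z.2.1⟩
    let f : cyc J i (Qi I.obj) := ⟨Submodule.liftQ _ (LinearMap.toSpanSingleton A _ z.1) le_rfl,
      Submodule.linearMap_qext _ (LinearMap.ext_ring (by
        show (J.d i (i + 1)).hom ((1 : A) • z.1) = 0
        rw [one_smul]
        exact z.2.2))⟩
    exact ⟨(colimit.ι G (op I)).hom (lam e _ f),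
      (hΦ _ _).trans (hL I f z (one_smul A z.1).symm)⟩

include e in
/-- Killing `H^i_T`. -/
theorem kills_HDT_iff {a : A} : (∀ x : Dual2.HDT A T K i, a • x = 0) ↔ KT J T i a := by
  obtain ⟨Φ⟩ := nonempty_HDT_equiv (i := i) T e
  rw [← kills_Hc_iff]
  exact ⟨fun h x => Φ.symm.injective (by rw [map_smul, h, map_zero]),
    fun h x => Φ.injective (by rw [map_smul, h, map_zero])⟩

include e in
/-- Finiteness of `H^i_T`. -/
theorem finite_HDT_iff : Module.Finite A (Dual2.HDT A T K i) ↔ Module.Finite A (Hc T J i) := by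
  obtain ⟨Φ⟩ := nonempty_HDT_equiv (i := i) T e
  exact ⟨fun _ => Module.Finite.equiv Φ, fun _ => Module.Finite.equiv Φ.symm⟩

end Groth.Agent.CAlgH3.DT
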