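import Groth.Agent.CAlgH3.DT.Module
import Groth.Agent.DualLib.LocalDuality
import Groth.Agent.DualLib.LocCohOmega
import Groth.Agent.LocCoh.HLVCor
import Groth.Agent.Matlis6.HullExistence
import Groth.Prelude.Def_DualLC

/-! Vanishing of `H^d_I` from the vanishing of `H^0_I` of a normalised dualizing complex. -/

set_option autoImplicit false
set_option backward.isDefEq.respectTransparency false
set_option backward.defeqAttrib.useBackward true
set_option linter.style.haveILetI false

universe u

open CategoryTheory CategoryTheory.Limits Opposite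
open scoped TensorProduct

attribute [local instance] HasDerivedCategory.standard

namespace Groth.Agent.CAlgH3.DT

open Groth.Agent.DualLib

/-- Saturations extend along flat maps. -/
theorem mem_map_sat {A B : Type u} [CommRing A] [CommRing B] [Algebra A B] [Module.Flat A B] (I' : Ideal A)
    (G : Finset A) (c : B) (hc : ∀ g ∈ G, algebraMap A B g * c ∈ I'.map (algebraMap A B)) {S : Ideal A}
    (hS : ∀ a : A, (∀ g ∈ G, g * a ∈ I') → a ∈ S) : c ∈ S.map (algebraMap A B) := by
  classical
  let f : A →ₗ[A] (G → A ⧸ I') := LinearMap.pi fun g => (Submodule.mkQ I').comp ((g : A) • LinearMap.id)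
  have hex : Function.Exact (LinearMap.ker f).subtype f := LinearMap.exact_subtype_ker_map f
  have hex' := Module.Flat.lTensor_exact B hex
  have h0 : f.lTensor B (c ⊗ₜ[A] (1 : A)) = 0 := by
    apply (TensorProduct.piRight A A B fun _ : G => A ⧸ I').injective
    rw [map_zero, LinearMap.lTensor_tmul]
    ext g
    simp only [TensorProduct.piRight_apply, TensorProduct.piRightHom_tmul, Pi.zero_apply]
    apply (Algebra.TensorProduct.quotIdealMapEquivTensorQuot B I').symm.injective
    rw [map_zero]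
    have : f 1 g = Ideal.Quotient.mk I' (g : A) := by simp [f]
    rw [this]
    simpa [Algebra.smul_def] using Ideal.Quotient.eq_zero_iff_mem.2 (hc g g.2)
  obtain ⟨t, ht⟩ := (hex' _).1 h0
  have hle : ∀ a ∈ LinearMap.ker f, a ∈ S := fun a ha => hS a fun g hg => by
    have h1 := congrFun (LinearMap.mem_ker.1 ha) ⟨g, hg⟩
    simpa [f, Ideal.Quotient.eq_zero_iff_mem, ← map_mul] using h1
  have : TensorProduct.rid A B ((LinearMap.ker f).subtype.lTensor B t) = c := by rw [ht]; simp
  rw [← this]
  clear ht this h0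
  induction t using TensorProduct.induction_on with
  | zero => simp
  | tmul b j =>
    simp only [LinearMap.lTensor_tmul, TensorProduct.rid_tmul, Submodule.coe_subtype, Algebra.smul_def]
    exact Ideal.mul_mem_right _ _ (Ideal.mem_map_of_mem _ (hle _ j.2))
  | add x y hx hy => simp only [map_add]; exact Ideal.add_mem _ hx hy

variable {A : Type u} [CommRing A] [IsLocalRing A] [IsNoetherianRing A]

local notation "𝔪" => IsLocalRing.maximalIdeal A

variable {ω : Dual.D A} (hω : Dual.IsDualizing A ω) (hn : Dual.IsNormalized A ω) {I : Ideal A}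
include hω hn

/-- `E^0` is faithful on maps between modules of finite length. -/
theorem eq_zero_of_emap {N Q : Type u} [AddCommGroup N] [Module A N] [Module.Finite A N] [AddCommGroup Q] [Module A Q]
    [Module.Finite A Q] (hN : IsFiniteLength A N) (hQ : IsFiniteLength A Q) (g : N →ₗ[A] Q)
    (h : ∀ x : E ω Q 0, emap ω g 0 x = 0) : g = 0 := by
  let π := g.rangeRestrict
  let ι := (LinearMap.range g).subtype
  have hπi : Function.Injective (emap ω π 0) := by
    haveI : Module.Finite A (LinearMap.ker π) := Module.Finite.of_fg (IsNoetherian.noetherian _)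
    exact injective_emap (W := ω) (Submodule.injective_subtype _) g.surjective_rangeRestrict
      (LinearMap.exact_subtype_ker_map _) 0 (subsingleton_of_ne hn _
        ((Module.support_subset_of_injective _ (Submodule.injective_subtype _)).trans
          (support_subset_of_isFiniteLength hN)) _ (by omega))
  have hιs : Function.Surjective (emap ω ι 0) :=
    surjective_emap (W := ω) (Submodule.injective_subtype _) (Submodule.mkQ_surjective _)
      (LinearMap.exact_subtype_mkQ _) 0 (subsingleton_of_pos hω hn _ _ (by omega))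
  by_contra hne
  haveI : Nontrivial (LinearMap.range g) :=
    Submodule.nontrivial_iff_ne_bot.2 (fun h => hne (LinearMap.range_eq_bot.1 h))
  have hL : IsFiniteLength A (LinearMap.range g) := hN.of_surjective g.surjective_rangeRestrict
  obtain ⟨z, hz⟩ := (nontrivial_iff_exists_ne (0 : E ω (LinearMap.range g) 0)).1
    (nontrivial_of_isFiniteLength hω hn _ hL)
  obtain ⟨ψ, rfl⟩ := hιs z
  refine hz (hπi ?_)
  rw [map_zero, ← LinearMap.comp_apply, ← emap_comp]
  exact h ψ

/-- Vanishing of `H^0_I(ω)` makes the saturations of the powers of `I` cofinal. -/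
theorem exists_sat_le (hI : I ≤ 𝔪) (h0 : Subsingleton (Dual2.HDI A I ω 0)) (k : ℕ) :
    ∃ n : ℕ, k ≤ n ∧ ∀ (a : A) (N : ℕ), (∀ r ∈ 𝔪 ^ N, r * a ∈ I ^ n) → a ∈ 𝔪 ^ k := by
  classical
  let G := (localCohomology.ringModIdeals (localCohomology.idealPowersDiagram I) ⋙
      DerivedCategory.singleFunctor (ModuleCat.{u} A) 0).op ⋙ (linearYoneda A (Dual.D A)).obj (ω⟦(0 : ℤ)⟧)
  let Mk := A ⧸ 𝔪 ^ k
  let pr : ∀ (n : ℕ), k ≤ n → (A ⧸ I ^ n) →ₗ[A] Mk := fun n hkn =>
    Submodule.mapQ (I ^ n) (𝔪 ^ k) LinearMap.id (fun a ha => ((pow_le_pow_left' hI n).trans (Ideal.pow_le_pow_right hkn)) ha)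
  have hdie : ∀ x : E ω Mk 0, ∃ (n : ℕ) (hkn : k ≤ n), emap ω (pr n hkn) 0 x = 0 := by
    intro x
    haveI : PreservesFilteredColimitsOfSize.{0, 0} (forget AddCommGrpCat.{u + 1}) :=
      preservesSmallestFilteredColimits_of_preservesFilteredColimits.{u + 1, u + 1} (forget AddCommGrpCat.{u + 1})
    haveI : PreservesColimitsOfShape ℕᵒᵖᵒᵖ (forget AddCommGrpCat.{u + 1}) :=
      PreservesFilteredColimitsOfSize.preserves_filtered_colimits _
    haveI : PreservesColimitsOfShape ℕᵒᵖᵒᵖ (forget (ModuleCat.{u + 1} A)) :=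
      comp_preservesColimitsOfShape (forget₂ (ModuleCat.{u + 1} A) AddCommGrpCat.{u + 1}) (forget AddCommGrpCat.{u + 1})
    let y : G.obj (op (op k)) := emap ω (pr k le_rfl) 0 x
    obtain ⟨j, f, g, hfg⟩ := (Concrete.colimit_rep_eq_iff_exists G (i := op (op k)) (j := op (op k)) y 0).1
      (Subsingleton.elim (α := Dual2.HDI A I ω 0) _ _)
    have hkj : k ≤ j.unop.unop := f.unop.unop.le
    refine ⟨j.unop.unop, hkj, ?_⟩
    have h1 : (G.map f).hom y = 0 := hfg.trans (map_zero _)
    refine Eq.trans ?_ h1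
    show emap ω (pr j.unop.unop hkj) 0 x =
      emap ω ((localCohomology.ringModIdeals (localCohomology.idealPowersDiagram I)).map f.unop).hom 0
        (emap ω (pr k le_rfl) 0 x)
    refine Eq.trans ?_ (LinearMap.congr_fun (emap_comp (W := ω) _ (pr k le_rfl) 0) x)
    congr 2
    exact Submodule.linearMap_qext _ (LinearMap.ext fun a => rfl)
  haveI : Module.Finite A (E ω Mk 0) := by
    obtain ⟨lo, hi, hL⟩ := exists_injAmplitude hω
    exact finite_hom_of_injAmp hL hω.finite_cohomology (Dual.inD A Mk) (finite_HD_inD Mk) 0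
  obtain ⟨F, hF⟩ := (inferInstance : Module.Finite A (E ω Mk 0)).fg_top
  choose n hkn hn0 using hdie
  let m := max k (F.sup n)
  refine ⟨m, le_max_left _ _, fun a N ha => ?_⟩
  have hkm : k ≤ m := le_max_left _ _
  have hall : ∀ x : E ω Mk 0, emap ω (pr m hkm) 0 x = 0 := fun x => by
    have hx : x ∈ Submodule.span A (F : Set (E ω Mk 0)) := hF ▸ Submodule.mem_top
    induction hx using Submodule.span_induction with
    | mem x hx =>
      have hle : n x ≤ m := (Finset.le_sup (f := n) hx).trans (le_max_right _ _)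
      let q : (A ⧸ I ^ m) →ₗ[A] (A ⧸ I ^ n x) :=
        Submodule.mapQ _ _ LinearMap.id fun a ha => Ideal.pow_le_pow_right hle ha
      have : pr m hkm = pr (n x) (hkn x) ∘ₗ q := Submodule.linearMap_qext _ (LinearMap.ext fun a => rfl)
      rw [this, emap_comp, LinearMap.comp_apply, hn0, map_zero]
    | zero => exact map_zero _
    | add x y _ _ hx hy => rw [map_add, hx, hy, add_zero]
    | smul c x _ hx => rw [map_smul, hx, smul_zero]
  let μ : (A ⧸ 𝔪 ^ N) →ₗ[A] (A ⧸ I ^ m) := Submodule.liftQ (𝔪 ^ N) ((Submodule.mkQ (I ^ m)).comp (LinearMap.toSpanSingleton A A a))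
    fun r hr => (Submodule.Quotient.mk_eq_zero _).2 (ha r hr)
  have hg : pr m hkm ∘ₗ μ = 0 := by
    refine eq_zero_of_emap hω hn (DualLib.isFiniteLength_N N) (DualLib.isFiniteLength_N k) _ fun x => ?_
    rw [emap_comp, LinearMap.comp_apply, hall, map_zero]
  have h1 := LinearMap.congr_fun hg (Submodule.Quotient.mk 1)
  rw [← Submodule.Quotient.mk_eq_zero (𝔪 ^ k)]
  refine Eq.trans ?_ h1
  show _ = Submodule.Quotient.mk ((1 : A) • a)
  rw [one_smul]

/-- Hartshorne–Lichtenbaum vanishing in terms of the dualizing complex. -/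
theorem subsingleton_H_of_HDI_zero (h0 : Subsingleton (Dual2.HDI A I ω 0)) (M : Type u) [AddCommGroup M] [Module A M]
    (i : ℕ) (hi : ringKrullDim A ≤ (i : WithBot ℕ∞)) : Subsingleton (_root_.LocCoh.H I i M) := by
  classical
  by_cases hI : I = ⊤
  · exact LocCoh.subsingleton_H_top_ideal i M hI
  have hIm : I ≤ 𝔪 := IsLocalRing.le_maximalIdeal hI
  obtain ⟨d, hd⟩ : ∃ d : ℕ, ringKrullDim A = d := by
    obtain ⟨d, hd⟩ := ENat.ne_top_iff_exists.1
      (Ideal.height_ne_top (IsLocalRing.maximalIdeal.isMaximal A).ne_top : (𝔪).height ≠ ⊤)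
    exact ⟨d, by rw [← IsLocalRing.maximalIdeal_height_eq_ringKrullDim, ← hd]; rfl⟩
  refine LocCoh.hartshorne_lichtenbaum I d hd (fun p hp hpd => ?_) M i (by rw [hd] at hi; exact_mod_cast hi)
  haveI := Matlis6.isNoetherianRing_adicCompletion 𝔪
  let B := AdicCompletion 𝔪 A
  haveI : p.IsPrime := hp.1.1
  let mB := IsLocalRing.maximalIdeal B
  have hmap : Ideal.map (algebraMap A B) 𝔪 = mB := AdicCompletion.maximalIdeal_eq_map.symm
  by_contra hlt
  obtain ⟨e, he⟩ : ∃ e, mB ^ e ≤ I.map (algebraMap A B) ⊔ p := by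
    refine Ideal.exists_pow_le_of_le_radical_of_fg ?_ (IsNoetherian.noetherian _)
    rw [Ideal.radical_eq_sInf]
    refine le_sInf fun P ⟨hP, hPprime⟩ => ?_
    haveI := hPprime
    by_contra hne
    have hltP : P < mB := lt_of_le_of_ne (IsLocalRing.le_maximalIdeal hPprime.ne_top) fun e => hne e.ge
    refine hlt ?_
    rw [ringKrullDim_quotient, Order.one_le_krullDim_iff]
    exact ⟨⟨⟨P, hPprime⟩, hP⟩, ⟨⟨mB, (IsLocalRing.maximalIdeal.isMaximal B).isPrime⟩, hP.trans hltP.le⟩, hltP⟩
  obtain ⟨s, hs, e', hs'⟩ := local_torsion (A := B) (M := B) (T := Set.univ) (x := (1 : B))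
    ((GammaQuot.mem_gam _ _).2 fun q hq => absurd (Set.mem_univ q) hq) ⟨p, hp.1.1⟩
    (fun q' hq' => absurd (hp.2 ⟨q'.2, bot_le⟩ hq'.le) hq'.not_ge)
  haveI : Module.Flat A B := AdicCompletion.flat_of_isNoetherian 𝔪
  have hsk : ∀ k, s ∈ mB ^ k := by
    intro k
    obtain ⟨n, hkn, hsat⟩ := exists_sat_le hω hn hIm h0 k
    obtain ⟨G, hG⟩ := IsNoetherian.noetherian (𝔪 ^ (e * (n + e')))
    have hkey : s ∈ (𝔪 ^ k).map (algebraMap A B) := by
      refine mem_map_sat (I ^ n) G s (fun g hg => ?_) fun a ha => hsat a (e * (n + e')) fun r hr => ?_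
      · have h1 : algebraMap A B g ∈ mB ^ (e * (n + e')) := by
          rw [← hmap, ← Ideal.map_pow]
          exact Ideal.mem_map_of_mem _ (hG ▸ Submodule.subset_span hg)
        rw [pow_mul] at h1
        obtain ⟨x, hx, y, hy, hxy⟩ := Submodule.mem_sup.1
          (Ideal.sup_pow_add_le_pow_sup_pow (Ideal.pow_right_mono he _ h1))
        rw [← hxy, add_mul, show y * s = 0 by simpa using hs' y hy, add_zero, Ideal.map_pow]
        exact Ideal.mul_mem_right _ _ hx
      · rw [← hG] at hr
        induction hr using Submodule.span_induction with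
        | mem g hg => exact ha g hg
        | zero => rw [zero_mul]; exact zero_mem _
        | add x y _ _ hx hy => rw [add_mul]; exact add_mem hx hy
        | smul c x _ hx => rw [smul_eq_mul, mul_assoc]; exact Ideal.mul_mem_left _ _ hx
    rwa [Ideal.map_pow, hmap] at hkey
  have hs0 : s = 0 := by
    have h := Ideal.iInf_pow_eq_bot_of_isLocalRing mB (IsLocalRing.maximalIdeal.isMaximal B).ne_top
    have : s ∈ ⨅ k, mB ^ k := Submodule.mem_iInf _ |>.2 hsk
    rwa [h, Submodule.mem_bot] at this
  exact hs (hs0 ▸ zero_mem _)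

end Groth.Agent.CAlgH3.DT
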