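import Groth.Agent.CAlgH3.DT.Module
import Groth.Agent.LocCoh.Finiteness
import Groth.Agent.LocCoh.BaseChange
import Groth.Agent.CAlgH3.DT.CompleteVanish
import Groth.Agent.S0376
import Mathlib.Algebra.Module.LocalizedModule.Exact
import Mathlib.RingTheory.Flat.FaithfullyFlat.Algebra

/-! Finiteness of the first local cohomology from the completions of the localisations. -/

set_option autoImplicit false
set_option backward.isDefEq.respectTransparency false
set_option linter.style.haveILetI false

universe u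

open CategoryTheory
open scoped TensorProduct

attribute [local instance] HasDerivedCategory.standard

namespace Groth.Agent.CAlgH3.DT.HOne

open Groth.Agent.LocCoh
open scoped Pointwise

section Local

/-- The first local cohomology of a complete local ring without one-dimensional associated primes. -/
theorem exists_pow_kills_complete (C : Type u) [CommRing C] [IsLocalRing C] [IsNoetherianRing C]
    [IsAdicComplete (IsLocalRing.maximalIdeal C) C] (M : Type u) [AddCommGroup M] [Module C M] [Module.Finite C M]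
    (h : ∀ P ∈ associatedPrimes C M, (2 : WithBot ℕ∞) ≤ ringKrullDim (C ⧸ P)) :
    ∃ N, ∀ r ∈ IsLocalRing.maximalIdeal C ^ N,
      ∀ x : _root_.LocCoh.H (IsLocalRing.maximalIdeal C) 1 M, r • x = 0 := by
  obtain ⟨ω, hω⟩ := Groth.Agent.S0376.result C
  set 𝔪 := IsLocalRing.maximalIdeal C
  let T : Set (PrimeSpectrum C) := PrimeSpectrum.zeroLocus (𝔪 : Set C)
  have hT : StableUnderSpecialization T := fun p q hpq hp =>
    Set.Subset.trans hp ((PrimeSpectrum.le_iff_specializes p q).2 hpq)
  obtain ⟨J, hJ, hk⟩ := (annihilator_theorem_module hω hT hT 1 M).2 fun p q hp hq hpq => by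
    have hq' : q = IsLocalRing.closedPoint C := PrimeSpectrum.ext
      (le_antisymm (IsLocalRing.le_maximalIdeal q.2.ne_top) hq)
    subst hq'
    rw [krullDim_Icc hω hpq]
    have hlt : p < IsLocalRing.closedPoint C := lt_of_le_of_ne hpq fun e => hp (e ▸ hq)
    have hd := DualLib.deg_lt hω hlt
    generalize hn : _root_.LocCoh.depth (Localization.AtPrime p.asIdeal) (LocalizedModule p.asIdeal.primeCompl M) = n
    cases n with
    | top => exact WithBot.coe_lt_coe.2 (show ((1 : ℕ) : ℕ∞) < ⊤ + _ by rw [top_add]; exact ENat.coe_lt_top 1)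
    | coe n =>
      have h1 : 1 < n + (DualLib.deg hω (IsLocalRing.closedPoint C) - DualLib.deg hω p).toNat := by
        rcases Nat.eq_zero_or_pos n with rfl | hn'
        · have hass : p.asIdeal ∈ associatedPrimes C M := by
            by_contra hc
            have h1 := (CommAlg6.one_le_depth_localized_iff (M := M) p.asIdeal).2 hc
            rw [hn] at h1
            exact absurd (show 1 ≤ 0 by exact_mod_cast h1) (by omega)
          have h2 := h _ hass
          rw [ringKrullDim_quotient_eq_deg hω p] at h2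
          have h3 : 2 ≤ (DualLib.deg hω (IsLocalRing.closedPoint C) - DualLib.deg hω p).toNat := by exact_mod_cast h2
          omega
        · omega
      exact_mod_cast h1
  obtain ⟨N, hN⟩ := Ideal.exists_pow_le_of_le_radical_of_fg
    ((PrimeSpectrum.zeroLocus_subset_zeroLocus_iff J 𝔪).1 hJ) (IsNoetherian.noetherian 𝔪)
  exact ⟨N, fun r hr x => kills_H_of_kills_HT 𝔪 1 M (hk 1 le_rfl r (hN hr)) x⟩

variable (R : Type u) [CommRing R] [IsLocalRing R] [IsNoetherianRing R]

/-- The first local cohomology of a local ring whose completion has no one-dimensional associated primes. -/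
theorem exists_pow_kills_local
    (h : ∀ P ∈ associatedPrimes (AdicCompletion (IsLocalRing.maximalIdeal R) R) (AdicCompletion (IsLocalRing.maximalIdeal R) R),
      (2 : WithBot ℕ∞) ≤ ringKrullDim (AdicCompletion (IsLocalRing.maximalIdeal R) R ⧸ P)) :
    ∃ N, ∀ r ∈ IsLocalRing.maximalIdeal R ^ N,
      ∀ x : _root_.LocCoh.H (IsLocalRing.maximalIdeal R) 1 R, r • x = 0 := by
  set 𝔪 := IsLocalRing.maximalIdeal R
  let C := AdicCompletion 𝔪 R
  haveI : IsNoetherianRing C := Matlis6.isNoetherianRing_adicCompletion 𝔪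
  haveI : Module.Flat R C := AdicCompletion.flat_of_isNoetherian 𝔪
  haveI : Module.FaithfullyFlat R C := Module.FaithfullyFlat.of_flat_of_isLocalHom
  haveI : IsAdicComplete (IsLocalRing.maximalIdeal C) C := by
    rw [AdicCompletion.maximalIdeal_eq_map]
    exact (IsAdicComplete.map_algebraMap_iff _ _).2 (AdicCompletion.isAdicComplete (IsNoetherian.noetherian 𝔪))
  obtain ⟨N, hN⟩ := exists_pow_kills_complete C C h
  obtain ⟨e⟩ := nonempty_H_baseChange R C 𝔪 1 R
  have hmap : 𝔪.map (algebraMap R C) = IsLocalRing.maximalIdeal C := AdicCompletion.maximalIdeal_eq_map.symm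
  refine ⟨N, fun r hr x => ?_⟩
  refine (Module.FaithfullyFlat.one_tmul_eq_zero_iff (R := R) (A := C) _ (r • x)).1 (e.injective ?_)
  have hk : algebraMap R C r • Hequiv (I := 𝔪.map (algebraMap R C)) 1
      (TensorProduct.AlgebraTensorModule.rid R C C) (e (1 ⊗ₜ[R] x)) = 0 := by
    have hr' : algebraMap R C r ∈ IsLocalRing.maximalIdeal C ^ N := by
      rw [← hmap, ← Ideal.map_pow]
      exact Ideal.mem_map_of_mem _ hr
    revert hN
    generalize Hequiv (I := 𝔪.map (algebraMap R C)) 1 (TensorProduct.AlgebraTensorModule.rid R C C) (e (1 ⊗ₜ[R] x)) = y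
    intro hN
    revert y
    rw [hmap]
    exact fun y => hN _ hr' y
  rw [map_zero, TensorProduct.tmul_smul, ← algebraMap_smul C r ((1 : C) ⊗ₜ[R] x), map_smul]
  exact (Hequiv (I := 𝔪.map (algebraMap R C)) 1 (TensorProduct.AlgebraTensorModule.rid R C C)).injective
    (by rw [map_smul, hk, map_zero])

/-- The local bound for a quotient ring, seen as a module. -/
theorem exists_pow_kills_quotient (p : Ideal R) (hp : p ≠ ⊤)
    (h : ∀ P ∈ associatedPrimes (AdicCompletion ((IsLocalRing.maximalIdeal R).map (Ideal.Quotient.mk p)) (R ⧸ p))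
        (AdicCompletion ((IsLocalRing.maximalIdeal R).map (Ideal.Quotient.mk p)) (R ⧸ p)),
      (2 : WithBot ℕ∞) ≤ ringKrullDim (AdicCompletion ((IsLocalRing.maximalIdeal R).map (Ideal.Quotient.mk p)) (R ⧸ p) ⧸ P)) :
    ∃ N, ∀ r ∈ IsLocalRing.maximalIdeal R ^ N,
      ∀ x : _root_.LocCoh.H (IsLocalRing.maximalIdeal R) 1 (R ⧸ p), r • x = 0 := by
  haveI : Nontrivial (R ⧸ p) := Ideal.Quotient.nontrivial_iff.2 hp
  haveI : IsLocalRing (R ⧸ p) := IsLocalRing.of_surjective' _ Ideal.Quotient.mk_surjective
  have hJ : (IsLocalRing.maximalIdeal R).map (Ideal.Quotient.mk p) = IsLocalRing.maximalIdeal (R ⧸ p) :=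
    IsLocalRing.eq_maximalIdeal ((Ideal.map_eq_top_or_isMaximal_of_surjective _ Ideal.Quotient.mk_surjective
      inferInstance).resolve_left fun h1 => (IsLocalRing.maximalIdeal.isMaximal R).ne_top (by
        have := congrArg (Ideal.comap (Ideal.Quotient.mk p)) h1
        rwa [Ideal.comap_top, Ideal.comap_map_of_surjective _ Ideal.Quotient.mk_surjective, ← RingHom.ker_eq_comap_bot,
          Ideal.mk_ker, sup_eq_left.2 (IsLocalRing.le_maximalIdeal hp)] at this))
  obtain ⟨N, hN⟩ : ∃ N, ∀ r ∈ ((IsLocalRing.maximalIdeal R).map (Ideal.Quotient.mk p)) ^ N,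
      ∀ x : _root_.LocCoh.H ((IsLocalRing.maximalIdeal R).map (Ideal.Quotient.mk p)) 1 (R ⧸ p), r • x = 0 := by
    revert h
    rw [hJ]
    exact fun h => exists_pow_kills_local (R ⧸ p) h
  obtain ⟨φ, hφ⟩ := exists_H_independence R (R ⧸ p) (IsLocalRing.maximalIdeal R) 1 (R ⧸ p)
  refine ⟨N, fun r hr x => ?_⟩
  obtain ⟨y, rfl⟩ := φ.surjective x
  rw [← hφ, hN (algebraMap R (R ⧸ p) r) (by rw [← Ideal.map_pow]; exact Ideal.mem_map_of_mem _ hr) y, map_zero]

end Local

section Global

variable {A : Type u} [CommRing A] [IsNoetherianRing A] {M : Type u} [AddCommGroup M] [Module A M]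

omit [IsNoetherianRing A] in
theorem associatedPrimes_quotSMulTop_pow {a : A} (ha : IsSMulRegular M a) (n : ℕ) :
    associatedPrimes A (QuotSMulTop (a ^ n) M) ⊆ associatedPrimes A (QuotSMulTop a M) := by
  induction n with
  | zero =>
    haveI : Subsingleton (QuotSMulTop (a ^ 0) M) := Submodule.Quotient.subsingleton_iff.2 (by
      rw [pow_zero, one_smul])
    rw [associatedPrimes.eq_empty_of_subsingleton]
    exact Set.empty_subset _
  | succ n ih =>
    have hle : (a ^ (n + 1)) • (⊤ : Submodule A M) ≤ a • ⊤ := fun x hx => by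
      obtain ⟨y, -, rfl⟩ := (Submodule.mem_smul_pointwise_iff_exists _ _ _).1 hx
      exact (Submodule.mem_smul_pointwise_iff_exists _ _ _).2 ⟨a ^ n • y, trivial, by rw [← mul_smul, ← pow_succ']⟩
    have hle' : (a ^ n) • (⊤ : Submodule A M) ≤ ((a ^ (n + 1)) • (⊤ : Submodule A M)).comap (a • LinearMap.id) :=
      fun x hx => by
        obtain ⟨y, -, rfl⟩ := (Submodule.mem_smul_pointwise_iff_exists _ _ _).1 hx
        exact (Submodule.mem_smul_pointwise_iff_exists _ _ _).2 ⟨y, trivial, by
          show a ^ (n + 1) • y = a • a ^ n • y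
          rw [← mul_smul, ← pow_succ']⟩
    let f : QuotSMulTop (a ^ n) M →ₗ[A] QuotSMulTop (a ^ (n + 1)) M := Submodule.mapQ _ _ (a • LinearMap.id) hle'
    let g : QuotSMulTop (a ^ (n + 1)) M →ₗ[A] QuotSMulTop a M :=
      Submodule.mapQ _ _ LinearMap.id (hle.trans (Submodule.comap_id _).ge)
    have hf : Function.Injective f := by
      refine (injective_iff_map_eq_zero f).2 fun x hx => ?_
      obtain ⟨x, rfl⟩ := Submodule.Quotient.mk_surjective _ x
      replace hx := (Submodule.Quotient.mk_eq_zero _).1 hx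
      obtain ⟨y, -, hy⟩ := (Submodule.mem_smul_pointwise_iff_exists _ _ _).1 hx
      refine (Submodule.Quotient.mk_eq_zero _).2 ((Submodule.mem_smul_pointwise_iff_exists _ _ _).2 ⟨y, trivial, ha ?_⟩)
      show a • a ^ n • y = a • x
      rw [← mul_smul, ← pow_succ']
      exact hy
    have hfg : Function.Exact f g := by
      intro x
      obtain ⟨x, rfl⟩ := Submodule.Quotient.mk_surjective _ x
      constructor
      · intro hx
        obtain ⟨y, -, rfl⟩ := (Submodule.mem_smul_pointwise_iff_exists _ _ _).1 ((Submodule.Quotient.mk_eq_zero _).1 hx)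
        exact ⟨Submodule.Quotient.mk y, rfl⟩
      · rintro ⟨y, hy⟩
        obtain ⟨y, rfl⟩ := Submodule.Quotient.mk_surjective _ y
        rw [← hy]
        exact (Submodule.Quotient.mk_eq_zero _).2 ((Submodule.mem_smul_pointwise_iff_exists _ _ _).2 ⟨y, trivial, rfl⟩)
    exact (associatedPrimes.subset_union_of_exact hf hfg).trans (Set.union_subset ih le_rfl)

variable [Module.Finite A M] {I : Ideal A}

set_option maxHeartbeats 800000 in
/-- The torsion of `M / a^n M` is killed near every prime by a bounded power of `a`. -/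
theorem exists_bound_at {a : A} (ha : IsSMulRegular M a) (haI : a ∈ I)
    (hloc : ∀ q : PrimeSpectrum A, I ≤ q.asIdeal → ∃ N, ∀ r ∈ IsLocalRing.maximalIdeal (Localization.AtPrime q.asIdeal) ^ N,
      ∀ x : _root_.LocCoh.H (IsLocalRing.maximalIdeal (Localization.AtPrime q.asIdeal)) 1 (LocalizedModule q.asIdeal.primeCompl M),
        r • x = 0) :
    ∀ (h : ℕ) (q : PrimeSpectrum A), q.asIdeal.height = h → ∃ k, ∀ (n : ℕ) (w : QuotSMulTop (a ^ n) M),
      w ∈ powTorsion I (QuotSMulTop (a ^ n) M) → ∃ t ∉ q.asIdeal, t • a ^ k • w = 0 := by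
  classical
  intro h
  induction h using Nat.strong_induction_on with
  | _ h ih =>
    intro q hh
    by_cases hIq : I ≤ q.asIdeal
    swap
    · obtain ⟨t, htI, htq⟩ := SetLike.not_le_iff_exists.1 hIq
      refine ⟨0, fun n w ⟨l, hl⟩ => ⟨t ^ l, fun hm => htq (q.2.mem_of_pow_mem l hm), ?_⟩⟩
      rw [pow_zero, one_smul]
      exact hl _ (Ideal.pow_mem_pow htI l)
    let T₀ := (associatedPrimes.finite A (QuotSMulTop a M)).toFinset.filter fun r => r < q.asIdeal
    have hex : ∀ r ∈ T₀, ∃ k, ∀ (n : ℕ) (w : QuotSMulTop (a ^ n) M),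
        w ∈ powTorsion I (QuotSMulTop (a ^ n) M) → ∃ t ∉ r, t • a ^ k • w = 0 := fun r hr => by
      obtain ⟨hr, hlt⟩ := Finset.mem_filter.1 hr
      haveI := ((associatedPrimes.finite A (QuotSMulTop a M)).mem_toFinset.1 hr).isPrime
      obtain ⟨m, hm⟩ := ENat.ne_top_iff_exists.1 (Ideal.height_ne_top (I := r) Ideal.IsPrime.ne_top')
      refine ih m ?_ ⟨r, inferInstance⟩ hm.symm
      have h1 := Ideal.height_strict_mono_of_isPrime (I := r) (J := q.asIdeal) hlt
      rw [hh, ← hm] at h1
      exact_mod_cast h1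
    choose! k hk using hex
    let k₀ := T₀.sup k
    obtain ⟨N, hN⟩ := hloc q hIq
    refine ⟨k₀ + N, fun n w hw => ?_⟩
    let R := Localization.AtPrime q.asIdeal
    let S := q.asIdeal.primeCompl
    haveI : IsNoetherianRing R := IsLocalization.isNoetherianRing S R inferInstance
    let Q := QuotSMulTop (a ^ n) M
    let w' : Q := a ^ k₀ • w
    let J : Ideal A := LinearMap.ker (LinearMap.toSpanSingleton A Q w')
    have hw' : w' ∈ powTorsion I Q := Submodule.smul_mem _ _ hw
    have hrad : IsLocalRing.maximalIdeal R ≤ (J.map (algebraMap A R)).radical := by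
      rw [Ideal.radical_eq_sInf]
      refine le_sInf fun P ⟨hJP, hP⟩ => ?_
      haveI := hP
      obtain ⟨r, hr, hrP⟩ := Ideal.exists_minimalPrimes_le (Ideal.map_le_iff_le_comap.1 hJP : J ≤ P.under A)
      have hPq : P.under A ≤ q.asIdeal :=
        (Ideal.comap_mono (IsLocalRing.le_maximalIdeal hP.ne_top)).trans Localization.AtPrime.under_maximalIdeal.le
      have hass : r ∈ associatedPrimes A (QuotSMulTop a M) := by
        refine associatedPrimes_quotSMulTop_pow ha n ?_
        let f : (A ⧸ J) →ₗ[A] Q := Submodule.liftQ J (LinearMap.toSpanSingleton A Q w') le_rfl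
        refine associatedPrimes.subset_of_injective (f := f)
          (LinearMap.ker_eq_bot.1 (Submodule.ker_liftQ_eq_bot _ _ _ le_rfl)) ?_
        exact Module.associatedPrimes.minimalPrimes_annihilator_subset_associatedPrimes A (A ⧸ J)
          (by rwa [Ideal.annihilator_quotient])
      rcases (hrP.trans hPq).lt_or_eq with hlt | heq
      · exfalso
        have hmem : r ∈ T₀ := Finset.mem_filter.2 ⟨(associatedPrimes.finite A _).mem_toFinset.2 hass, hlt⟩
        obtain ⟨t, ht, ht0⟩ := hk r hmem n w hw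
        refine ht (hr.1.2 ?_)
        show t • a ^ k₀ • w = 0
        rw [show k₀ = (k₀ - k r) + k r from (Nat.sub_add_cancel (Finset.le_sup hmem)).symm, pow_add, mul_smul,
          smul_comm, ht0, smul_zero]
      · rw [← Localization.AtPrime.map_eq_maximalIdeal, Ideal.map_le_iff_le_comap]
        exact heq.ge.trans hrP
    obtain ⟨l, hl⟩ := Ideal.exists_pow_le_of_le_radical_of_fg hrad (IsNoetherian.noetherian _)
    let μ : M →ₗ[A] M := (a ^ n) • LinearMap.id
    let π : M →ₗ[A] Q := Submodule.mkQ ((a ^ n) • (⊤ : Submodule A M))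
    let μq := LocalizedModule.map S μ
    let πq := LocalizedModule.map S π
    have hμq : Function.Injective μq := LocalizedModule.map_injective S μ (fun _ _ h => ha.pow n h)
    have hπq : Function.Surjective πq := LocalizedModule.map_surjective S π (Submodule.mkQ_surjective _)
    have hexq : Function.Exact μq πq := LocalizedModule.map_exact S μ π (smulTop_exact (a ^ n) M)
    let z : LocalizedModule S Q := LocalizedModule.mkLinearMap S Q w'
    have hz : z ∈ powTorsion (IsLocalRing.maximalIdeal R) (LocalizedModule S Q) := by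
      refine ⟨l, fun r hr => ?_⟩
      have hle : J.map (algebraMap A R) ≤ LinearMap.ker (LinearMap.toSpanSingleton R _ z) := by
        rw [Ideal.map_le_iff_le_comap]
        intro b hb
        show algebraMap A R b • z = 0
        rw [algebraMap_smul, ← map_smul, show b • w' = 0 from hb, map_zero]
      exact hle (hl hr)
    let u := (H0Equiv (IsLocalRing.maximalIdeal R) (LocalizedModule S Q)).symm ⟨z, hz⟩
    have haN : algebraMap A R a ^ N ∈ IsLocalRing.maximalIdeal R ^ N :=
      Ideal.pow_mem_pow ((IsLocalization.AtPrime.to_map_mem_maximal_iff R q.asIdeal a).2 (hIq haI)) N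
    have h1 : connecting (IsLocalRing.maximalIdeal R) hμq hπq hexq 0 (algebraMap A R a ^ N • u) = 0 := by
      rw [map_smul]
      exact hN _ haN _
    obtain ⟨v, hv⟩ := (Hmap_connecting_exact (I := IsLocalRing.maximalIdeal R) hμq hπq hexq 0 _).1 h1
    haveI hsub : Subsingleton (_root_.LocCoh.H (IsLocalRing.maximalIdeal R) 0 (LocalizedModule S M)) := by
      refine subsingleton_H0_iff.2 ((Submodule.eq_bot_iff _).2 fun y hy => ?_)
      obtain ⟨l', hl'⟩ := hy
      have hreg : IsSMulRegular (LocalizedModule S M) (algebraMap A R a) :=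
        ha.of_isLocalizedModule R S (LocalizedModule.mkLinearMap S M)
      exact (hreg.pow l').right_eq_zero_of_smul
        (hl' _ (Ideal.pow_mem_pow ((IsLocalization.AtPrime.to_map_mem_maximal_iff R q.asIdeal a).2 (hIq haI)) l'))
    rw [Subsingleton.elim v 0, map_zero] at hv
    have h2 := congrArg (H0Equiv (IsLocalRing.maximalIdeal R) (LocalizedModule S Q)) hv.symm
    rw [map_zero, map_smul, LinearEquiv.apply_symm_apply] at h2
    have h3 : algebraMap A R a ^ N • z = 0 := congrArg Subtype.val h2
    rw [← map_pow, algebraMap_smul, ← map_smul] at h3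
    obtain ⟨t, ht⟩ := (IsLocalizedModule.eq_zero_iff S (LocalizedModule.mkLinearMap S Q)).1 h3
    refine ⟨t, t.2, ?_⟩
    rw [pow_add, mul_comm, mul_smul]
    exact ht

/-- `H¹_I(M)` is finite when the local invariants are bounded. -/
theorem finite_H_one {a : A} (ha : IsSMulRegular M a) (haI : a ∈ I)
    (hloc : ∀ q : PrimeSpectrum A, I ≤ q.asIdeal → ∃ N, ∀ r ∈ IsLocalRing.maximalIdeal (Localization.AtPrime q.asIdeal) ^ N,
      ∀ x : _root_.LocCoh.H (IsLocalRing.maximalIdeal (Localization.AtPrime q.asIdeal)) 1 (LocalizedModule q.asIdeal.primeCompl M),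
        r • x = 0) :
    Module.Finite A (_root_.LocCoh.H I 1 M) := by
  classical
  let T₀ := (associatedPrimes.finite A (QuotSMulTop a M)).toFinset
  have hex : ∀ r ∈ T₀, ∃ k, ∀ (n : ℕ) (w : QuotSMulTop (a ^ n) M),
      w ∈ powTorsion I (QuotSMulTop (a ^ n) M) → ∃ t ∉ r, t • a ^ k • w = 0 := fun r hr => by
    haveI := ((associatedPrimes.finite A (QuotSMulTop a M)).mem_toFinset.1 hr).isPrime
    obtain ⟨m, hm⟩ := ENat.ne_top_iff_exists.1 (Ideal.height_ne_top (I := r) Ideal.IsPrime.ne_top')
    exact exists_bound_at ha haI hloc m ⟨r, inferInstance⟩ hm.symm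
  choose! k hk using hex
  let k₀ := T₀.sup k
  have hw : ∀ (n : ℕ) (w : QuotSMulTop (a ^ n) M), w ∈ powTorsion I (QuotSMulTop (a ^ n) M) → a ^ k₀ • w = 0 := by
    intro n w hw
    by_contra hne
    obtain ⟨r, hr, hle⟩ := exists_le_isAssociatedPrime_of_isNoetherianRing A _ hne
    have hmem : r ∈ T₀ := (associatedPrimes.finite A _).mem_toFinset.2 (associatedPrimes_quotSMulTop_pow ha n hr)
    obtain ⟨t, ht, ht0⟩ := hk r hmem n w hw
    refine ht (hle ?_)
    have : t • a ^ k₀ • w = 0 := by
      rw [show k₀ = (k₀ - k r) + k r from (Nat.sub_add_cancel (Finset.le_sup hmem)).symm, pow_add, mul_smul,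
        smul_comm, ht0, smul_zero]
    simpa [Submodule.mem_colon_singleton] using this
  have hkill : ∀ x : _root_.LocCoh.H I 1 M, a ^ k₀ • x = 0 := by
    intro x
    obtain ⟨n, hn⟩ := isPowerTorsion_H 1 x
    obtain ⟨u, rfl⟩ := mem_range_connecting_of_smul_eq_zero (ha.pow n) 0 x (hn _ (Ideal.pow_mem_pow haI n))
    rw [← map_smul]
    suffices a ^ k₀ • u = 0 by rw [this, map_zero]
    refine (H0Equiv I _).injective (Subtype.ext ?_)
    rw [map_smul, map_zero]
    exact hw n _ (H0Equiv I _ u).2
  haveI : Module.Finite A (powTorsion I (QuotSMulTop (a ^ k₀) M)) := Module.Finite.iff_fg.2 (IsNoetherian.noetherian _)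
  haveI : Module.Finite A (_root_.LocCoh.H I 0 (QuotSMulTop (a ^ k₀) M)) := Module.Finite.equiv (H0Equiv I _).symm
  exact Module.Finite.of_surjective _ fun x => mem_range_connecting_of_smul_eq_zero (ha.pow k₀) 0 x (hkill x)

end Global

end Groth.Agent.CAlgH3.DT.HOne
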