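import Groth.Agent.CAlgH3.DT.Finite
import Groth.Agent.DCat.Amplitude
import Groth.Agent.DualLib.Trunc

/-! Injective models of bounded below objects, finiteness criterion for cohomology with supports. -/

set_option autoImplicit false
set_option backward.isDefEq.respectTransparency false
set_option linter.style.haveILetI false

universe u

open CategoryTheory CategoryTheory.Limits Opposite

attribute [local instance] HasDerivedCategory.standard

namespace Groth.Agent.CAlgH3.DT

open GammaQuot (gam mem_gam)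
open Groth.Agent.DualLib.GammaHDI
open Groth.Agent.DualLib (S0)

variable {A : Type u} [CommRing A] (K : Dual.D A) (a : ℤ) (hKa : ∀ i : ℤ, i < a → Subsingleton (Dual.HD A K i))

include hKa in
theorem isGE_of_HD : K.IsGE a := (DRingLib.isGE_iff_HD K a).2 hKa

include hKa in
/-- A bounded below model of injectives. -/
theorem exists_model : ∃ J : DRing.Cx A, (∀ i < a, Subsingleton (J.X i)) ∧ J.IsKInjective ∧
    (∀ i, Module.Injective A (J.X i)) ∧ Nonempty (DerivedCategory.Q.obj J ≅ K) := by
  haveI := isGE_of_HD K a hKa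
  obtain ⟨J, hJa, hJK, hJ, he⟩ := DCat.Amplitude.exists_kInjective_rep K a
  exact ⟨J, fun i hi => ModuleCat.subsingleton_of_isZero (J.isZero_of_isStrictlyGE a i hi), hJK,
    fun i => haveI := hJ i; Module.injective_module_of_injective_object A (J.X i), he⟩

variable {K}

theorem finite_Hc_univ [IsNoetherianRing A] {J : DRing.Cx A} (e : DerivedCategory.Q.obj J ≅ K) (i : ℤ)
    [h : Module.Finite A (Dual.HD A K i)] : Module.Finite A (Hc Set.univ J i) := by
  let η := ((DerivedCategory.homologyFunctorFactors (ModuleCat.{u} A) i).symm.app J ≪≫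
    (DerivedCategory.homologyFunctor (ModuleCat.{u} A) i).mapIso e).toLinearEquiv
  haveI : Module.Finite A (J.homology i) := Module.Finite.equiv η.symm
  let φ₀ : Zc Set.univ J i →ₗ[A] J.homology i :=
    (J.homologyπ i).hom ∘ₗ cyMk J i ∘ₗ Submodule.inclusion inf_le_right
  have hker : (Bc Set.univ J i).comap (Zc Set.univ J i).subtype = LinearMap.ker φ₀ := by
    ext z
    show z.1 ∈ Bc Set.univ J i ↔ (J.homologyπ i).hom (cyMk J i (Submodule.inclusion inf_le_right z)) = 0
    rw [homologyπ_eq_zero_iff]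
    have hi : (J.iCycles i).hom (cyMk J i (Submodule.inclusion inf_le_right z)) = z.1 :=
      iCycles_cyclesMk J i z.1 z.2.2
    rw [hi]
    exact ⟨fun ⟨y, _, hy⟩ => ⟨y, hy⟩, fun ⟨y, hy⟩ => ⟨y, (mem_gam _ _).2 fun q hq => absurd (Set.mem_univ q) hq, hy⟩⟩
  exact Module.Finite.equiv (((Submodule.quotEquivOfEq _ _ hker).trans φ₀.quotKerEquivRange).symm)

theorem kt_of_subsingleton {J : DRing.Cx A} {T : Set (PrimeSpectrum A)} {i : ℤ} [Subsingleton (J.X i)] (x : A) :
    KT J T i x := fun z _ _ => ⟨0, zero_mem _, by rw [Subsingleton.elim z 0, smul_zero, map_zero]⟩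

/-- Each class is killed by an ideal of the system. -/
theorem exists_killed (T : Set (PrimeSpectrum A)) (i : ℤ) (x : Dual2.HDT A T K i) :
    ∃ I : Ideal A, PrimeSpectrum.zeroLocus (I : Set A) ⊆ T ∧ ∀ r ∈ I, r • x = 0 := by
  obtain ⟨n, z, rfl⟩ := exists_rep T _ _ x
  refine ⟨n.unop.obj, n.unop.property, fun r hr => ?_⟩
  rw [← map_smul]
  refine (congrArg _ ?_).trans (map_zero _)
  let N := Qi n.unop.obj
  show r • (z : (S0 A).obj N ⟶ K⟦i⟧) = 0
  have h0 : r • 𝟙 N = 0 := ModuleCat.hom_ext (LinearMap.ext fun y => by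
    obtain ⟨y, rfl⟩ := Submodule.Quotient.mk_surjective _ y
    show r • (Submodule.Quotient.mk y : A ⧸ n.unop.obj) = 0
    rw [← Submodule.Quotient.mk_smul, (Submodule.Quotient.mk_eq_zero _).2]
    exact Ideal.mul_mem_right _ n.unop.obj hr)
  calc r • (z : (S0 A).obj N ⟶ K⟦i⟧) = (S0 A).map (r • 𝟙 N) ≫ z := by
        rw [Functor.map_smul, CategoryTheory.Functor.map_id, Linear.smul_comp, Category.id_comp]
    _ = 0 := by rw [h0, Functor.map_zero, zero_comp]

variable (K)

include hKa in
/-- `H^i_T(K)` is finite for `i ≤ n` iff an ideal cutting out a subset of `T` kills it for `i ≤ n`. -/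
theorem finite_iff_kills [IsNoetherianRing A] (T : Set (PrimeSpectrum A)) (hT : StableUnderSpecialization T)
    (hK : ∀ i : ℤ, Module.Finite A (Dual.HD A K i)) (n : ℤ) :
    (∀ i : ℤ, i ≤ n → Module.Finite A (Dual2.HDT A T K i)) ↔
      ∃ J : Ideal A, PrimeSpectrum.zeroLocus (J : Set A) ⊆ T ∧
        ∀ i : ℤ, i ≤ n → ∀ x : A, x ∈ J → ∀ y : Dual2.HDT A T K i, x • y = 0 := by
  classical
  obtain ⟨J, hJa, hJK, hJ, ⟨e⟩⟩ := exists_model K a hKa
  haveI := hJK
  constructor
  · intro h
    let s := Finset.Icc a n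
    have hex : ∀ i ∈ s, ∃ I : Ideal A, PrimeSpectrum.zeroLocus (I : Set A) ⊆ T ∧
        ∀ r ∈ I, ∀ y : Dual2.HDT A T K i, r • y = 0 := fun i hi => by
      obtain ⟨G, hG⟩ := (h i (Finset.mem_Icc.1 hi).2).fg_top
      choose I hI hIy using exists_killed (K := K) T i
      refine ⟨∏ y ∈ G, I y, ?_, fun r hr y => ?_⟩
      · intro q hq
        obtain ⟨y, -, hy⟩ := (q.2.prod_le).1 (show ∏ y ∈ G, I y ≤ q.asIdeal from hq)
        exact hI y hy
      · have hy : y ∈ Submodule.span A (G : Set (Dual2.HDT A T K i)) := hG ▸ Submodule.mem_top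
        induction hy using Submodule.span_induction with
        | mem y hy => exact hIy y r (Ideal.le_of_dvd ((Finset.dvd_prod_of_mem I (Finset.mem_coe.1 hy))) hr)
        | zero => exact smul_zero r
        | add y z _ _ hy hz => rw [smul_add, hy, hz, add_zero]
        | smul c y _ hy => rw [smul_comm, hy, smul_zero]
    choose! I hI hIy using hex
    refine ⟨∏ i ∈ s, I i, fun q hq => ?_, fun i hi r hr y => ?_⟩
    · obtain ⟨i, hi, hiq⟩ := (q.2.prod_le).1 (show ∏ i ∈ s, I i ≤ q.asIdeal from hq)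
      exact hI i hi hiq
    · by_cases hia : i < a
      · haveI := hJa i hia
        exact (kills_HDT_iff T e).2 (kt_of_subsingleton r) y
      · have his : i ∈ s := Finset.mem_Icc.2 ⟨by omega, hi⟩
        exact hIy i his r (Ideal.le_of_dvd (Finset.dvd_prod_of_mem I his) hr) y
  · rintro ⟨I, hI, hk⟩ i hi
    exact (finite_HDT_iff T e).2 (finite_of_kills hT J hJ (fun j => haveI := hK j; finite_Hc_univ e j) hI
      (fun j hj x hx => (kills_HDT_iff T e).1 (hk j hj x hx)) i hi)

end Groth.Agent.CAlgH3.DT
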