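import Groth.Agent.CAlgH3.DT.Dies
import Groth.Agent.CAlgH3.DT.Model
import Groth.Agent.CAlgH3.RGam.Derived

/-! The complex `Hom(X, J)` of an injective model and classes supported in `V(I)`. -/

set_option autoImplicit false
set_option backward.isDefEq.respectTransparency false
set_option backward.defeqAttrib.useBackward true
set_option linter.style.haveILetI false

universe u

open CategoryTheory CategoryTheory.Limits

attribute [local instance] HasDerivedCategory.standard

namespace Groth.Agent.CAlgH3.DT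

open Groth.Agent.DualLib
open Groth.Agent.DualLib.GammaHDI (cyc lam lam_surjective lam_eq_zero lam_natural)
open Groth.Agent.CAlgH3.RGam (tor Ad AdC Div cl cl_eq_zero_iff cl_surjective gcMap)

variable {A : Type u} [CommRing A] (X : Type u) [AddCommGroup X] [Module A X]

/-- `Hom(X, J)`. -/
noncomputable def homCx (J : DRing.Cx A) : DRing.Cx A :=
  CochainComplex.of (fun i => ModuleCat.of A (X →ₗ[A] J.X i))
    (fun k => ModuleCat.ofHom (LinearMap.llcomp A X (J.X k) (J.X (k + 1)) (J.d k (k + 1)).hom))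
    (fun k => ModuleCat.hom_ext (LinearMap.ext fun f => LinearMap.ext fun x => by
      show (J.d (k + 1) (k + 1 + 1)).hom ((J.d k (k + 1)).hom (f x)) = 0
      exact congrArg (fun g => g.hom (f x)) (J.d_comp_d k (k + 1) (k + 1 + 1))))

/-- An element of `Hom(X, J)` as a map. -/
abbrev hev {J : DRing.Cx A} {i : ℤ} (f : (homCx X J).X i) : X →ₗ[A] J.X i := f

/-- A map as an element of `Hom(X, J)`. -/
abbrev hel {J : DRing.Cx A} {i : ℤ} (f : X →ₗ[A] J.X i) : (homCx X J).X i := f

theorem homCx_d_apply (J : DRing.Cx A) {i k : ℤ} (h : i + 1 = k) (f : X →ₗ[A] J.X i) (x : X) :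
    hev X (((homCx X J).d i k).hom (hel X f)) x = (J.d i k).hom (f x) := by
  subst h
  simp [homCx, CochainComplex.of, CochainComplex.of.d]

section Ad

variable {X} {M : Type u} [AddCommGroup M] [Module A M]

theorem mem_tor_hom [Module.Finite A X] {t : List A} (g : X →ₗ[A] M) :
    g ∈ tor t (X →ₗ[A] M) ↔ ∀ x, g x ∈ tor t M := by
  constructor
  · rintro ⟨n, hn⟩ x
    exact ⟨n, fun a ha => LinearMap.congr_fun (hn a ha) x⟩
  · intro h
    obtain ⟨G, hG⟩ := (inferInstance : Module.Finite A X).fg_top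
    choose n hn using h
    refine ⟨G.sup n, fun a ha => LinearMap.ext fun x => ?_⟩
    have hx : x ∈ Submodule.span A (G : Set X) := hG ▸ Submodule.mem_top
    show a • g x = 0
    induction hx using Submodule.span_induction with
    | mem x hx => exact hn x a (Ideal.pow_le_pow_right (Finset.le_sup (f := n) hx) ha)
    | zero => rw [map_zero, smul_zero]
    | add x y _ _ hx hy => rw [map_add, smul_add, hx, hy, add_zero]
    | smul c x _ hx => rw [map_smul, smul_comm, hx, smul_zero]

variable [IsNoetherianRing A] [Module.Finite A X]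

theorem div_hom (f : A) [Module.Injective A M] : Div f (X →ₗ[A] M) := by
  intro g
  obtain ⟨U, -, hU⟩ := LocCoh.exists_loc_injective f M
  let ψ := LinearEquiv.ofBijective ((LocCoh.lm f M).comp U.subtype) hU
  let P : M →ₗ[A] U := ψ.symm.toLinearMap ∘ₗ LocCoh.lm f M
  let u : X →ₗ[A] U := P ∘ₗ g
  have hk : ∀ x : X, ∃ k : ℕ, f ^ k • (g x - (u x : M)) = 0 := by
    intro x
    have h : LocCoh.lm f M (g x - (u x : M)) = 0 := by
      rw [map_sub, sub_eq_zero]
      exact (ψ.apply_symm_apply (LocCoh.lm f M (g x))).symm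
    obtain ⟨⟨_, k, rfl⟩, hk⟩ := (IsLocalizedModule.eq_zero_iff (Submonoid.powers f) (LocCoh.lm f M)).1 h
    exact ⟨k, hk⟩
  choose k hk using hk
  obtain ⟨G, hG⟩ := (inferInstance : Module.Finite A X).fg_top
  let K := G.sup k
  have hK : ∀ x : X, f ^ K • (g x - (u x : M)) = 0 := by
    intro x
    have hx : x ∈ Submodule.span A (G : Set X) := hG ▸ Submodule.mem_top
    induction hx using Submodule.span_induction with
    | mem x hx =>
      obtain ⟨d, hd⟩ := Nat.le.dest (Finset.le_sup (f := k) hx)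
      rw [show K = d + k x by rw [add_comm]; exact hd.symm, pow_add, mul_smul, hk, smul_zero]
    | zero => simp
    | add x y _ _ hx hy =>
      rw [map_add, map_add, Submodule.coe_add, add_sub_add_comm, smul_add, hx, hy, add_zero]
    | smul c x _ hx => rw [map_smul, map_smul, Submodule.coe_smul, ← smul_sub, smul_comm, hx, smul_zero]
  let m : U →ₗ[A] U := f • LinearMap.id
  have hm : Function.Bijective m := by
    have hb := ((ψ.symm.bijective).comp (LocCoh.bijective_smul_loc f (M := M))).comp ψ.bijective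
    convert hb using 1
    funext z
    show f • z = ψ.symm (f • ψ z)
    rw [map_smul, LinearEquiv.symm_apply_apply]
  refine ⟨U.subtype ∘ₗ (LinearEquiv.ofBijective m hm).symm.toLinearMap ∘ₗ u, K, LinearMap.ext fun x => ?_⟩
  show f ^ K • g x = f ^ (K + 1) • (((LinearEquiv.ofBijective m hm).symm (u x) : U) : M)
  have h1 : f • ((LinearEquiv.ofBijective m hm).symm (u x)) = u x := (LinearEquiv.ofBijective m hm).apply_symm_apply (u x)
  have h2 := hK x
  rw [smul_sub, sub_eq_zero] at h2
  rw [pow_succ, mul_smul, ← Submodule.coe_smul, h1, h2]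

theorem ad_hom [Module.Injective A M] : ∀ s : List A, Ad (X →ₗ[A] M) s
  | [] => trivial
  | f :: t => by
    refine ⟨ad_hom t, fun g => ?_⟩
    haveI : Module.Injective A (tor t M) := LocCoh.injective_powTorsion (Ideal.ofList t) M
    obtain ⟨h, k, hh⟩ := div_hom (X := X) (M := tor t M) f (LinearMap.codRestrict _ g.1 ((mem_tor_hom g.1).1 g.2))
    refine ⟨⟨(tor t M).subtype ∘ₗ h, (mem_tor_hom _).2 fun x => (h x).2⟩, k, Subtype.ext (LinearMap.ext fun x => ?_)⟩
    exact congrArg Subtype.val (LinearMap.congr_fun hh x)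

end Ad

variable [IsNoetherianRing A] [Module.Finite A X] {J : DRing.Cx A}

theorem adC_homCx (hJ : ∀ i, Module.Injective A (J.X i)) (s : List A) : AdC (homCx X J) s := fun i => by
  haveI := hJ i
  exact ad_hom (X := X) (M := J.X i) s

variable {ω : Dual.D A} [J.IsKInjective] (e : DerivedCategory.Q.obj J ≅ ω)

omit [IsNoetherianRing A] [Module.Finite A X] in
include e in
/-- The cohomology of `Hom(X, J)`. -/
theorem nonempty_homology_homCx (i : ℤ) : Nonempty ((homCx X J).homology i ≃ₗ[A] E ω X i) := by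
  let toK : cyc J i (ModuleCat.of A X) →ₗ[A] LinearMap.ker ((homCx X J).d i (i + 1)).hom :=
    { toFun := fun f => ⟨hel X f.1, LinearMap.ext fun x =>
        (homCx_d_apply X J rfl f.1 x).trans (LinearMap.congr_fun f.2 x)⟩
      map_add' := fun _ _ => Subtype.ext rfl
      map_smul' := fun _ _ => Subtype.ext rfl }
  let φ := cl (homCx X J) i ∘ₗ toK
  have hφ : Function.Surjective φ := fun y => by
    obtain ⟨z, rfl⟩ := cl_surjective (homCx X J) i y
    exact ⟨⟨hev X z.1, LinearMap.ext fun x => (homCx_d_apply X J rfl (hev X z.1) x).symm.trans (LinearMap.congr_fun z.2 x)⟩, rfl⟩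
  have hker : LinearMap.ker φ = LinearMap.ker (lam (i := i) e (ModuleCat.of A X)) := by
    ext f
    rw [LinearMap.mem_ker, LinearMap.mem_ker]
    constructor
    · intro h
      obtain ⟨w, hw⟩ := (cl_eq_zero_iff _ _ _).1 h
      exact lam_boundary e f (hev X w) (LinearMap.ext fun x =>
        (homCx_d_apply X J (by omega) (hev X w) x).symm.trans (LinearMap.congr_fun hw x))
    · intro h
      obtain ⟨w, hw⟩ := lam_eq_zero e f h
      exact (cl_eq_zero_iff _ _ _).2 ⟨hel X w, LinearMap.ext fun x =>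
        (homCx_d_apply X J (by omega) w x).trans (LinearMap.congr_fun hw x)⟩
  exact ⟨(φ.quotKerEquivOfSurjective hφ).symm ≪≫ₗ Submodule.quotEquivOfEq _ _ hker ≪≫ₗ
    (lam (i := i) e (ModuleCat.of A X)).quotKerEquivOfSurjective (lam_surjective e _)⟩

include e in
/-- If maps `I^k → Hom(X, J)` die, classes die on `I^k X`. -/
theorem exists_emap_zero_of_diesIn (hJ : ∀ i, Module.Injective A (J.X i)) (I : Ideal A) (j : ℤ)
    (hd : DiesIn I (DerivedCategory.Q.obj (homCx X J)) j) (x : E ω X j) :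
    ∃ k : ℕ, emap ω (I ^ k • (⊤ : Submodule A X)).subtype j x = 0 := by
  obtain ⟨f, rfl⟩ := lam_surjective e (ModuleCat.of A X) x
  obtain ⟨E', σ, hE', hσ, -, hinj⟩ := Groth.Agent.DCat.exists_kInj_res (homCx X J)
  haveI := hE'
  haveI := hσ
  let e₁ : DerivedCategory.Q.obj E' ≅ DerivedCategory.Q.obj (homCx X J) := (asIso (DerivedCategory.Q.map σ)).symm
  let f0 : (homCx X J).X j := hel X f.1
  let v : E'.X j := (σ.f j).hom f0
  have hf : ((homCx X J).d j (j + 1)).hom f0 = 0 :=
    LinearMap.ext fun y => (homCx_d_apply X J rfl f.1 y).trans (LinearMap.congr_fun f.2 y)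
  have hv : (E'.d j (j + 1)).hom v = 0 := by
    refine (RGam.comm σ j (j + 1) f0).trans ?_
    rw [hf, map_zero]
  let g : cyc E' j (ModuleCat.of A (I ^ 0 : Ideal A)) :=
    ⟨LinearMap.toSpanSingleton A _ v ∘ₗ (I ^ 0).subtype, LinearMap.ext fun r => by
      show (E'.d j (j + 1)).hom ((r : A) • v) = 0
      rw [map_smul, hv, smul_zero]⟩
  obtain ⟨l, hl, h0⟩ := hd 0 (lam e₁ _ g)
  have hg' : g.1 ∘ₗ pinc I hl ∈ cyc E' j (ModuleCat.of A (I ^ l : Ideal A)) := by
    show (E'.d j (j + 1)).hom ∘ₗ _ = 0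
    rw [← LinearMap.comp_assoc, g.2, LinearMap.zero_comp]
  have h1 : lam e₁ _ ⟨_, hg'⟩ = 0 := (lam_natural e₁ (ModuleCat.ofHom (pinc I hl)) g hg').trans h0
  obtain ⟨h, hh⟩ := lam_eq_zero e₁ _ h1
  haveI := hinj (j - 1)
  haveI : Module.Injective A (E'.X (j - 1)) := Module.injective_module_of_injective_object A (E'.X (j - 1))
  obtain ⟨h', hh'⟩ := Module.Baer.of_injective (inferInstance : Module.Injective A (E'.X (j - 1))) (I ^ l) h
  let y' := h' 1
  obtain ⟨s, hs⟩ := RGam.exists_list I
  subst hs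
  let z' : E'.X j := v - (E'.d (j - 1) j).hom y'
  have hz' : z' ∈ tor s (E'.X j) := ⟨l, fun r hr => by
    have e1 : h ⟨r, hr⟩ = r • y' := by
      rw [← hh' r hr, ← map_smul, smul_eq_mul, mul_one]
    have e2 : (E'.d (j - 1) j).hom (h ⟨r, hr⟩) = r • v := LinearMap.congr_fun hh ⟨r, hr⟩
    show r • (v - (E'.d (j - 1) j).hom y') = 0
    rw [smul_sub, ← map_smul (E'.d (j - 1) j).hom, ← e1, e2, sub_self]⟩
  have hdz' : (E'.d j (j + 1)).hom z' = 0 := by
    rw [map_sub, hv, RGam.dd, sub_zero]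
  haveI := RGam.quasiIso_gcMap σ (s := s) (adC_homCx X hJ s) (RGam.adC_of_injective E' hinj s)
  obtain ⟨⟨z, n, hn⟩, hdz, ⟨w', hw't⟩, hw'⟩ := (RGam.elem_of_quasiIso (gcMap (Ideal.ofList s) σ)
    (show j - 1 + 1 = j by omega) (rfl : j + 1 = j + 1)).2 ⟨z', hz'⟩ (Subtype.ext hdz')
  have hw : z' - (σ.f j).hom z = (E'.d (j - 1) j).hom w' := congrArg Subtype.val hw'
  obtain ⟨w, hw2⟩ := (RGam.elem_of_quasiIso σ (show j - 1 + 1 = j by omega) (rfl : j + 1 = j + 1)).1 (f0 - z)
    (by rw [map_sub, hf, show ((homCx X J).d j (j + 1)).hom z = 0 from congrArg Subtype.val hdz, sub_zero])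
    (y' + w') (by
      rw [map_sub, map_add, ← hw]
      show v - _ = _ + (v - _ - _)
      abel)
  refine ⟨n, ?_⟩
  let P : Submodule A X := Ideal.ofList s ^ n • ⊤
  have hz0 : ∀ y ∈ P, hev X z y = 0 := fun y hy => by
    refine Submodule.smul_induction_on hy (fun a ha m _ => ?_) fun a b h1 h2 => by rw [map_add, h1, h2, add_zero]
    rw [map_smul]
    exact LinearMap.congr_fun (show a • hev X z = 0 from hn a ha) m
  have hf' : f.1 ∘ₗ P.subtype ∈ cyc J j (ModuleCat.of A P) := by
    show (J.d j (j + 1)).hom ∘ₗ _ = 0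
    rw [← LinearMap.comp_assoc, f.2, LinearMap.zero_comp]
  refine (lam_natural e (ModuleCat.ofHom P.subtype) f hf').symm.trans ?_
  refine lam_boundary e ⟨_, hf'⟩ (hev X w ∘ₗ P.subtype) (LinearMap.ext fun y => ?_)
  have h3 := (homCx_d_apply X J (show j - 1 + 1 = j by omega) (hev X w) (y : X)).symm.trans
    (LinearMap.congr_fun (congrArg (hev X) hw2) (y : X))
  refine h3.trans ?_
  show hev X f0 (y : X) - hev X z (y : X) = f.1 (y : X)
  rw [hz0 y y.2, sub_zero]

end Groth.Agent.CAlgH3.DT
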