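import Groth.Agent.CAlgH3.DT.Local
import Groth.Agent.DualLib.LocHom

/-! `Hom` into an object of finite injective amplitude, localised at a prime. -/

set_option autoImplicit false
set_option backward.isDefEq.respectTransparency false
set_option backward.defeqAttrib.useBackward true
set_option linter.style.haveILetI false

universe u

open CategoryTheory CategoryTheory.Limits CategoryTheory.Pretriangulated

attribute [local instance] HasDerivedCategory.standard

namespace Groth.Agent.CAlgH3.DT

open Groth.Agent.DualLib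
open DerivedCategory (isZero_of_isGE isZero_of_isLE)

variable {A : Type u} [CommRing A]

theorem bijective_pre {W : Dual.D A} (T : Triangle (Dual.D A)) (hT : T ∈ distinguishedTriangles) (i : ℤ)
    (h₀ : Subsingleton (T.obj₃ ⟶ W⟦i⟧)) (h₁ : Subsingleton (T.obj₃ ⟶ W⟦i + 1⟧)) :
    Function.Bijective (pre W T.mor₁ i) := by
  refine ⟨(injective_iff_map_eq_zero _).2 fun φ hφ => ?_,
    fun φ => (exact_pre_delta (W := W) _ hT i (i + 1) rfl φ).1 (Subsingleton.elim _ _)⟩
  obtain ⟨ψ, hψ⟩ := ((exact_pre (W := W) _ hT i) φ).1 hφ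
  rw [← hψ, Subsingleton.elim ψ 0, map_zero]

variable (q : PrimeSpectrum A)

local notation "Bq" => Localization.AtPrime q.asIdeal
local notation "φ" => algebraMap A (Localization.AtPrime q.asIdeal)

theorem isGE_extD {X : Dual.D A} {c : ℤ} [X.IsGE c] : ((extD φ).obj X).IsGE c := by
  rw [DRingLib.isGE_iff_HD]
  intro i hi
  exact ModuleCat.subsingleton_of_isZero (IsZero.of_iso
    ((ModuleCat.extendScalars.{u, u, u} φ).map_isZero (isZero_of_isGE X c i hi))
    (DCat.SuppOpen.hdMapIso (ModuleCat.extendScalars.{u, u, u} φ) X i))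

variable [IsNoetherianRing A] {L : Dual.D A} {a b : ℤ} (hL : DRing.HasInjAmplitudeIn A a b L)
include hL

/-- `r` kills `Hom(K, L⟦j⟧)` after localisation at `q`. -/
theorem kills_hom_iff (K : Dual.D A) (c : ℤ) [K.IsGE c] (hK : ∀ i, Module.Finite A (Dual.HD A K i)) (j : ℤ) (r : A) :
    (∀ f : (extD φ).obj K ⟶ ((extD φ).obj L)⟦j⟧, φ r • f = 0) ↔
      ∀ θ : K ⟶ L⟦j⟧, ∃ s ∉ q.asIdeal, s • r • θ = 0 := by
  let S := q.asIdeal.primeCompl
  let N : ℤ := max c (b - j + 1)
  let T := ((ts A).triangleLTGE N).obj K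
  let X := ((ts A).truncLT N).obj K
  haveI hC : T.obj₃.IsGE N := (inferInstance : (((ts A).truncGE N).obj K).IsGE N)
  haveI : X.IsLE (N - 1) := (ts A).isLE_truncLT_obj _ _ _ (by omega)
  haveI : X.IsGE c := inferInstance
  have hX : IsSmall X := ⟨c, N - 1, inferInstance, inferInstance, fun i => by
    rcases lt_or_ge i N with hi | hi
    · haveI := hK i
      exact Module.Finite.equiv (hTruncLT K N i hi).symm
    · haveI := ModuleCat.subsingleton_of_isZero (isZero_of_isLE X (N - 1) i (by omega))
      infer_instance⟩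
  have hLB := injAmp_extD (B := Localization.AtPrime q.asIdeal) S hL
  have hb₁ := bijective_pre (W := L) T ((ts A).triangleLTGE_distinguished N K) j
    (subsingleton_hom_of_isGE hL _ N j (by omega)) (subsingleton_hom_of_isGE hL _ N (j + 1) (by omega))
  haveI : (((extD φ).mapTriangle.obj T).obj₃).IsGE N := isGE_extD q (X := T.obj₃)
  have hb₂ := bijective_pre (W := (extD φ).obj L) ((extD φ).mapTriangle.obj T)
    ((extD φ).map_distinguished _ ((ts A).triangleLTGE_distinguished N K)) j
    (subsingleton_hom_of_isGE hLB _ N j (by omega)) (subsingleton_hom_of_isGE hLB _ N (j + 1) (by omega))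
  have hY := isGE_of_injAmp hL
  let bij := homBij (B := Localization.AtPrime q.asIdeal) X ((extD φ).obj L) j
  let η := etaShift (B := Localization.AtPrime q.asIdeal) L j
  have hsmul : ∀ (x : A) z, bij (φ x • z) = x • bij z := fun x z => by
    show (adjD φ).homEquiv _ _ (φ x • z) ≫ _ = x • ((adjD φ).homEquiv _ _ z ≫ _)
    rw [Adjunction.homEquiv_unit, Adjunction.homEquiv_unit, restrictD_map_smul, Linear.comp_smul, Linear.smul_comp]
  have hzero : bij 0 = 0 := by
    have := hsmul 0 0
    rwa [map_zero, zero_smul, zero_smul] at this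
  have hsmall : (∀ f : (extD φ).obj X ⟶ ((extD φ).obj L)⟦j⟧, φ r • f = 0) ↔
      ∀ θ : X ⟶ L⟦j⟧, ∃ s ∉ q.asIdeal, s • r • θ = 0 := by
    constructor
    · intro h θ
      refine exists_kill (B := Localization.AtPrime q.asIdeal) S hX hY j (r • θ) ?_
      have h1 := congrArg bij (h (bij.symm (θ ≫ η)))
      rw [hsmul, bij.apply_symm_apply, hzero] at h1
      rw [Linear.smul_comp]
      exact h1
    · intro h f
      obtain ⟨s, hs, θ, hθ⟩ := exists_fraction S hX hY j (bij f)
      obtain ⟨t, ht, h0⟩ := h θ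
      refine bij.injective ?_
      rw [hzero, hsmul]
      refine eq_zero_of_smul S (S.mul_mem ht hs) ?_
      rw [mul_smul, smul_comm s r, ← hθ, ← Linear.smul_comp, ← Linear.smul_comp, h0, zero_comp]
  constructor
  · intro h θ
    obtain ⟨s, hs, h0⟩ := hsmall.1 (fun f => by
      obtain ⟨g, rfl⟩ := hb₂.2 f
      exact ((pre _ ((extD φ).mapTriangle.obj T).mor₁ j).map_smul (φ r) g).symm.trans
        ((congrArg _ (h g)).trans (map_zero _))) (pre L T.mor₁ j θ)
    exact ⟨s, hs, hb₁.1 (by rw [map_smul, map_smul, map_zero]; exact h0)⟩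
  · intro h f
    refine hb₂.1 ?_
    rw [map_smul, map_zero]
    refine hsmall.2 (fun θ => ?_) _
    obtain ⟨θ', rfl⟩ := hb₁.2 θ
    obtain ⟨s, hs, h0⟩ := h θ'
    refine ⟨s, hs, ?_⟩
    exact (congrArg (s • ·) ((pre L T.mor₁ j).map_smul r θ').symm).trans
      (((pre L T.mor₁ j).map_smul s (r • θ')).symm.trans ((congrArg _ h0).trans (map_zero _)))

end Groth.Agent.CAlgH3.DT
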