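import Groth.Agent.CAlgH3.DT.Dual
import Groth.Agent.DualLib.Global

/-! The annihilator theorem for cohomology with supports of bounded below complexes. -/

set_option autoImplicit false
set_option backward.isDefEq.respectTransparency false
set_option backward.defeqAttrib.useBackward true
set_option linter.style.haveILetI false

universe u

open CategoryTheory CategoryTheory.Limits

attribute [local instance] HasDerivedCategory.standard

namespace Groth.Agent.CAlgH3.DT

open GammaQuot (gam mem_gam)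
open Groth.Agent.DualLib

variable {A : Type u} [CommRing A]

/-- Elements killing the cohomology with supports in `T` up to degree `s`. -/
noncomputable def kts (J : DRing.Cx A) (T : Set (PrimeSpectrum A)) (s : ℤ) : Ideal A where
  carrier := {a | ∀ i ≤ s, KT J T i a}
  zero_mem' := fun i _ z _ _ => ⟨0, zero_mem _, by rw [zero_smul, map_zero]⟩
  add_mem' := fun ha hb i hi => (ha i hi).add (hb i hi)
  smul_mem' := fun b _ ha i hi => (ha i hi).mul b

/-- Elements killing the local cohomology at the points of height `c` of `T` up to degree `s`. -/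
noncomputable def lks (J : DRing.Cx A) (T : Set (PrimeSpectrum A)) (c : ℕ) (s : ℤ) : Ideal A where
  carrier := {a | ∀ q ∈ T, q.asIdeal.height = c → ∀ i ≤ s, LK J q i a}
  zero_mem' := fun q _ _ i _ n z _ _ => ⟨1, q.2.one_notMem, 0, 0, fun _ _ => smul_zero _,
    by rw [mul_zero, zero_smul, map_zero]⟩
  add_mem' := fun ha hb q hq hc i hi => (ha q hq hc i hi).add (hb q hq hc i hi)
  smul_mem' := fun b _ ha q hq hc i hi => (ha q hq hc i hi).mul b

theorem zeroLocus_pow_subset (I : Ideal A) (n : ℕ) {T : Set (PrimeSpectrum A)}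
    (h : PrimeSpectrum.zeroLocus (I : Set A) ⊆ T) (hn : 0 < n) :
    PrimeSpectrum.zeroLocus ((I ^ n : Ideal A) : Set A) ⊆ T := by
  rwa [PrimeSpectrum.zeroLocus_pow I hn.ne']

variable [IsNoetherianRing A] {J : DRing.Cx A} (hJ : ∀ i, Module.Injective A (J.X i)) {T : Set (PrimeSpectrum A)}
  (hT : StableUnderSpecialization T) {s : ℤ} {I : Ideal A}

include hJ hT in
/-- Annihilation at all points gives annihilation with supports. -/
theorem exists_pow_le_kts {N : ℕ} (hN : ∀ q : PrimeSpectrum A, q.asIdeal.height ≤ N)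
    (h : ∀ c, I ≤ lks J T c s) : I ^ (N + 1) ≤ kts J T s := by
  have key : ∀ m c : ℕ, c + m = N + 1 → I ^ m ≤ kts J (Tc T c) s := by
    intro m
    induction m with
    | zero =>
      intro c hc a _ i _ z hz _
      refine ⟨0, zero_mem _, ?_⟩
      have : PrimeSpectrum.zeroLocus ((annEl z : Ideal A) : Set A) = ∅ := by
        refine Set.eq_empty_iff_forall_notMem.2 fun q hq => ?_
        have h1 := (mem_gam_iff.1 hz hq).2.trans (hN q)
        have h2 : c ≤ N := by exact_mod_cast h1
        omega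
      have h1 : (1 : A) ∈ (annEl z : Ideal A) := by
        rw [PrimeSpectrum.zeroLocus_empty_iff_eq_top.1 this]; trivial
      have : z = 0 := by simpa using mem_annEl.1 h1
      rw [this, smul_zero, map_zero]
    | succ m ih =>
      intro c hc
      rw [pow_succ, Ideal.mul_le]
      intro a ha b hb i hi
      exact step_down hJ hT (ih (c + 1) (by omega) ha i hi) fun q hq hqc => h c hb q hq hqc i hi
  have := key (N + 1) 0 (zero_add _)
  rwa [Tc_zero] at this

include hJ hT in
/-- Annihilation with supports gives annihilation at all points. -/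
theorem exists_pow_le_lks (h : I ≤ kts J T s) (c : ℕ) : ∃ k : ℕ, 0 < k ∧ I ^ k ≤ lks J T c s := by
  suffices H : ∀ c : ℕ, ∃ k : ℕ, 0 < k ∧ I ^ k ≤ kts J (Tc T c) s by
    obtain ⟨k, hk, hle⟩ := H c
    exact ⟨k, hk, fun a ha q hq hqc i hi => lk_of_kt hJ hT (hle ha i hi) hq hqc⟩
  intro c
  induction c with
  | zero => exact ⟨1, one_pos, by rwa [pow_one, Tc_zero]⟩
  | succ c ih =>
    obtain ⟨k, hk, hle⟩ := ih
    refine ⟨k + k, by omega, ?_⟩
    rw [pow_add, Ideal.mul_le]
    intro b hb a ha i hi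
    exact step_up hJ hT (hle ha i hi) fun q hq hqc => lk_of_kt hJ hT (hle hb (i - 1) (by omega)) hq hqc

variable {ω : Dual.D A} (hω : Dual.IsDualizing A ω)
include hω

/-- The degree is bounded. -/
theorem exists_deg_bound : ∃ lo : ℤ, ∀ q : PrimeSpectrum A, lo ≤ deg hω q := by
  obtain ⟨lo, hi, hL⟩ := exists_injAmplitude hω
  refine ⟨lo, fun q => ?_⟩
  by_contra hc
  haveI : Subsingleton (E ω (A ⧸ q.asIdeal) (deg hω q)) := subsingleton_hom_of_isLE hL _ 0 (deg hω q) (by omega)
  exact notMem_support_of_subsingleton q ((deg_spec hω q _).2 rfl)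

theorem height_Ici {p q : PrimeSpectrum A} (hpq : p ≤ q) :
    Order.height (⟨q, hpq⟩ : Set.Ici p) = (((deg hω q - deg hω p).toNat : ℕ) : ℕ∞) := by
  refine le_antisymm (Order.height_le fun t ht => ?_) ?_
  · let t' : LTSeries (PrimeSpectrum A) := t.map Subtype.val (fun _ _ h => h)
    have h1 := deg_add_length hω t'
    have h2 : deg hω p ≤ deg hω t'.head := deg_mono hω t.head.2
    have h3 : t'.last = q := congrArg Subtype.val ht
    rw [h3] at h1
    have h4 : t'.length = t.length := rfl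
    exact_mod_cast (show t.length ≤ (deg hω q - deg hω p).toNat by omega)
  · obtain ⟨t, hh, hl, hlen⟩ := exists_series_deg hω hpq
    let t' : LTSeries (Set.Ici p) := LTSeries.mk t.length (fun j => ⟨t j, hh ▸ t.monotone (Fin.zero_le j)⟩)
      (fun a b hab => t.strictMono hab)
    have h1 := Order.length_le_height (p := t') (x := (⟨q, hpq⟩ : Set.Ici p)) (le_of_eq (Subtype.ext hl))
    refine le_trans ?_ h1
    exact_mod_cast (show (deg hω q - deg hω p).toNat ≤ t.length by omega)

variable {K : Dual.D A} (hK : ∀ i, Module.Finite A (Dual.HD A K i))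

include hK hT in
/-- The annihilator theorem, in terms of the dual. -/
theorem annihilator_theorem (c : ℤ) (hKc : ∀ i : ℤ, i < c → Subsingleton (Dual.HD A K i))
    {T' : Set (PrimeSpectrum A)} (hT' : StableUnderSpecialization T') :
    (∃ I : Ideal A, PrimeSpectrum.zeroLocus (I : Set A) ⊆ T' ∧
      ∀ i : ℤ, i ≤ s → ∀ a ∈ I, ∀ x : Dual2.HDT A T K i, a • x = 0) ↔
    ∀ p q : PrimeSpectrum A, p ≤ q → p ∉ T' → q ∈ T → ∀ i ≤ s, ∀ j : ℤ, j = deg hω q - i →
      ∀ θ : K ⟶ ω⟦j⟧, ∃ t ∉ p.asIdeal, t • θ = 0 := by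
  classical
  obtain ⟨J, hJc, hJK, hJ, ⟨e⟩⟩ := exists_model K c hKc
  haveI := hJK
  haveI := isGE_of_HD K c hKc
  constructor
  · rintro ⟨I, hI, hk⟩ p q hpq hp hq i hi j hj θ
    subst hj
    have hle : I ≤ kts J T s := fun a ha i hi => (kills_HDT_iff T e).1 (hk i hi a ha)
    obtain ⟨n, hn⟩ := ENat.ne_top_iff_exists.1 (Ideal.height_ne_top q.2.ne_top (I := q.asIdeal))
    obtain ⟨k, hk0, hkle⟩ := exists_pow_le_lks hJ hT hle n
    obtain ⟨a, ha, hap⟩ : ∃ a ∈ I ^ k, a ∉ p.asIdeal :=
      SetLike.not_le_iff_exists.1 fun h => hp (zeroLocus_pow_subset I k hI hk0 h)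
    obtain ⟨t, ht, h0⟩ := (lk_iff_hom q hω hK c hJ hJc e i a).1 (hkle ha q hq hn.symm i hi) θ
    exact ⟨t * a, p.asIdeal.primeCompl.mul_mem (fun h => ht (hpq h)) hap, by rw [mul_smul, h0]⟩
  · intro h
    obtain ⟨lo, hlo⟩ := exists_deg_bound hω
    obtain ⟨lo', hi, hL⟩ := exists_injAmplitude hω
    obtain ⟨N, hN⟩ := exists_ringKrullDim_le hω
    let Nj : ∀ j : ℤ, Submodule A (K ⟶ ω⟦j⟧) := fun j =>
      { carrier := {θ | ∀ q ∈ T, deg hω q ≤ j + s → ∃ t ∉ q.asIdeal, t • θ = 0}
        zero_mem' := fun q _ _ => ⟨1, q.2.one_notMem, smul_zero _⟩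
        add_mem' := fun ha hb q hq hd => by
          obtain ⟨t, ht, hta⟩ := ha q hq hd
          obtain ⟨t', ht', htb⟩ := hb q hq hd
          exact ⟨t * t', q.asIdeal.primeCompl.mul_mem ht ht',
            by rw [smul_add, mul_comm t t', mul_smul, hta, smul_zero, zero_add, mul_comm, mul_smul, htb, smul_zero]⟩
        smul_mem' := fun b θ ha q hq hd => by
          obtain ⟨t, ht, hta⟩ := ha q hq hd
          exact ⟨t, ht, by rw [smul_comm, hta, smul_zero]⟩ }
    let Ij : ℤ → Ideal A := fun j => Module.annihilator A ((K ⟶ ω⟦j⟧) ⧸ Nj j)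
    have hIj : ∀ j, PrimeSpectrum.zeroLocus (Ij j : Set A) ⊆ T' := by
      intro j p hp
      by_contra hpT
      haveI : Module.Finite A (K ⟶ ω⟦j⟧) := finite_hom_of_injAmp hL hω.finite_cohomology K hK j
      obtain ⟨P, hP, hPp⟩ := Ideal.exists_minimalPrimes_le (I := Ij j) (J := p.asIdeal) hp
      obtain ⟨hPp', f, hf⟩ := (isAssociatedPrime_iff_exists_injective_linearMap P _).1
        (Module.associatedPrimes.minimalPrimes_annihilator_subset_associatedPrimes A ((K ⟶ ω⟦j⟧) ⧸ Nj j) hP)
      let p₀ : PrimeSpectrum A := ⟨P, hPp'⟩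
      obtain ⟨θ, hθ⟩ := Submodule.Quotient.mk_surjective _ (f (Submodule.Quotient.mk 1))
      have hann : ∀ r : A, r • θ ∈ Nj j ↔ r ∈ P := fun r => by
        rw [← Submodule.Quotient.mk_eq_zero (Nj j), Submodule.Quotient.mk_smul, hθ, ← map_smul,
          map_eq_zero_iff f hf, ← Submodule.Quotient.mk_smul, Submodule.Quotient.mk_eq_zero, smul_eq_mul, mul_one]
      have hθN : ¬ θ ∈ Nj j := fun hh => hPp'.one_notMem ((hann 1).1 (by rwa [one_smul]))
      obtain ⟨q, hq⟩ := not_forall.1 hθN
      push Not at hq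
      obtain ⟨hqT, hqd, hqθ⟩ := hq
      have hle : P ≤ q.asIdeal := fun r hr => by
        by_contra hrq
        obtain ⟨t, ht, htr⟩ := (hann r).2 hr q hqT hqd
        exact hqθ (t * r) (q.asIdeal.primeCompl.mul_mem ht hrq) (by rw [mul_smul, htr])
      have hp₀ : p₀ ∉ T' := fun hh => hpT (hT' ((PrimeSpectrum.le_iff_specializes p₀ p).1 hPp) hh)
      obtain ⟨t, ht, ht0⟩ := h p₀ q hle hp₀ hqT (deg hω q - j) (by omega) j (by ring) θ
      exact ht ((hann t).1 (by rw [ht0]; exact zero_mem _))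
    let S := Finset.Icc (lo - s) (hi - c)
    let I : Ideal A := ∏ j ∈ S, Ij j
    have hI : PrimeSpectrum.zeroLocus (I : Set A) ⊆ T' := fun p hp => by
      obtain ⟨j, -, hj⟩ := (p.2.prod_le).1 (show ∏ j ∈ S, Ij j ≤ p.asIdeal from hp)
      exact hIj j hj
    have hlks : ∀ m, I ≤ lks J T m s := by
      intro m a ha q hq _ i hi'
      refine (lk_iff_hom q hω hK c hJ hJc e i a).2 fun θ => ?_
      by_cases hj : deg hω q - i ≤ hi - c
      · have hmem : deg hω q - i ∈ S := Finset.mem_Icc.2 ⟨by have := hlo q; omega, hj⟩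
        have ha' : a ∈ Ij (deg hω q - i) := Ideal.le_of_dvd (Finset.dvd_prod_of_mem Ij hmem) ha
        have h1 := Module.mem_annihilator.1 ha' (Submodule.Quotient.mk θ)
        rw [← Submodule.Quotient.mk_smul, Submodule.Quotient.mk_eq_zero] at h1
        exact h1 q hq (by omega)
      · haveI := subsingleton_hom_of_isGE hL K c (deg hω q - i) (by omega)
        exact ⟨1, q.2.one_notMem, Subsingleton.elim _ _⟩
    have hht : ∀ q : PrimeSpectrum A, q.asIdeal.height ≤ N := fun q => by
      have h1 := (Ideal.height_le_ringKrullDim_of_ne_top q.2.ne_top).trans hN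
      exact_mod_cast h1
    refine ⟨I ^ (N + 1), zeroLocus_pow_subset I _ hI (Nat.succ_pos N), fun i hi' a ha => ?_⟩
    exact (kills_HDT_iff T e).2 (exists_pow_le_kts hJ hT hht hlks ha i hi')

include hK in
/-- The vanishing condition in terms of the dual. -/
theorem condition_iff [∀ p : PrimeSpectrum A, DRing.HasLBaseChange (algebraMap A (Localization.AtPrime p.asIdeal))]
    (c : ℤ) (hKc : ∀ i : ℤ, i < c → Subsingleton (Dual.HD A K i)) {T' : Set (PrimeSpectrum A)} :
    (∀ (p q : PrimeSpectrum A) (hpq : p ≤ q), p ∉ T' → q ∈ T → ∀ h : ℕ, Order.height (⟨q, hpq⟩ : Set.Ici p) = h →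
      ∀ i : ℤ, i ≤ s - h → Subsingleton (Dual2.HDI (Localization.AtPrime p.asIdeal)
        (IsLocalRing.maximalIdeal (Localization.AtPrime p.asIdeal))
        ((DRing.LBaseChange (algebraMap A (Localization.AtPrime p.asIdeal))).obj K) i)) ↔
    ∀ p q : PrimeSpectrum A, p ≤ q → p ∉ T' → q ∈ T → ∀ i ≤ s, ∀ j : ℤ, j = deg hω q - i →
      ∀ θ : K ⟶ ω⟦j⟧, ∃ t ∉ p.asIdeal, t • θ = 0 := by
  haveI := isGE_of_HD K c hKc
  constructor
  · intro h p q hpq hp hq i hi j hj
    have hd := deg_mono hω hpq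
    obtain rfl : j = deg hω p - (i - (deg hω q - deg hω p)) := by omega
    exact (subsingleton_HDI_iff p hω K c hK _).1
      (h p q hpq hp hq _ (height_Ici hω hpq) (i - (deg hω q - deg hω p)) (by omega))
  · intro h p q hpq hp hq n hn i hi
    rw [height_Ici hω hpq] at hn
    have hn' : (deg hω q - deg hω p).toNat = n := by exact_mod_cast hn
    have hd := deg_mono hω hpq
    exact (subsingleton_HDI_iff p hω K c hK i).2
      (h p q hpq hp hq (i + n) (by omega) (deg hω p - i) (by omega))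

end Groth.Agent.CAlgH3.DT
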