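import Groth.Agent.CAlgH3.DT.KillDies
import Groth.Agent.CAlgH3.DT.ProZero

/-! Pro-vanishing of `H^i_𝔪(I^n M)` up to multiplication by a constant. -/

set_option autoImplicit false
set_option backward.isDefEq.respectTransparency false
set_option backward.defeqAttrib.useBackward true
set_option linter.style.haveILetI false

universe u

open CategoryTheory CategoryTheory.Limits

attribute [local instance] HasDerivedCategory.standard

namespace Groth.Agent.CAlgH3.DT

open Groth.Agent.DualLib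
open PHT (pw inc)

variable {A : Type u} [CommRing A] [IsLocalRing A] [IsNoetherianRing A] {I : Ideal A}
  {ω : Dual.D A} (hω : Dual.IsDualizing A ω)

/-- The ideal carrying the bad components. -/
theorem exists_J0_closed (M : Type u) [AddCommGroup M] [Module A M] [Module.Finite A M] (I : Ideal A)
    (hω : Dual.IsDualizing A ω) :
    ∃ J₀ : Ideal A, J₀ ≤ IsLocalRing.maximalIdeal A ∧
      PrimeSpectrum.zeroLocus (J₀ : Set A) ∩ PrimeSpectrum.zeroLocus (I : Set A) ⊆ {IsLocalRing.closedPoint A} ∧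
      ∀ c ∈ J₀, ∃ e : ℕ, ∀ (q : ℤ) (p : PrimeSpectrum A), ¬ I ≤ p.asIdeal →
        (∃ y : E ω M q, ∀ t ∉ p.asIdeal, t • c ^ e • y ≠ 0) →
          ∃ P : PrimeSpectrum A, P ≤ p ∧ ¬ IsTPoint I P ∧ P ∈ Module.support A (E ω M q) := by
  classical
  obtain ⟨a, b, hab⟩ := hω.finite_injective_dimension
  let S : ℤ → Finset (Ideal A) := fun q =>
    ((Module.annihilator A (E ω M q)).finite_minimalPrimes_of_isNoetherianRing).toFinset
  let Bad : Ideal A → Prop := fun P => ∃ h : P.IsPrime, ¬ I ≤ P ∧ IsTPoint I ⟨P, h⟩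
  let F : Finset (Ideal A) := (Finset.Icc a b).biUnion fun q => (S q).filter Bad
  refine ⟨IsLocalRing.maximalIdeal A ⊓ F.inf id, inf_le_left, fun p ⟨hpJ, hpI⟩ => ?_, fun c hc => ?_⟩
  · rcases p.2.inf_le.1 (show IsLocalRing.maximalIdeal A ⊓ F.inf id ≤ p.asIdeal from hpJ) with h | h
    · exact PrimeSpectrum.ext (le_antisymm (IsLocalRing.le_maximalIdeal p.2.ne_top) h)
    · obtain ⟨P, hP, hPp⟩ := (Ideal.IsPrime.inf_le' p.2).1 h
      obtain ⟨q, -, hPq⟩ := Finset.mem_biUnion.1 hP
      obtain ⟨hPp', -, hT⟩ := (Finset.mem_filter.1 hPq).2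
      exact hT p hPp hpI
  let B : ℤ → Ideal A := fun q => ((S q).filter fun P => ¬ Bad P).inf id
  have hrad : ∀ q ∈ Finset.Icc a b, ∃ e : ℕ, (Ideal.span {c} * B q) ^ e ≤ Module.annihilator A (E ω M q) := by
    intro q hq
    refine Ideal.exists_pow_le_of_le_radical_of_fg ?_ (IsNoetherian.noetherian _)
    rw [← Ideal.sInf_minimalPrimes]
    refine le_sInf fun P hP => ?_
    by_cases hb : Bad P
    · refine Ideal.mul_le_left.trans ((Ideal.span_singleton_le_iff_mem _).2 ?_)
      exact (inf_le_right.trans (Finset.inf_le (f := id) (Finset.mem_biUnion.2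
        ⟨q, hq, Finset.mem_filter.2 ⟨(Set.Finite.mem_toFinset _).2 hP, hb⟩⟩)) : _ ≤ P) hc
    · exact Ideal.mul_le_right.trans (Finset.inf_le (f := id)
        (Finset.mem_filter.2 ⟨(Set.Finite.mem_toFinset _).2 hP, hb⟩ : P ∈ (S q).filter fun P => ¬ Bad P))
  choose! e he using hrad
  refine ⟨(Finset.Icc a b).sup e, fun q p hpI ⟨y, hy⟩ => ?_⟩
  have hq : q ∈ Finset.Icc a b := by
    by_contra hq
    haveI : Subsingleton (E ω M q) := hab M q (by rw [Finset.mem_Icc] at hq; omega)
    exact hy 1 p.2.one_notMem (Subsingleton.elim _ _)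
  have hB : B q ≤ p.asIdeal := by
    by_contra hne
    obtain ⟨t, ht, htp⟩ := SetLike.not_le_iff_exists.1 hne
    refine hy (t ^ e q) (fun h => htp (p.2.mem_of_pow_mem _ h)) ?_
    obtain ⟨r, hr⟩ := Nat.le.dest (Finset.le_sup (f := e) hq)
    have h1 : (c * t) ^ e q ∈ Module.annihilator A (E ω M q) :=
      he q hq (Ideal.pow_mem_pow (Ideal.mul_mem_mul (Ideal.mem_span_singleton_self c) ht) _)
    rw [← hr, smul_smul, show t ^ e q * c ^ (e q + r) = c ^ r * (c * t) ^ e q by ring, mul_smul,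
      Module.mem_annihilator.1 h1 y, smul_zero]
  obtain ⟨P, hP, hPp⟩ := (Ideal.IsPrime.inf_le' p.2).1 hB
  obtain ⟨hPS, hbad⟩ := Finset.mem_filter.1 hP
  have hPm := (Set.Finite.mem_toFinset _).1 hPS
  haveI := hPm.1.1
  refine ⟨⟨P, hPm.1.1⟩, hPp, fun hT => hbad ⟨hPm.1.1, fun h => hpI (h.trans hPp), hT⟩, ?_⟩
  haveI := DualLib.finite hω M q
  exact Module.mem_support_iff_of_finite.2 hPm.1.2

/-- Normalising by a shift. -/
theorem isNormalized_shift (hω : Dual.IsDualizing A ω) :
    Dual.IsNormalized A (ω⟦deg hω (IsLocalRing.closedPoint A)⟧) := by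
  let mA := IsLocalRing.closedPoint A
  intro i' hi'
  haveI : Subsingleton (E ω (A ⧸ mA.asIdeal) (deg hω mA + i')) := by
    refine (Module.support_eq_empty_iff (R := A)).1 (Set.eq_empty_iff_forall_notMem.2 fun P hP => ?_)
    have hPm : P = mA := by
      refine PrimeSpectrum.ext (le_antisymm (IsLocalRing.le_maximalIdeal P.2.ne_top) ?_)
      by_contra hne
      exact notMem_support_of_kills (annihilator_le_annihilator ω _) (by rwa [Ideal.annihilator_quotient]) hP
    subst hPm
    have := (deg_spec hω mA (deg hω mA + i')).1 hP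
    omega
  haveI : Subsingleton (Dual.inD A (IsLocalRing.ResidueField A) ⟶ ω⟦deg hω mA + i'⟧) :=
    inferInstanceAs (Subsingleton (E ω (A ⧸ mA.asIdeal) (deg hω mA + i')))
  exact (homShift (Dual.inD A (IsLocalRing.ResidueField A)) ω (deg hω mA) i' _ rfl).symm.injective.subsingleton

variable [IsAdicComplete I A] (hI : I ≤ IsLocalRing.maximalIdeal A) {d s : ℕ} (hcd : _root_.LocCoh.CdLE A I d)

include hI hcd in
/-- Classes in high degrees die on `I^k X` up to a constant. -/
theorem exists_smul_emap_zero (hω : Dual.IsDualizing A ω) :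
    ∃ L : ℕ, ∀ (c : A) (X : Type u) [AddCommGroup X] [Module A X] [Module.Finite A X],
      (∀ (q : ℤ) (p : PrimeSpectrum A), ¬ I ≤ p.asIdeal → (∃ y : E ω X q, ∀ t ∉ p.asIdeal, t • c • y ≠ 0) →
        ∃ P : PrimeSpectrum A, P ≤ p ∧ ¬ IsTPoint I P ∧ ∃ n : ℕ, q ≤ deg hω P - n ∧
          (s ≤ n ∨ d + s < n + (deg hω (IsLocalRing.closedPoint A) - deg hω P).toNat)) →
      ∀ (j : ℤ), deg hω (IsLocalRing.closedPoint A) ≤ j + (s + 1) → ∀ x : E ω X j,
        ∃ k : ℕ, c ^ L • emap ω (I ^ k • (⊤ : Submodule A X)).subtype j x = 0 := by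
  obtain ⟨lo, hi, hL⟩ := exists_injAmplitude hω
  haveI := isGE_of_injAmp hL
  obtain ⟨J, hJc, hJK, hJ, ⟨e⟩⟩ := exists_model ω lo ((DRingLib.isGE_iff_HD ω lo).1 inferInstance)
  haveI := hJK
  let a := lo
  let b := max hi lo
  refine ⟨(b + 1 - a).toNat, fun c X _ _ _ hkey j hj x => ?_⟩
  haveI : (Dual.inD A X).IsGE 0 := inferInstance
  refine exists_smul_emap_zero_of_diesC X e hJ I (c ^ (b + 1 - a).toNat) j ?_ x
  haveI : (DerivedCategory.Q.obj (homCx X J)).IsGE a := (DRingLib.isGE_iff_HD _ a).2 fun q hq => by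
    obtain ⟨η⟩ := nonempty_homology_homCx X e q
    haveI : Subsingleton ((homCx X J).homology q) := subsingleton_of_forall_eq 0 fun y => by
      obtain ⟨z, rfl⟩ := RGam.cl_surjective (homCx X J) q y
      haveI := hJc q hq
      haveI : Subsingleton ((homCx X J).X q) := inferInstanceAs (Subsingleton (X →ₗ[A] J.X q))
      rw [Subsingleton.elim z 0, map_zero]
    exact (RGam.hdQ _ q).toEquiv.subsingleton
  haveI : (DerivedCategory.Q.obj (homCx X J)).IsLE b := (DRingLib.isLE_iff_HD _ b).2 fun q hq => by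
    obtain ⟨η⟩ := nonempty_homology_homCx X e q
    haveI : Subsingleton (E ω X q) := subsingleton_hom_of_isGE hL (Dual.inD A X) 0 q (by omega)
    exact ((RGam.hdQ _ q).trans η).toEquiv.subsingleton
  refine diesC_of_homology c (b + 1 - a).toNat a _ inferInstance ((ts A).isLE_of_le _ b _ (by omega)) j fun q _ _ => ?_
  obtain ⟨η⟩ := nonempty_homology_homCx X e q
  let ε := (RGam.hdQ (homCx X J) q).trans η
  haveI hfin : Module.Finite A (E ω X q) := DualLib.finite hω X q
  let N := Dual.HD A (DerivedCategory.Q.obj (homCx X J)) q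
  haveI : Module.Finite A N := Module.Finite.equiv ε.symm
  refine diesC_of_range c ?_
  let R := LinearMap.range (c • (LinearMap.id : N →ₗ[A] N))
  haveI : Module.Finite A R := Module.Finite.of_fg (IsNoetherian.noetherian _)
  have key : ∀ p ∈ Module.support A R, ¬ I ≤ p.asIdeal → 1 ≤ j - q ∧ ((d : ℤ) ≤ j - q ∨
      ((deg hω (IsLocalRing.closedPoint A) - deg hω p).toNat : ℤ) ≤ j - q ∨
      (((deg hω (IsLocalRing.closedPoint A) - deg hω p).toNat : ℤ) = j - q + 1 ∧ ¬ IsTPoint I p)) := by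
    intro p hp hpI
    obtain ⟨⟨_, y, rfl⟩, hy⟩ := Module.mem_support_iff'.1 hp
    obtain ⟨P, hPp, hT, n, hqn, hn⟩ := hkey q p hpI ⟨ε y, fun t ht h0 => hy t ht (Subtype.ext (by
      show t • (c • y) = 0
      apply ε.injective
      rw [map_smul, map_smul, h0, map_zero]))⟩
    have hPI : ¬ I ≤ P.asIdeal := fun h => hpI (h.trans hPp)
    have hd1 := one_le_of_cdLE hI hcd hPI
    have hD : 2 ≤ deg hω (IsLocalRing.closedPoint A) - deg hω P := by
      have hT' := hT
      simp only [IsTPoint, not_forall] at hT'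
      obtain ⟨Q, hPQ, hIQ, hQ⟩ := hT'
      have h1 := deg_lt hω (lt_of_le_of_ne hPQ fun h => hPI (h ▸ hIQ))
      have h2 := deg_lt hω (lt_of_le_of_ne
        (show Q ≤ IsLocalRing.closedPoint A from IsLocalRing.le_maximalIdeal Q.2.ne_top) hQ)
      omega
    have hpm := deg_mono hω (show p ≤ IsLocalRing.closedPoint A from IsLocalRing.le_maximalIdeal p.2.ne_top)
    rcases hn with hn | hn
    · refine ⟨by omega, ?_⟩
      rcases le_or_gt ((deg hω (IsLocalRing.closedPoint A) - deg hω P).toNat : ℤ) (j - q) with h' | h'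
      · exact Or.inr (Or.inl (by have := deg_mono hω hPp; omega))
      · rcases eq_or_lt_of_le hPp with rfl | hlt
        · exact Or.inr (Or.inr ⟨by omega, hT⟩)
        · have := deg_lt hω hlt
          exact Or.inr (Or.inl (by omega))
    · exact ⟨by omega, Or.inl (by omega)⟩
  rcases lt_trichotomy (j - q) 0 with hc | hc | hc
  · exact diesIn_neg hc
  · rw [hc]
    have hle : I ≤ (Module.annihilator A R).radical := by
      rw [Ideal.radical_eq_sInf]
      refine le_sInf fun P ⟨hP, hPprime⟩ => ?_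
      by_contra hne
      have := (key ⟨P, hPprime⟩ (Module.mem_support_iff_of_finite.2 hP) hne).1
      omega
    obtain ⟨n, hn⟩ := Ideal.exists_pow_le_of_le_radical_of_fg hle (IsNoetherian.noetherian _)
    exact diesIn_zero fun r hr y => Module.mem_annihilator.1 (hn hr) y
  · obtain ⟨i, hi'⟩ := Int.eq_ofNat_of_zero_le hc.le
    rw [hi']
    have hi1 : 1 ≤ i := by omega
    refine diesIn_pos hi1 ?_
    by_cases hdi : d ≤ i
    · exact hcd R (i + 1) (by omega)
    refine subsingleton_H_of_nonT I hI (by omega) fun p hp => ?_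
    by_cases hpI : I ≤ p.asIdeal
    · exact Or.inl hpI
    refine Or.inr ?_
    obtain ⟨-, h | h | ⟨h, hT⟩⟩ := key p hp hpI
    · exact absurd h (by omega)
    · exact Or.inl (by rw [ringKrullDim_quotient_eq_deg hω p]; exact_mod_cast (show _ < i + 1 by omega))
    · exact Or.inr ⟨by rw [ringKrullDim_quotient_eq_deg hω p]; exact_mod_cast (show _ = i + 1 by omega), hT⟩

include hω hI hcd in
/-- `H^i_𝔪(I^n M)` is pro-zero up to a constant in a range. -/
theorem exists_proZero_upTo (M : Type u) [AddCommGroup M] [Module A M] [Module.Finite A M]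
    (h4 : ∀ p : PrimeSpectrum A, ¬ I ≤ p.asIdeal → ¬ IsTPoint I p → ∀ n : ℕ,
      _root_.LocCoh.depth (Localization.AtPrime p.asIdeal) (LocalizedModule p.asIdeal.primeCompl M) = n →
      s ≤ n ∨ d + s < n + (deg hω (IsLocalRing.closedPoint A) - deg hω p).toNat) :
    ∃ J₀ : Ideal A, J₀ ≤ IsLocalRing.maximalIdeal A ∧
      PrimeSpectrum.zeroLocus (J₀ : Set A) ∩ PrimeSpectrum.zeroLocus (I : Set A) ⊆ {IsLocalRing.closedPoint A} ∧
      ∀ c ∈ J₀, ∃ e : ℕ, ∀ i : ℕ, i ≤ s + 1 → ∀ n : ℕ, ∃ (m : ℕ) (h : n ≤ m),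
        ∀ a : _root_.LocCoh.H (IsLocalRing.maximalIdeal A) i (pw I M m),
          c ^ e • LocCoh.Hmap (IsLocalRing.maximalIdeal A) i (inc I M h) a = 0 := by
  classical
  obtain ⟨J₀, hJm, hJ, hJe⟩ := exists_J0_closed M I hω
  obtain ⟨L, hL⟩ := exists_smul_emap_zero (s := s) hI hcd hω
  refine ⟨J₀, hJm, hJ, fun c hc => ?_⟩
  obtain ⟨e₀, he₀⟩ := hJe c hc
  refine ⟨e₀ * L, fun i hi n => ?_⟩
  let mA := IsLocalRing.closedPoint A
  let j : ℤ := deg hω mA + -(i : ℤ)
  have hkey : ∀ (q : ℤ) (p : PrimeSpectrum A), ¬ I ≤ p.asIdeal →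
      (∃ y : E ω (pw I M n) q, ∀ t ∉ p.asIdeal, t • c ^ e₀ • y ≠ 0) →
        ∃ P : PrimeSpectrum A, P ≤ p ∧ ¬ IsTPoint I P ∧ ∃ n' : ℕ, q ≤ deg hω P - n' ∧
          (s ≤ n' ∨ d + s < n' + (deg hω (IsLocalRing.closedPoint A) - deg hω P).toNat) := by
    rintro q p hpI ⟨y, hy⟩
    obtain ⟨a, ha, hap⟩ := SetLike.not_le_iff_exists.1 hpI
    let f : M →ₗ[A] pw I M n := LinearMap.codRestrict _ (a ^ n • LinearMap.id) fun z =>
      Submodule.smul_mem_smul (Ideal.pow_mem_pow ha n) Submodule.mem_top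
    obtain ⟨P, hPp, hT, hPs⟩ := he₀ q p hpI ⟨emap ω f q y, fun t ht h0 => hy (t * a ^ n)
      (fun h => (p.2.mem_or_mem h).elim ht fun h' => hap (p.2.mem_of_pow_mem n h')) (by
        have e : a ^ n • y = emap ω (pw I M n).subtype q (emap ω f q y) := by
          rw [← LinearMap.comp_apply, ← emap_comp,
            show f ∘ₗ (pw I M n).subtype = a ^ n • LinearMap.id from LinearMap.ext fun z => Subtype.ext rfl,
            emap_smul_id]
        rw [mul_smul, smul_comm (a ^ n), e, ← map_smul, ← map_smul, h0, map_zero])⟩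
    have hPI : ¬ I ≤ P.asIdeal := fun h => hpI (h.trans hPp)
    have hPM : P ∈ Module.support A M := by
      by_contra hne
      exact notMem_support_of_kills (annihilator_le_annihilator ω q)
        (fun hle => hne (Module.mem_support_iff_of_finite.2 hle)) hPs
    obtain ⟨n', hn'⟩ : ∃ n' : ℕ, _root_.LocCoh.depth (Localization.AtPrime P.asIdeal)
        (LocalizedModule P.asIdeal.primeCompl M) = n' := by
      haveI : Nontrivial (LocalizedModule P.asIdeal.primeCompl M) := hPM
      haveI : Module.Finite (Localization.AtPrime P.asIdeal) (LocalizedModule P.asIdeal.primeCompl M) :=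
        Module.Finite.of_isLocalizedModule P.asIdeal.primeCompl (LocalizedModule.mkLinearMap P.asIdeal.primeCompl M)
      exact ENat.ne_top_iff_exists.1 (CAlgH3.depth_lt_top.ne) |>.imp fun n h => h.symm
    refine ⟨P, hPp, hT, n', ?_, h4 P hPI hT n' hn'⟩
    by_contra hlt
    exact (localDepth_spec hω P n' M hPM hn').1 q (by omega) hPs
  obtain ⟨m, hm, hkill⟩ : ∃ (m : ℕ) (h : n ≤ m), ∀ x : E ω (pw I M n) j, c ^ (e₀ * L) • emap ω (inc I M h) j x = 0 := by
    haveI := DualLib.finite hω (pw I M n) j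
    obtain ⟨G, hG⟩ := (inferInstance : Module.Finite A (E ω (pw I M n) j)).fg_top
    choose k hk using fun x => hL (c ^ e₀) (pw I M n) hkey j (by simp only [j, mA]; omega) x
    refine ⟨n + G.sup k, Nat.le_add_right _ _, fun x => ?_⟩
    have hx : x ∈ Submodule.span A (G : Set (E ω (pw I M n) j)) := hG ▸ Submodule.mem_top
    induction hx using Submodule.span_induction with
    | mem x hx =>
      have hg : ∀ y, inc I M (Nat.le_add_right n (G.sup k)) y ∈ (I ^ k x • ⊤ : Submodule A (pw I M n)) := fun y => by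
        rw [Submodule.mem_smul_top_iff]
        show (y : M) ∈ I ^ k x • (I ^ n • (⊤ : Submodule A M))
        rw [← Submodule.smul_assoc, smul_eq_mul, ← pow_add]
        refine Submodule.smul_mono_left (Ideal.pow_le_pow_right ?_) y.2
        have := Finset.le_sup (f := k) hx
        omega
      rw [← map_smul]
      refine emap_eq_zero_of_mem ω j _ _ hg _ ?_
      rw [map_smul, pow_mul]
      exact hk x
    | zero => rw [map_zero, smul_zero]
    | add x y _ _ hx hy => rw [map_add, smul_add, hx, hy, add_zero]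
    | smul r x _ hx => rw [map_smul, smul_comm, hx, smul_zero]
  refine ⟨m, hm, fun a => ?_⟩
  let W := ω⟦deg hω mA⟧
  have hW : Dual.IsDualizing A W := isDualizing_shift hω _
  have hn : Dual.IsNormalized A W := isNormalized_shift hω
  obtain ⟨E₀, _, _, f₀, hf₀⟩ := Matlis6.exists_isInjectiveHull A (IsLocalRing.ResidueField A)
  obtain ⟨ρ, hρ₁, hρ₂, hρ₃⟩ := exists_dualSystem hW hn hf₀
  let ρ' : DualSystem W E₀ := ⟨ρ, hρ₁, hρ₂, fun {a b} hab => hρ₃ hab⟩
  refine (dualMap_bijective ρ' hW hn hf₀ i (pw I M n)).1 ?_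
  rw [map_zero, map_smul]
  refine LinearMap.ext fun ψ => ?_
  rw [LinearMap.smul_apply, dualMap_Hmap, ← map_smul, LinearMap.zero_apply]
  obtain ⟨φ', rfl⟩ := (homShift _ ω (deg hω mA) (-(i : ℤ)) j rfl).surjective ψ
  have h3 : emap W (inc I M hm) (-(i : ℤ)) (homShift _ ω (deg hω mA) (-(i : ℤ)) j rfl φ') =
      homShift _ ω (deg hω mA) (-(i : ℤ)) j rfl (emap ω (inc I M hm) j φ') := by
    simp [homShift, emap_apply, Linear.homCongr]
  rw [h3, ← map_smul (homShift _ ω (deg hω mA) (-(i : ℤ)) j rfl), hkill, map_zero, map_zero]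

end Groth.Agent.CAlgH3.DT
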