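import Groth.Agent.CAlgH3.DT.NonT

/-! Classes that die after multiplication by a constant. -/

set_option autoImplicit false
set_option backward.isDefEq.respectTransparency false
set_option backward.defeqAttrib.useBackward true
set_option linter.style.haveILetI false

universe u

open CategoryTheory CategoryTheory.Limits CategoryTheory.Pretriangulated

attribute [local instance] HasDerivedCategory.standard

namespace Groth.Agent.CAlgH3.DT

open Groth.Agent.DualLib
open Groth.Agent.DualLib.GammaHDI (cyc lam lam_surjective lam_eq_zero lam_natural)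
open Groth.Agent.CAlgH3.RGam (tor gcMap)

variable {A : Type u} [CommRing A] {I : Ideal A}

/-- `c` times every map `I^k → K⟦j⟧` dies. -/
def DiesC (c : A) (I : Ideal A) (K : Dual.D A) (j : ℤ) : Prop :=
  ∀ (k : ℕ) (φ : E K (I ^ k : Ideal A) j), ∃ (l : ℕ) (h : k ≤ l), c • emap K (pinc I h) j φ = 0

theorem DiesC.of_iso {c : A} {K L : Dual.D A} {j : ℤ} (h : DiesC c I K j) (e : K ≅ L) : DiesC c I L j := fun k φ => by
  obtain ⟨l, hl, h0⟩ := h k (φ ≫ e.inv⟦j⟧')
  refine ⟨l, hl, ?_⟩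
  have h1 : (c • emap L (pinc I hl) j φ) ≫ e.inv⟦j⟧' = 0 := by
    rw [Linear.smul_comp, ← emap_post]
    exact h0
  rwa [← cancel_mono (e.inv⟦j⟧'), zero_comp]

theorem DiesC.shift {c : A} {K : Dual.D A} {m i j : ℤ} (hij : m + i = j) (h : DiesC c I K j) :
    DiesC c I (K⟦m⟧) i := fun k φ => by
  let e := (shiftFunctorAdd' (Dual.D A) m i j hij).app K
  obtain ⟨l, hl, h0⟩ := h k (φ ≫ e.inv)
  refine ⟨l, hl, ?_⟩
  have h1 : (c • emap (K⟦m⟧) (pinc I hl) i φ) ≫ e.inv = 0 := by
    rw [Linear.smul_comp]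
    rw [emap_apply] at h0 ⊢
    rw [← h0]
    exact congrArg (c • ·) (Category.assoc _ _ _)
  rwa [← cancel_mono e.inv, zero_comp]

theorem diesC_of_isZero (c : A) {K : Dual.D A} (hK : IsZero K) (j : ℤ) : DiesC c I K j := fun k _ =>
  ⟨k, le_rfl, ((shiftFunctor (Dual.D A) j).map_isZero hK).eq_of_tgt _ _⟩

theorem DiesC.mid {c₁ c₃ : A} {T : Triangle (Dual.D A)} (hT : T ∈ distTriang _) {j : ℤ}
    (h₁ : DiesC c₁ I T.obj₁ j) (h₃ : DiesC c₃ I T.obj₃ j) : DiesC (c₁ * c₃) I T.obj₂ j := fun k φ => by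
  obtain ⟨l, hl, h0⟩ := h₃ k (φ ≫ T.mor₂⟦j⟧')
  have h1 : (c₃ • emap T.obj₂ (pinc I hl) j φ) ≫ T.mor₂⟦j⟧' = 0 := by
    rw [Linear.smul_comp, ← emap_post]
    exact h0
  obtain ⟨g, hg⟩ := Triangle.coyoneda_exact₂ _ (Triangle.shift_distinguished T hT j) (c₃ • emap T.obj₂ (pinc I hl) j φ) (by
    show _ ≫ (j.negOnePow • T.mor₂⟦j⟧') = 0
    rw [Linear.comp_units_smul, h1, smul_zero])
  obtain ⟨l', hl', h0'⟩ := h₁ l (j.negOnePow • g)
  refine ⟨l', hl.trans hl', ?_⟩
  have h2 : c₃ • emap T.obj₂ (pinc I hl) j φ = (j.negOnePow • g) ≫ T.mor₁⟦j⟧' := by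
    rw [hg, Linear.units_smul_comp]
    show g ≫ (j.negOnePow • T.mor₁⟦j⟧') = _
    rw [Linear.comp_units_smul]
  rw [show pinc I (hl.trans hl') = pinc I hl ∘ₗ pinc I hl' from rfl, emap_comp, LinearMap.comp_apply, mul_smul,
    ← map_smul, h2, emap_post, ← Linear.smul_comp, h0', zero_comp]

/-- A map factoring through an object in which maps die. -/
theorem diesC_of_range {N : Type u} [AddCommGroup N] [Module A N] (c : A) {j : ℤ}
    (h : DiesIn I (Dual.inD A (LinearMap.range (c • (LinearMap.id : N →ₗ[A] N)))) j) :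
    DiesC c I (Dual.inD A N) j := fun k φ => by
  let g : N →ₗ[A] N := c • LinearMap.id
  let π : (S0 A).obj (ModuleCat.of A N) ⟶ (S0 A).obj (ModuleCat.of A (LinearMap.range g)) :=
    (S0 A).map (ModuleCat.ofHom g.rangeRestrict)
  let ι : (S0 A).obj (ModuleCat.of A (LinearMap.range g)) ⟶ (S0 A).obj (ModuleCat.of A N) :=
    (S0 A).map (ModuleCat.ofHom (LinearMap.range g).subtype)
  obtain ⟨l, hl, h0⟩ := h k (φ ≫ π⟦j⟧')
  refine ⟨l, hl, ?_⟩
  have hπι : π ≫ ι = c • 𝟙 _ := by
    rw [← CategoryTheory.Functor.map_comp, ← CategoryTheory.Functor.map_id, ← CategoryTheory.Functor.map_smul]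
    congr 1
  have h1 : (emap (Dual.inD A N) (pinc I hl) j φ ≫ π⟦j⟧') ≫ ι⟦j⟧' = 0 := by
    rw [← emap_post]
    exact (congrArg (· ≫ ι⟦j⟧') h0).trans zero_comp
  rw [Category.assoc, ← Functor.map_comp, hπι, Functor.map_smul, CategoryTheory.Functor.map_id, Linear.comp_smul] at h1
  erw [Category.comp_id] at h1
  exact h1

/-- Dying for an object follows from dying for its cohomology modules. -/
theorem diesC_of_homology (c : A) : ∀ (n : ℕ) (a : ℤ) (X : Dual.D A), X.IsGE a → X.IsLE (a + n - 1) → ∀ j : ℤ,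
    (∀ q : ℤ, a ≤ q → q < a + n → DiesC c I (Dual.inD A (Dual.HD A X q)) (j - q)) → DiesC (c ^ n) I X j := by
  intro n
  induction n with
  | zero =>
    intro a X hge hle j _
    exact diesC_of_isZero _ ((ts A).isZero X (a + (0 : ℕ) - 1) a (by omega)) j
  | succ n ih =>
    intro a X hge hle j h
    let T := ((ts A).triangleLTGE (a + n)).obj X
    haveI h₁ : (((ts A).truncLT (a + n)).obj X).IsLE (a + n - 1) := (ts A).isLE_truncLT_obj _ _ _ (by omega)
    haveI : (((ts A).truncLT (a + n)).obj X).IsGE a := inferInstance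
    rw [pow_succ]
    refine DiesC.mid (T := T) ((ts A).triangleLTGE_distinguished (a + n) X) ?_ ?_
    · refine ih a _ inferInstance h₁ j fun q hq hq' => ?_
      exact (h q hq (by push_cast; omega)).of_iso ((S0 A).mapIso (hTruncLT X (a + n) q hq').symm.toModuleIso)
    · haveI : X.IsLE (a + n) := by
        have : a + ((n + 1 : ℕ) : ℤ) - 1 = a + n := by push_cast; omega
        exact this ▸ hle
      haveI : (((ts A).truncGE (a + n)).obj X).IsGE (a + n) := inferInstance
      haveI : (((ts A).truncGE (a + n)).obj X).IsLE (a + n) := inferInstance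
      obtain ⟨e⟩ := exists_single_iso (((ts A).truncGE (a + n)).obj X) (a + n)
      let N := ModuleCat.of A (Dual.HD A (((ts A).truncGE (a + n)).obj X) (a + n))
      have hN : DiesC c I ((S0 A).obj N) (j - (a + n)) := (h (a + n) (by omega) (by push_cast; omega)).of_iso
        ((S0 A).mapIso (hTruncGE X (a + n) (a + n) le_rfl).toModuleIso)
      exact ((hN.shift (m := -(a + n)) (i := j) (by ring)).of_iso
        (((((DerivedCategory.singleFunctors (ModuleCat.{u} A)).shiftIso (-(a + n)) (a + n) 0 (by omega)).app N).symm).symm ≪≫ e))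

variable [IsNoetherianRing A] (X : Type u) [AddCommGroup X] [Module A X] [Module.Finite A X] {J : DRing.Cx A}
  [J.IsKInjective] {ω : Dual.D A} (e : DerivedCategory.Q.obj J ≅ ω)

include e in
/-- If `c` times maps `I^k → Hom(X, J)` die, `c` times classes die on `I^k X`. -/
theorem exists_smul_emap_zero_of_diesC (hJ : ∀ i, Module.Injective A (J.X i)) (I : Ideal A) (c : A) (j : ℤ)
    (hd : DiesC c I (DerivedCategory.Q.obj (homCx X J)) j) (x : E ω X j) :
    ∃ k : ℕ, c • emap ω (I ^ k • (⊤ : Submodule A X)).subtype j x = 0 := by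
  obtain ⟨f, rfl⟩ := lam_surjective e (ModuleCat.of A X) x
  obtain ⟨E', σ, hE', hσ, -, hinj⟩ := Groth.Agent.DCat.exists_kInj_res (homCx X J)
  haveI := hE'
  haveI := hσ
  let e₁ : DerivedCategory.Q.obj E' ≅ DerivedCategory.Q.obj (homCx X J) := (asIso (DerivedCategory.Q.map σ)).symm
  let f0 : (homCx X J).X j := hel X f.1
  let v : E'.X j := (σ.f j).hom f0
  have hf : ((homCx X J).d j (j + 1)).hom f0 = 0 :=
    LinearMap.ext fun y => (homCx_d_apply X J rfl f.1 y).trans (LinearMap.congr_fun f.2 y)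
  have hv : (E'.d j (j + 1)).hom v = 0 := by
    refine (RGam.comm σ j (j + 1) f0).trans ?_
    rw [hf, map_zero]
  let g : cyc E' j (ModuleCat.of A (I ^ 0 : Ideal A)) :=
    ⟨LinearMap.toSpanSingleton A _ v ∘ₗ (I ^ 0).subtype, LinearMap.ext fun r => by
      show (E'.d j (j + 1)).hom ((r : A) • v) = 0
      rw [map_smul, hv, smul_zero]⟩
  obtain ⟨l, hl, h0⟩ := hd 0 (lam e₁ _ g)
  have hg' : (c • g : cyc E' j _).1 ∘ₗ pinc I hl ∈ cyc E' j (ModuleCat.of A (I ^ l : Ideal A)) := by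
    show (E'.d j (j + 1)).hom ∘ₗ _ = 0
    rw [← LinearMap.comp_assoc, (c • g).2, LinearMap.zero_comp]
  have h1 : lam e₁ _ ⟨_, hg'⟩ = 0 := by
    refine (lam_natural e₁ (ModuleCat.ofHom (pinc I hl)) (c • g) hg').trans ?_
    rw [map_smul, Linear.comp_smul]
    exact h0
  obtain ⟨h, hh⟩ := lam_eq_zero e₁ _ h1
  haveI := hinj (j - 1)
  haveI : Module.Injective A (E'.X (j - 1)) := Module.injective_module_of_injective_object A (E'.X (j - 1))
  obtain ⟨h', hh'⟩ := Module.Baer.of_injective (inferInstance : Module.Injective A (E'.X (j - 1))) (I ^ l) h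
  let y' := h' 1
  obtain ⟨s, hs⟩ := RGam.exists_list I
  subst hs
  let z' : E'.X j := c • v - (E'.d (j - 1) j).hom y'
  have hz' : z' ∈ tor s (E'.X j) := ⟨l, fun r hr => by
    have e1 : h ⟨r, hr⟩ = r • y' := by
      rw [← hh' r hr, ← map_smul, smul_eq_mul, mul_one]
    have e2 : (E'.d (j - 1) j).hom (h ⟨r, hr⟩) = c • r • v := LinearMap.congr_fun hh ⟨r, hr⟩
    show r • (c • v - (E'.d (j - 1) j).hom y') = 0
    rw [smul_sub, ← map_smul (E'.d (j - 1) j).hom, ← e1, e2, smul_comm, sub_self]⟩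
  have hdz' : (E'.d j (j + 1)).hom z' = 0 := by
    rw [map_sub, map_smul, hv, smul_zero, RGam.dd, sub_zero]
  haveI := RGam.quasiIso_gcMap σ (s := s) (adC_homCx X hJ s) (RGam.adC_of_injective E' hinj s)
  obtain ⟨⟨z, n, hn⟩, hdz, ⟨w', hw't⟩, hw'⟩ := (RGam.elem_of_quasiIso (gcMap (Ideal.ofList s) σ)
    (show j - 1 + 1 = j by omega) (rfl : j + 1 = j + 1)).2 ⟨z', hz'⟩ (Subtype.ext hdz')
  have hw : z' - (σ.f j).hom z = (E'.d (j - 1) j).hom w' := congrArg Subtype.val hw'
  obtain ⟨w, hw2⟩ := (RGam.elem_of_quasiIso σ (show j - 1 + 1 = j by omega) (rfl : j + 1 = j + 1)).1 (c • f0 - z)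
    (by rw [map_sub, map_smul, hf, smul_zero,
      show ((homCx X J).d j (j + 1)).hom z = 0 from congrArg Subtype.val hdz, sub_zero])
    (y' + w') (by
      rw [map_sub, map_add, map_smul, ← hw]
      show c • v - _ = _ + (c • v - _ - _)
      abel)
  refine ⟨n, ?_⟩
  let P : Submodule A X := Ideal.ofList s ^ n • ⊤
  have hz0 : ∀ y ∈ P, hev X z y = 0 := fun y hy => by
    refine Submodule.smul_induction_on hy (fun a ha m _ => ?_) fun a b h1 h2 => by rw [map_add, h1, h2, add_zero]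
    rw [map_smul]
    exact LinearMap.congr_fun (show a • hev X z = 0 from hn a ha) m
  have hf' : (c • f : cyc J j _).1 ∘ₗ P.subtype ∈ cyc J j (ModuleCat.of A P) := by
    show (J.d j (j + 1)).hom ∘ₗ _ = 0
    rw [← LinearMap.comp_assoc, (c • f).2, LinearMap.zero_comp]
  show c • ((S0 A).map (ModuleCat.ofHom P.subtype) ≫ lam e _ f) = 0
  rw [← Linear.comp_smul, ← map_smul]
  refine (lam_natural e (ModuleCat.ofHom P.subtype) (c • f) hf').symm.trans ?_
  refine lam_boundary e ⟨_, hf'⟩ (hev X w ∘ₗ P.subtype) (LinearMap.ext fun y => ?_)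
  have h3 := (homCx_d_apply X J (show j - 1 + 1 = j by omega) (hev X w) (y : X)).symm.trans
    (LinearMap.congr_fun (congrArg (hev X) hw2) (y : X))
  refine h3.trans ?_
  show c • hev X f0 (y : X) - hev X z (y : X) = c • f.1 (y : X)
  rw [hz0 y y.2, sub_zero]

end Groth.Agent.CAlgH3.DT
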