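import Groth.Agent.CAlgH3.DT.Model
import Groth.Agent.DualLib.LocDualizing

/-! Local cohomology at a prime in terms of the injective model. -/

set_option autoImplicit false
set_option backward.isDefEq.respectTransparency false
set_option backward.defeqAttrib.useBackward true
set_option linter.style.haveILetI false

universe u

open CategoryTheory CategoryTheory.Limits

attribute [local instance] HasDerivedCategory.standard

namespace Groth.Agent.CAlgH3.DT

open Groth.Agent.DualLib
open Groth.Agent.DualLib.GammaHDI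

variable {A : Type u} [CommRing A] (q : PrimeSpectrum A)

local notation "Bq" => Localization.AtPrime q.asIdeal
local notation "φ" => algebraMap A (Localization.AtPrime q.asIdeal)

theorem flat_atPrime : (φ).Flat :=
  RingHom.flat_algebraMap_iff.2 (IsLocalization.flat Bq q.asIdeal.primeCompl)

instance instLimAtPrime : PreservesFiniteLimits (ModuleCat.extendScalars.{u, u, u} φ) :=
  ModuleCat.preservesFiniteLimits_extendScalars_of_flat (flat_atPrime q)

instance instColimAtPrime : PreservesFiniteColimits (ModuleCat.extendScalars.{u, u, u} φ) :=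
  haveI : PreservesColimitsOfSize.{0, 0} (ModuleCat.extendScalars.{u, u, u} φ) :=
    (ModuleCat.extendRestrictScalarsAdj.{u, u, u} φ).leftAdjoint_preservesColimits
  inferInstance

/-- The localised complex. -/
noncomputable abbrev jc (J : DRing.Cx A) : DRing.Cx Bq :=
  ((ModuleCat.extendScalars.{u, u, u} φ).mapHomologicalComplex (ComplexShape.up ℤ)).obj J

/-- `x ↦ x/1`. -/
noncomputable def iota (J : DRing.Cx A) (i : ℤ) (x : J.X i) : (jc q J).X i :=
  ((ModuleCat.extendRestrictScalarsAdj.{u, u, u} φ).unit.app (J.X i)).hom x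

variable {J : DRing.Cx A} {i : ℤ}

theorem iota_smul (a : A) (x : J.X i) : iota q J i (a • x) = φ a • iota q J i x :=
  map_smul ((ModuleCat.extendRestrictScalarsAdj.{u, u, u} φ).unit.app (J.X i)).hom a x

theorem iota_sub (x y : J.X i) : iota q J i (x - y) = iota q J i x - iota q J i y :=
  map_sub ((ModuleCat.extendRestrictScalarsAdj.{u, u, u} φ).unit.app (J.X i)).hom x y

theorem iota_zero : iota q J i 0 = 0 :=
  map_zero ((ModuleCat.extendRestrictScalarsAdj.{u, u, u} φ).unit.app (J.X i)).hom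

theorem iota_d (j : ℤ) (x : J.X i) : ((jc q J).d i j).hom (iota q J i x) = iota q J j ((J.d i j).hom x) :=
  (LinearMap.congr_fun (congrArg ModuleCat.Hom.hom
    ((ModuleCat.extendRestrictScalarsAdj.{u, u, u} φ).unit.naturality (J.d i j))) x).symm

theorem iota_eq_zero {x : J.X i} (h : iota q J i x = 0) : ∃ s ∉ q.asIdeal, s • x = 0 :=
  (torsIso_unit q.asIdeal.primeCompl (B := Localization.AtPrime q.asIdeal) (J.X i)).1 x h

theorem exists_iota (z : (jc q J).X i) : ∃ s ∉ q.asIdeal, ∃ x, iota q J i x = φ s • z := by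
  obtain ⟨s, hs, x, hx⟩ := (torsIso_unit q.asIdeal.primeCompl (B := Localization.AtPrime q.asIdeal) (J.X i)).2 z
  exact ⟨s, hs, x, hx⟩

theorem isUnit_map {s : A} (hs : s ∉ q.asIdeal) : IsUnit (φ s) :=
  IsLocalization.map_units Bq (⟨s, hs⟩ : q.asIdeal.primeCompl)

theorem pow_maximal_kills {n : ℕ} {x : J.X i} (hx : ∀ r ∈ q.asIdeal ^ n, r • x = 0) :
    ∀ b ∈ IsLocalRing.maximalIdeal Bq ^ n, b • iota q J i x = 0 := by
  have : IsLocalRing.maximalIdeal Bq ^ n ≤ annEl (iota q J i x) := by
    rw [← Localization.AtPrime.map_eq_maximalIdeal, ← Ideal.map_pow, Ideal.map_le_iff_le_comap]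
    intro r hr
    refine Ideal.mem_comap.2 (mem_annEl.2 ?_)
    rw [← iota_smul, hx r hr, iota_zero]
  exact fun b hb => mem_annEl.1 (this hb)

variable [IsNoetherianRing A]

theorem exists_smul_killed {n : ℕ} {x : J.X i} {s : A}
    {z : (jc q J).X i} (hz : iota q J i x = φ s • z) (hk : ∀ b ∈ IsLocalRing.maximalIdeal Bq ^ n, b • z = 0) :
    ∃ t ∉ q.asIdeal, ∀ r ∈ q.asIdeal ^ n, r • (t • x) = 0 := by
  classical
  obtain ⟨G, hG⟩ := IsNoetherian.noetherian (q.asIdeal ^ n)
  have h1 : ∀ g ∈ G, ∃ t ∉ q.asIdeal, t • (g • x) = 0 := fun g hg => by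
    refine iota_eq_zero q ?_
    rw [iota_smul, hz, smul_comm, hk (φ g) ?_, smul_zero]
    rw [← Localization.AtPrime.map_eq_maximalIdeal, ← Ideal.map_pow]
    exact Ideal.mem_map_of_mem _ (hG ▸ Submodule.subset_span hg)
  choose! τ hτ hτg using h1
  refine ⟨∏ g ∈ G, τ g, prod_mem (S := q.asIdeal.primeCompl) hτ, fun r hr => ?_⟩
  have : q.asIdeal ^ n ≤ annEl ((∏ g ∈ G, τ g) • x) := by
    rw [← hG]
    refine Submodule.span_le.2 ?_
    intro g hg
    obtain ⟨c, hc⟩ := Finset.dvd_prod_of_mem τ (Finset.mem_coe.1 hg)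
    refine mem_annEl.2 ?_
    rw [smul_comm, hc, mul_comm, mul_smul, hτg g hg, smul_zero]
  exact mem_annEl.1 (this hr)

theorem kills_homology_iff {a : A} :
    (∀ x : (GC (IsLocalRing.maximalIdeal Bq) (jc q J)).homology i, φ a • x = 0) ↔ LK J q i a := by
  let C := GC (IsLocalRing.maximalIdeal Bq) (jc q J)
  constructor
  · intro h n z hz hd
    let zc : C.X i := ⟨iota q J i z, n, pow_maximal_kills q hz⟩
    have hzc : (C.d i (i + 1)).hom zc = 0 := Subtype.ext (by
      show ((jc q J).d i (i + 1)).hom (iota q J i z) = 0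
      rw [iota_d, hd, iota_zero])
    have h0 := h ((C.homologyπ i).hom (cyMk C i ⟨zc, hzc⟩))
    rw [← map_smul, ← map_smul, homologyπ_eq_zero_iff] at h0
    obtain ⟨w, hw⟩ := h0
    have hw' : ((jc q J).d (i - 1) i).hom w.1 = φ a • iota q J i z := by
      exact congrArg Subtype.val (hw.trans (iCycles_cyclesMk C i (φ a • zc) (by rw [map_smul, hzc, smul_zero])))
    obtain ⟨k, hk⟩ := w.2
    obtain ⟨s, hs, y, hy⟩ := exists_iota q w.1
    obtain ⟨t, ht, htk⟩ := exists_smul_killed q hy hk
    obtain ⟨t', ht', ht'0⟩ := iota_eq_zero q (x := (J.d (i - 1) i).hom y - (s * a) • z) (by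
      rw [iota_sub, ← iota_d, hy, map_smul, hw', iota_smul, map_mul, mul_smul, sub_self])
    refine ⟨t' * t * s, q.asIdeal.primeCompl.mul_mem (q.asIdeal.primeCompl.mul_mem ht' ht) hs, k, t' • t • y,
      fun r hr => by rw [smul_comm, htk r hr, smul_zero], ?_⟩
    rw [smul_sub, sub_eq_zero] at ht'0
    rw [map_smul, map_smul, smul_comm t' t, ht'0, ← mul_smul, ← mul_smul]
    congr 1
    ring
  · intro h x
    obtain ⟨z, rfl⟩ := (ModuleCat.epi_iff_surjective (C.homologyπ i)).1 inferInstance x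
    rw [← map_smul, homologyπ_eq_zero_iff, map_smul]
    obtain ⟨n, hn⟩ := ((C.iCycles i).hom z).2
    have hcyc : ((jc q J).d i (i + 1)).hom ((C.iCycles i).hom z).1 = 0 :=
      congrArg Subtype.val (congrArg (fun f => f.hom z) (C.iCycles_d i (i + 1)))
    obtain ⟨s, hs, x, hx⟩ := exists_iota q ((C.iCycles i).hom z).1
    obtain ⟨t, ht, htk⟩ := exists_smul_killed q hx hn
    obtain ⟨t', ht', ht'0⟩ := iota_eq_zero q (x := (J.d i (i + 1)).hom x) (by
      rw [← iota_d, hx, map_smul, hcyc, smul_zero])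
    obtain ⟨s', hs', m, y, hy, he⟩ := h n (t' • t • x) (fun r hr => by rw [smul_comm, htk r hr, smul_zero])
      (by rw [map_smul, map_smul, smul_comm, ht'0, smul_zero])
    obtain ⟨v, hv⟩ := isUnit_map q (s := s' * t' * t * s) (q.asIdeal.primeCompl.mul_mem
      (q.asIdeal.primeCompl.mul_mem (q.asIdeal.primeCompl.mul_mem hs' ht') ht) hs)
    refine ⟨⟨(↑v⁻¹ : Bq) • iota q J (i - 1) y, m, fun b hb => by
      rw [smul_comm, pow_maximal_kills q hy b hb, smul_zero]⟩, Subtype.ext ?_⟩
    show ((jc q J).d (i - 1) i).hom ((↑v⁻¹ : Bq) • iota q J (i - 1) y) = φ a • ((C.iCycles i).hom z).1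
    rw [map_smul, iota_d, ← he, iota_smul, iota_smul, iota_smul, hx]
    simp only [smul_smul]
    congr 1
    calc (↑v⁻¹ : Bq) * (φ (s' * a) * (φ t' * (φ t * φ s)))
        = (↑v⁻¹ * φ (s' * t' * t * s)) * φ a := by rw [map_mul, map_mul, map_mul, map_mul]; ring
      _ = φ a := by rw [← hv, Units.inv_mul, one_mul]

/-- `a` kills `H^i` with supports in the closed point of `K_q` iff it kills the local classes of the model. -/
theorem kills_HDI_iff (hJ : ∀ j, Module.Injective A (J.X j)) {c : ℤ} (hJc : ∀ j < c, Subsingleton (J.X j))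
    {K : Dual.D A} (e : DerivedCategory.Q.obj J ≅ K) {a : A} :
    (∀ x : Dual2.HDI Bq (IsLocalRing.maximalIdeal Bq) ((extD φ).obj K) i, φ a • x = 0) ↔ LK J q i a := by
  haveI : ∀ j, Injective ((jc q J).X j) := fun j =>
    haveI : Module.Injective Bq ((jc q J).X j) :=
      injective_extendScalars (B := Localization.AtPrime q.asIdeal) q.asIdeal.primeCompl (J.X j) (hJ j)
    Module.injective_object_of_injective_module Bq ((jc q J).X j)
  haveI : (jc q J).IsStrictlyGE c := (CochainComplex.isStrictlyGE_iff _ c).2 fun j hj =>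
    (ModuleCat.extendScalars.{u, u, u} φ).map_isZero
      (haveI := hJc j hj; ModuleCat.isZero_of_subsingleton _)
  haveI : (jc q J).IsKInjective := CochainComplex.isKInjective_of_injective _ c
  let eB : DerivedCategory.Q.obj (jc q J) ≅ (extD φ).obj K :=
    ((ModuleCat.extendScalars.{u, u, u} φ).mapDerivedCategoryFactors.app J).symm ≪≫ (extD φ).mapIso e
  obtain ⟨Φ⟩ := nonempty_equiv_homology (I := IsLocalRing.maximalIdeal Bq) (i := i) eB
  rw [← kills_homology_iff]
  exact ⟨fun h x => Φ.symm.injective (by rw [map_smul, h, map_zero]),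
    fun h x => Φ.injective (by rw [map_smul, h, map_zero])⟩

end Groth.Agent.CAlgH3.DT
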