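import Groth.Agent.CAlgH3.DT.CompleteVanish
import Groth.Agent.CAlgH3.DT.FibrePoint
import Groth.Agent.LocCoh.HLV

/-! Top local cohomology over an `I`-adically complete local ring. -/

set_option autoImplicit false
set_option backward.isDefEq.respectTransparency false
set_option linter.style.haveILetI false

universe u

open IsLocalRing

namespace Groth.Agent.CAlgH3.DT

variable {R : Type u} [CommRing R] [IsLocalRing R] [IsNoetherianRing R]

/-- Vanishing for an `I`-adically complete local domain whose special fibre is not the closed point. -/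
theorem subsingleton_H_domain [IsDomain R] (I : Ideal R) (hI : I ≤ maximalIdeal R) [IsAdicComplete I R] {d : ℕ}
    (hd : ringKrullDim R = d) (Q : Ideal R) [Q.IsPrime] (hIQ : I ≤ Q) (hQ : Q ≠ maximalIdeal R) :
    Subsingleton (_root_.LocCoh.H I d R) := by
  let C := AdicCompletion (maximalIdeal R) R
  haveI := Matlis6.isNoetherianRing_adicCompletion (maximalIdeal R)
  haveI : Module.Flat R C := AdicCompletion.flat_of_isNoetherian (maximalIdeal R)
  haveI : Module.FaithfullyFlat R C := Module.FaithfullyFlat.of_flat_of_isLocalHom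
  refine LocCoh.hartshorne_lichtenbaum I d hd (fun p hp _ => ?_) R d le_rfl
  haveI : p.IsPrime := hp.1.1
  by_contra hlt
  let P : PrimeSpectrum C := ⟨p, hp.1.1⟩
  have hu : P.asIdeal.under R = ⊥ := by
    by_contra hne
    haveI : Algebra.HasGoingDown R C := inferInstance
    obtain ⟨q, hqle, hq, hqo⟩ := Ideal.exists_ideal_le_liesOver_of_le (S := C) P.asIdeal
      (show (⊥ : Ideal R) ≤ P.asIdeal.under R from bot_le)
    haveI := hq
    have := hp.2 ⟨hq, bot_le⟩ hqle
    exact hne (le_bot_iff.1 ((Ideal.comap_mono this).trans hqo.over.ge))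
  have hfib : fibDepth R P = 0 := fibDepth_eq_zero P (by
    rw [hu, Ideal.map_bot]
    exact hp)
  obtain ⟨P', hP'u, -, hmax⟩ := exists_fibre_point I hI P hfib fun q hPq hIq => by
    by_contra hne
    refine hlt ?_
    rw [ringKrullDim_quotient, Order.one_le_krullDim_iff]
    refine ⟨⟨q, sup_le hIq hPq⟩, ⟨closedPoint C, ?_⟩, ?_⟩
    · exact (sup_le hIq hPq).trans (le_maximalIdeal q.2.ne_top)
    · exact lt_of_le_of_ne (le_maximalIdeal q.2.ne_top : q.asIdeal ≤ (closedPoint C).asIdeal) fun e =>
        hne (congrArg (fun z => z.1.asIdeal) e)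
  let B := AdicCompletion I R
  have hb : Function.Bijective (algebraMap R B) := AdicCompletion.of_bijective_iff.2 inferInstance
  let e : R ≃+* B := RingEquiv.ofBijective (algebraMap R B) hb
  have hP'0 : P'.asIdeal = ⊥ := by
    rw [← Ideal.map_comap_of_surjective (algebraMap R B) hb.2 P'.asIdeal]
    show Ideal.map _ (P'.asIdeal.under R) = ⊥
    rw [hP'u, hu, Ideal.map_bot]
  haveI : (Q.map (algebraMap R B)).IsPrime := Ideal.map_isPrime_of_equiv e
  haveI hm := hmax ⟨Q.map (algebraMap R B), inferInstance⟩ (show P'.asIdeal ≤ _ by rw [hP'0]; exact bot_le)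
    (Ideal.map_mono hIQ)
  refine hQ (eq_maximalIdeal ?_)
  rw [← Ideal.comap_map_of_bijective (algebraMap R B) hb (I := Q)]
  exact Ideal.comap_isMaximal_of_surjective _ hb.2

/-- Top degree vanishing of a finite module. -/
theorem subsingleton_H_of_nonT (I : Ideal R) (hI : I ≤ maximalIdeal R) [IsAdicComplete I R] {e : ℕ} (he : 1 ≤ e)
    {N : Type u} [AddCommGroup N] [Module R N] [Module.Finite R N]
    (h : ∀ p ∈ Module.support R N, I ≤ p.asIdeal ∨ ringKrullDim (R ⧸ p.asIdeal) < (e : WithBot ℕ∞) ∨
      (ringKrullDim (R ⧸ p.asIdeal) = (e : WithBot ℕ∞) ∧ ¬ IsTPoint I p)) :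
    Subsingleton (_root_.LocCoh.H I e N) := by
  have hp : ∀ p : PrimeSpectrum R, (I ≤ p.asIdeal ∨ ringKrullDim (R ⧸ p.asIdeal) < (e : WithBot ℕ∞) ∨
      (ringKrullDim (R ⧸ p.asIdeal) = (e : WithBot ℕ∞) ∧ ¬ IsTPoint I p)) →
      Subsingleton (_root_.LocCoh.H I e (R ⧸ p.asIdeal)) := by
    rintro ⟨p, hp⟩ (h1 | h1 | ⟨h1, h2⟩)
    · refine LocCoh.subsingleton_H_of_powerTorsion e _ (fun x => ⟨1, fun a ha => ?_⟩) (by omega)
      obtain ⟨x, rfl⟩ := Submodule.Quotient.mk_surjective _ x
      rw [pow_one] at ha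
      rw [← Submodule.Quotient.mk_smul, Submodule.Quotient.mk_eq_zero]
      exact Ideal.mul_mem_right _ _ (h1 ha)
    · exact LocCoh.subsingleton_H_of_supportDim_lt (by rwa [Module.supportDim_quotient_eq_ringKrullDim])
    · haveI : IsLocalRing (R ⧸ p) :=
        IsLocalRing.of_surjective' (Ideal.Quotient.mk p) Ideal.Quotient.mk_surjective
      have hmap : (maximalIdeal R).map (algebraMap R (R ⧸ p)) = maximalIdeal (R ⧸ p) :=
        IsLocalRing.map_maximalIdeal_of_surjective _ Ideal.Quotient.mk_surjective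
      haveI : IsAdicComplete (I.map (algebraMap R (R ⧸ p))) (R ⧸ p) :=
        (IsAdicComplete.map_algebraMap_iff _ _).2 (AdicRing.isAdicComplete_of_finite _ _)
      simp only [IsTPoint, not_forall] at h2
      obtain ⟨P, hpP, hIP, hne⟩ := h2
      haveI : (P.asIdeal.map (Ideal.Quotient.mk p)).IsPrime :=
        Ideal.map_isPrime_of_surjective Ideal.Quotient.mk_surjective (by rw [Ideal.mk_ker]; exact hpP)
      obtain ⟨φ, -⟩ := LocCoh.exists_H_independence R (R ⧸ p) I e (R ⧸ p)
      haveI : Subsingleton (_root_.LocCoh.H (I.map (algebraMap R (R ⧸ p))) e (R ⧸ p)) := by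
        refine subsingleton_H_domain (I.map (algebraMap R (R ⧸ p))) ((Ideal.map_mono hI).trans hmap.le) h1
          (P.asIdeal.map (Ideal.Quotient.mk p)) (Ideal.map_mono hIP) fun hc => hne (PrimeSpectrum.ext ?_)
        show P.asIdeal = maximalIdeal R
        have hc' := congrArg (Ideal.comap (Ideal.Quotient.mk p)) (hc.trans hmap.symm)
        rwa [Ideal.Quotient.algebraMap_eq, Ideal.comap_map_of_surjective _ Ideal.Quotient.mk_surjective,
          Ideal.comap_map_of_surjective _ Ideal.Quotient.mk_surjective, ← RingHom.ker_eq_comap_bot, Ideal.mk_ker,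
          sup_eq_left.2 (show p ≤ P.asIdeal from hpP), sup_eq_left.2 (le_maximalIdeal hp.ne_top)] at hc'
      exact φ.symm.toEquiv.subsingleton
  suffices H : ∀ (M : Type u) [AddCommGroup M] [Module R M] [Module.Finite R M],
      Module.support R M ⊆ Module.support R N → Subsingleton (_root_.LocCoh.H I e M) from H N subset_rfl
  intro M _ _ hM
  induction hM using IsNoetherianRing.induction_on_isQuotientEquivQuotientPrime R with
  | subsingleton M => exact fun _ => LocCoh.subsingleton_H_of_subsingleton e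
  | quotient M p ε =>
    intro hs
    haveI := hp p (h p (hs ((LinearEquiv.support_eq ε).symm ▸
      (Module.mem_support_iff_of_finite.2 (by rw [Ideal.annihilator_quotient])))))
    exact (LocCoh.Hequiv I e ε).toEquiv.subsingleton
  | exact N₁ N₂ N₃ f g hf hg hfg h₁ h₃ =>
    intro hs
    haveI := h₁ ((Module.support_subset_of_injective f hf).trans hs)
    haveI := h₃ ((Module.support_subset_of_surjective g hg).trans hs)
    exact LocCoh.subsingleton_mid hf hg hfg e

end Groth.Agent.CAlgH3.DT
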