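import Groth.Agent.CAlgH3.DT.CompletedModel
import Groth.Agent.CAlgH3.CohenMacaulay

/-! Completed local cohomology vanishes at a prime where it is torsion and the depth is large enough. -/

set_option autoImplicit false
set_option backward.isDefEq.respectTransparency false
set_option backward.isDefEq.respectTransparency.types false
set_option backward.defeqAttrib.useBackward true
set_option linter.style.haveILetI false

universe u

open CategoryTheory CategoryTheory.Limits

attribute [local instance] HasDerivedCategory.standard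

namespace Groth.Agent.CAlgH3.DT

open scoped Pointwise

variable {A : Type u} [CommRing A] (I : Ideal A) (t : List A) (p : PrimeSpectrum A)

/-- The cohomology vanishes at `p`. -/
def Van (M : ModuleCat.{u} A) (i : ℤ) : Prop := ∀ z : CH I t M i, ∃ g ∉ p.asIdeal, g • z = 0

/-- The cohomology is torsion at `p`. -/
def TorP (M : ModuleCat.{u} A) (i : ℤ) : Prop :=
  ∀ z : CH I t M i, ∀ a ∈ p.asIdeal, ∃ (g : A) (k : ℕ), g ∉ p.asIdeal ∧ g • a ^ k • z = 0

theorem van_of_neg (M : ModuleCat.{u} A) (i : ℤ) (hi : i < 0) : Van I t p M i := fun z =>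
  haveI := subsingleton_ch_of_neg I t M i hi
  ⟨1, p.2.one_notMem, Subsingleton.elim _ _⟩

theorem van_mid {X Y Z : ModuleCat.{u} A} {g : X ⟶ Y} {h : Y ⟶ Z} (H : Good I g h) (i : ℤ)
    (hX : Van I t p X i) (hZ : Van I t p Z i) : Van I t p Y i := fun y => by
  obtain ⟨u, hu, h0⟩ := hZ (chMap I t h i y)
  rw [← map_smul] at h0
  obtain ⟨x, hx⟩ := exists_ch_middle I t H i _ h0
  obtain ⟨v, hv, h1⟩ := hX x
  refine ⟨v * u, fun h => (p.2.mem_or_mem h).elim hv hu, ?_⟩
  rw [mul_smul, ← hx, ← map_smul, h1, map_zero]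

variable [IsNoetherianRing A]

theorem van_of_killed_pow : ∀ (k : ℕ) (j : ℤ),
    (∀ (K : Type u) [AddCommGroup K] [Module A K] [Module.Finite A K], (∀ a ∈ p.asIdeal, ∀ x : K, a • x = 0) →
      Van I t p (ModuleCat.of A K) j) →
    ∀ (K : Type u) [AddCommGroup K] [Module A K] [Module.Finite A K] (g : A), g ∉ p.asIdeal →
      (∀ a ∈ p.asIdeal ^ k, ∀ x : K, g • a • x = 0) → Van I t p (ModuleCat.of A K) j
  | 0, j, _, K, _, _, _, g, hg, hk, z =>
    ⟨g, hg, smul_ch_eq_zero I t _ g (fun x => by
      have h := hk 1 (by rw [pow_zero, Ideal.one_eq_top]; trivial) x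
      rwa [one_smul] at h) j z⟩
  | k + 1, j, hbase, K, _, _, _, g, hg, hk, z => by
    let P : Submodule A K := p.asIdeal • ⊤
    haveI : Module.Finite A P := Module.Finite.of_fg (IsNoetherian.noetherian _)
    have hgood : Good I (ModuleCat.ofHom P.subtype) (ModuleCat.ofHom P.mkQ) :=
      good_of_finite I (X := ModuleCat.of A P) (Y := ModuleCat.of A K) (Z := ModuleCat.of A (K ⧸ P)) _ _
        (Submodule.injective_subtype _) (LinearMap.exact_subtype_mkQ _) (Submodule.mkQ_surjective _)
    refine van_mid I t p hgood j (van_of_killed_pow k j hbase P g hg fun a ha x => Subtype.ext ?_) (hbase (K ⧸ P) ?_) z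
    · show g • a • (x : K) = 0
      refine Submodule.smul_induction_on (p := fun y => g • a • y = 0) x.2 (fun b hb y _ => ?_) fun u v hu hv => ?_
      · rw [← mul_smul a b y]
        exact hk _ (pow_succ p.asIdeal k ▸ Ideal.mul_mem_mul ha hb) y
      · rw [smul_add, smul_add, hu, hv, add_zero]
    · intro a ha x
      obtain ⟨y, rfl⟩ := Submodule.mkQ_surjective _ x
      rw [← map_smul]
      exact (Submodule.Quotient.mk_eq_zero _).2 (Submodule.smul_mem_smul ha Submodule.mem_top)

/-- The sections killed by a power of `p` at `p`. -/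
def gamP (N : Type u) [AddCommGroup N] [Module A N] : Submodule A N where
  carrier := {x | ∃ (g : A) (k : ℕ), g ∉ p.asIdeal ∧ ∀ a ∈ p.asIdeal ^ k, g • a • x = 0}
  zero_mem' := ⟨1, 0, p.2.one_notMem, fun a _ => by rw [smul_zero, smul_zero]⟩
  add_mem' := by
    rintro x y ⟨g, k, hg, hx⟩ ⟨g', k', hg', hy⟩
    refine ⟨g * g', k + k', fun h => (p.2.mem_or_mem h).elim hg hg', fun a ha => ?_⟩
    rw [smul_add, smul_add, mul_smul g g' (a • y), hy a (Ideal.pow_le_pow_right (Nat.le_add_left k' k) ha), smul_zero,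
      add_zero, mul_comm, mul_smul, hx a (Ideal.pow_le_pow_right (Nat.le_add_right k k') ha), smul_zero]
  smul_mem' := by
    rintro c x ⟨g, k, hg, hx⟩
    exact ⟨g, k, hg, fun a ha => by rw [smul_comm a c, smul_comm g c, hx a ha, smul_zero]⟩

theorem exists_gamP_bound (N : Type u) [AddCommGroup N] [Module A N] [Module.Finite A N] :
    ∃ (g : A) (k : ℕ), g ∉ p.asIdeal ∧ ∀ a ∈ p.asIdeal ^ k, ∀ x ∈ gamP p N, g • a • x = 0 := by
  obtain ⟨G, hG⟩ := IsNoetherian.noetherian (gamP p N)
  have hex : ∀ x ∈ G, ∃ gk : A × ℕ, gk.1 ∉ p.asIdeal ∧ ∀ a ∈ p.asIdeal ^ gk.2, gk.1 • a • x = 0 := fun x hx => by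
    obtain ⟨g, k, h⟩ := (hG ▸ Submodule.subset_span hx : x ∈ gamP p N)
    exact ⟨(g, k), h⟩
  choose! gk hg hk using hex
  classical
  refine ⟨∏ x ∈ G, (gk x).1, G.sup fun x => (gk x).2, fun h => ?_, fun a ha x hx => ?_⟩
  · obtain ⟨x, hx, hx'⟩ := (Ideal.IsPrime.prod_mem_iff (hp := p.2)).1 h
    exact hg x hx hx'
  · rw [← hG] at hx
    induction hx using Submodule.span_induction with
    | mem x hx =>
      obtain ⟨c, hc⟩ := Finset.dvd_prod_of_mem (fun x => (gk x).1) hx
      rw [hc, mul_comm, mul_smul, hk x hx a (Ideal.pow_le_pow_right (Finset.le_sup (f := fun x => (gk x).2) hx) ha),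
        smul_zero]
    | zero => rw [smul_zero, smul_zero]
    | add x y _ _ hx hy => rw [smul_add, smul_add, hx, hy, add_zero]
    | smul c x _ hx => rw [smul_comm a c, smul_comm _ c, hx, smul_zero]

/-- With positive depth there are no sections killed by powers of `p`. -/
theorem gamP_killed (N : Type u) [AddCommGroup N] [Module A N] [Module.Finite A N]
    (h : (1 : ℕ∞) ≤ _root_.LocCoh.depth (Localization.AtPrime p.asIdeal) (LocalizedModule p.asIdeal.primeCompl N))
    (x : N) (hx : x ∈ gamP p N) : LocalizedModule.mkLinearMap p.asIdeal.primeCompl N x = 0 := by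
  let B := Localization.AtPrime p.asIdeal
  let f := LocalizedModule.mkLinearMap p.asIdeal.primeCompl N
  rcases subsingleton_or_nontrivial (LocalizedModule p.asIdeal.primeCompl N) with hs | hn
  · exact Subsingleton.elim _ _
  haveI : IsNoetherianRing B := IsLocalization.isNoetherianRing p.asIdeal.primeCompl B inferInstance
  haveI : Module.Finite B (LocalizedModule p.asIdeal.primeCompl N) :=
    Module.Finite.of_isLocalizedModule p.asIdeal.primeCompl f
  obtain ⟨b, hb, hreg⟩ := CAlgH3.exists_regular_of_one_le_depth (R := B) h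
  obtain ⟨a, u, rfl⟩ := IsLocalization.exists_mk'_eq p.asIdeal.primeCompl b
  obtain ⟨g, k, hg, hk⟩ := hx
  have ha : a ∈ p.asIdeal := (IsLocalization.AtPrime.mk'_mem_maximal_iff B p.asIdeal a u).1 hb
  have h1 : g • a ^ k • f x = 0 := by rw [← map_smul, ← map_smul, hk _ (Ideal.pow_mem_pow ha k), map_zero]
  have h2 : ((IsLocalization.mk' B a u : B) ^ k) • f x = 0 := by
    have hu : IsUnit (algebraMap A B g * algebraMap A B (u : A) ^ k) :=
      (IsLocalization.map_units B (⟨g, hg⟩ : p.asIdeal.primeCompl)).mul ((IsLocalization.map_units B u).pow k)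
    refine hu.smul_left_cancel.1 ?_
    rw [smul_zero, smul_smul, mul_assoc, ← mul_pow, mul_comm (algebraMap A B (u : A)), IsLocalization.mk'_spec,
      ← map_pow, mul_smul, algebraMap_smul, algebraMap_smul, h1]
  exact (hreg.pow k).right_eq_zero_of_smul h2

/-- An element of `p` regular on the quotient. -/
theorem exists_regular_quot (N : Type u) [AddCommGroup N] [Module A N] [Module.Finite A N] :
    ∃ x ∈ p.asIdeal, IsSMulRegular (N ⧸ gamP p N) x := by
  obtain ⟨g₀, k₀, hg₀, hk₀⟩ := exists_gamP_bound p N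
  by_contra h
  push Not at h
  have hle : (p.asIdeal : Set A) ⊆ ⋃ P ∈ ((associatedPrimes.finite A (N ⧸ gamP p N)).toFinset : Set (Ideal A)), id P := by
    intro x hx
    rw [Set.Finite.coe_toFinset]
    simp only [id_eq]
    rw [biUnion_associatedPrimes_eq_zero_divisors]
    have hnot := h x hx
    rw [isSMulRegular_iff_right_eq_zero_of_smul] at hnot
    push Not at hnot
    obtain ⟨m, hm1, hm2⟩ := hnot
    exact ⟨m, hm2, hm1⟩
  obtain ⟨P, hP, hpP⟩ := (Ideal.subset_union_prime ⊥ ⊥ (fun q hq _ _ =>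
    IsAssociatedPrime.isPrime ((associatedPrimes.finite A _).mem_toFinset.1 hq))).1 hle
  rw [Set.Finite.mem_toFinset] at hP
  haveI : P.IsPrime := IsAssociatedPrime.isPrime hP
  obtain ⟨-, f, hf⟩ := (isAssociatedPrime_iff_exists_injective_linearMap P (N ⧸ gamP p N)).1 hP
  obtain ⟨y, hy⟩ := Submodule.mkQ_surjective _ (f (Submodule.Quotient.mk 1))
  have hy' : y ∈ gamP p N := by
    refine ⟨g₀, k₀ + 1, hg₀, fun a ha => ?_⟩
    rw [pow_succ] at ha
    induction ha using Submodule.mul_induction_on' with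
    | mem_mul_mem c hc b hb =>
      rw [mul_smul]
      refine hk₀ c hc _ ?_
      rw [← Submodule.Quotient.mk_eq_zero, Submodule.Quotient.mk_smul, ← Submodule.mkQ_apply, hy, ← map_smul,
        ← Submodule.Quotient.mk_smul, smul_eq_mul, mul_one,
        (Submodule.Quotient.mk_eq_zero P).2 (hpP hb), map_zero]
    | add u _ v _ hu hv => rw [add_smul, smul_add, hu, hv, add_zero]
  have h1 : f (Submodule.Quotient.mk 1) = 0 := by
    rw [← hy, Submodule.mkQ_apply, Submodule.Quotient.mk_eq_zero]
    exact hy'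
  exact IsAssociatedPrime.isPrime hP |>.ne_top ((Ideal.eq_top_iff_one P).2
    ((Submodule.Quotient.mk_eq_zero P).1 (hf (h1.trans (map_zero f).symm))))

/-- The key vanishing. -/
theorem van_of_torP : ∀ (m : ℕ) (N : Type u) [AddCommGroup N] [Module A N] [Module.Finite A N] (n : ℕ) (T : ℤ),
    T < m → (n : ℕ∞) ≤ _root_.LocCoh.depth (Localization.AtPrime p.asIdeal) (LocalizedModule p.asIdeal.primeCompl N) →
    (∀ (K : Type u) [AddCommGroup K] [Module A K] [Module.Finite A K], (∀ a ∈ p.asIdeal, ∀ x : K, a • x = 0) →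
      ∀ j : ℤ, j ≤ T - n → Van I t p (ModuleCat.of A K) j) →
    (∀ j : ℤ, j ≤ T → TorP I t p (ModuleCat.of A N) j) →
    ∀ j : ℤ, j ≤ T → Van I t p (ModuleCat.of A N) j
  | 0, N, _, _, _, n, T, hT, _, _, _, j, hj => van_of_neg I t p _ j (by omega)
  | m + 1, N, _, _, _, n, T, hT, hn, hK, htor, j, hj => by
    let Γ := gamP p N
    haveI : Module.Finite A Γ := Module.Finite.of_fg (IsNoetherian.noetherian _)
    let N' := N ⧸ Γ
    obtain ⟨g₀, k₀, hg₀, hk₀⟩ := exists_gamP_bound p N
    have hΓk : ∀ a ∈ p.asIdeal ^ k₀, ∀ x : Γ, g₀ • a • x = 0 := fun a ha x => Subtype.ext (hk₀ a ha x.1 x.2)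
    obtain ⟨x, hxp, hxr⟩ := exists_regular_quot p N
    let Q := QuotSMulTop x N'
    have h1 : Good I (ModuleCat.ofHom Γ.subtype) (ModuleCat.ofHom Γ.mkQ) :=
      good_of_finite I (X := ModuleCat.of A Γ) (Y := ModuleCat.of A N) (Z := ModuleCat.of A N') _ _
        (Submodule.injective_subtype _) (LinearMap.exact_subtype_mkQ _) (Submodule.mkQ_surjective _)
    let μ : ModuleCat.of A N' ⟶ ModuleCat.of A N' := ModuleCat.ofHom (x • LinearMap.id)
    let π : ModuleCat.of A N' ⟶ ModuleCat.of A Q := ModuleCat.ofHom (x • (⊤ : Submodule A N')).mkQ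
    have h2 : Good I μ π := good_of_finite I μ π hxr (fun y => by
      show (x • (⊤ : Submodule A N')).mkQ y = 0 ↔ _
      rw [Submodule.mkQ_apply, Submodule.Quotient.mk_eq_zero, Submodule.mem_smul_pointwise_iff_exists]
      exact ⟨fun ⟨z, _, hz⟩ => ⟨z, hz⟩, fun ⟨z, hz⟩ => ⟨z, Submodule.mem_top, hz⟩⟩) (Submodule.mkQ_surjective _)
    -- the sections killed by powers of `p`
    have hΓ : ∀ i : ℤ, i ≤ T → Van I t p (ModuleCat.of A Γ) i := by
      intro i hi
      rcases Nat.eq_zero_or_pos n with rfl | hn0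
      · exact van_of_killed_pow I t p k₀ i (fun K _ _ _ hKp => hK K hKp i (by omega)) Γ g₀ hg₀ hΓk
      · intro z
        obtain ⟨G, hG⟩ := IsNoetherian.noetherian Γ
        have hex : ∀ y ∈ G, ∃ g ∉ p.asIdeal, g • y = 0 := fun y hy => by
          obtain ⟨g, hg⟩ := LocalizedModule.mem_ker_mkLinearMap_iff.1
            (LinearMap.mem_ker.2 (gamP_killed p N ((Nat.one_le_cast.2 hn0).trans hn) y (hG.le (Submodule.subset_span hy))))
          exact ⟨g, hg.1, hg.2⟩
        choose! g hg hgy using hex
        classical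
        refine ⟨∏ y ∈ G, g y, fun h => ?_, smul_ch_eq_zero I t _ _ (fun y => Subtype.ext ?_) i z⟩
        · obtain ⟨y, hy, hy'⟩ := (Ideal.IsPrime.prod_mem_iff (hp := p.2)).1 h
          exact hg y hy hy'
        · show (∏ y ∈ G, g y) • (y : N) = 0
          have hy : (y : N) ∈ Submodule.span A (G : Set N) := hG.ge y.2
          generalize (y : N) = y' at hy ⊢
          induction hy using Submodule.span_induction with
          | mem y hy =>
            obtain ⟨c, hc⟩ := Finset.dvd_prod_of_mem g hy
            rw [hc, mul_comm, mul_smul, hgy y hy, smul_zero]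
          | zero => rw [smul_zero]
          | add u v _ _ hu hv => rw [smul_add, hu, hv, add_zero]
          | smul c u _ hu => rw [smul_comm, hu, smul_zero]
    -- torsion passes to the quotients
    have htor' : ∀ i : ℤ, i ≤ T → TorP I t p (ModuleCat.of A N') i := by
      intro i hi z a ha
      obtain ⟨δ, -, hδ⟩ := exists_les I t h1 i (i + 1) rfl
      obtain ⟨w, hw⟩ := (hδ ((g₀ * a ^ k₀) • z)).1 (by
        rw [map_smul, smul_ch_eq_zero I t _ _ (fun y => by
          rw [mul_smul]; exact hΓk _ (Ideal.pow_mem_pow ha k₀) y) (i + 1) (δ z)])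
      obtain ⟨g, k, hg, h0⟩ := htor i hi w a ha
      refine ⟨g * g₀, k + k₀, fun h => (p.2.mem_or_mem h).elim hg hg₀, ?_⟩
      have h3 := congrArg (chMap I t (ModuleCat.ofHom Γ.mkQ) i) h0
      rw [map_smul, map_smul, hw, map_zero, smul_smul, smul_smul] at h3
      rw [smul_smul, ← h3]
      congr 1
      ring
    have htorQ : ∀ i : ℤ, i ≤ T - 1 → TorP I t p (ModuleCat.of A Q) i := by
      intro i hi z a ha
      obtain ⟨δ, -, hδ⟩ := exists_les I t h2 i (i + 1) rfl
      obtain ⟨g, k, hg, h0⟩ := htor' (i + 1) (by omega) (δ z) a ha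
      rw [smul_smul, ← map_smul] at h0
      obtain ⟨w, hw⟩ := (hδ _).1 h0
      obtain ⟨g', k', hg', h0'⟩ := htor' i (by omega) w a ha
      refine ⟨g' * g, k' + k, fun h => (p.2.mem_or_mem h).elim hg' hg, ?_⟩
      have h3 := congrArg (chMap I t π i) h0'
      rw [map_smul, map_smul, hw, map_zero, smul_smul, smul_smul] at h3
      rw [smul_smul, ← h3]
      congr 1
      ring
    have hdepth : ((n - 1 : ℕ) : ℕ∞) ≤
        _root_.LocCoh.depth (Localization.AtPrime p.asIdeal) (LocalizedModule p.asIdeal.primeCompl Q) := by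
      rcases Nat.eq_zero_or_pos n with rfl | hn0
      · simp
      let B := Localization.AtPrime p.asIdeal
      haveI : IsNoetherianRing B := IsLocalization.isNoetherianRing p.asIdeal.primeCompl B inferInstance
      haveI : Module.Finite B (LocalizedModule p.asIdeal.primeCompl N') :=
        Module.Finite.of_isLocalizedModule p.asIdeal.primeCompl (LocalizedModule.mkLinearMap p.asIdeal.primeCompl N')
      have hbij : Function.Bijective (LocalizedModule.map p.asIdeal.primeCompl Γ.mkQ) := by
        refine ⟨(injective_iff_map_eq_zero _).2 fun y hy => ?_,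
          LocalizedModule.map_surjective p.asIdeal.primeCompl _ (Submodule.mkQ_surjective _)⟩
        induction y using LocalizedModule.induction_on with | _ y u => ?_
        rw [LocalizedModule.map_mk] at hy
        obtain ⟨v, hv⟩ := LocalizedModule.mem_ker_mkLinearMap_iff.1 (LinearMap.mem_ker.2
          (show LocalizedModule.mkLinearMap p.asIdeal.primeCompl N' (Γ.mkQ y) = 0 by
            have h4 := congrArg (fun w => (u : A) • w) hy
            simp only [smul_zero] at h4
            rw [← h4, LocalizedModule.smul'_mk, LocalizedModule.mkLinearMap_apply]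
            exact (LocalizedModule.mk_cancel u _).symm))
        have hvy : v • y ∈ Γ := (Submodule.Quotient.mk_eq_zero _).1 hv.2
        obtain ⟨w, hw⟩ := LocalizedModule.mem_ker_mkLinearMap_iff.1 (LinearMap.mem_ker.2
          (gamP_killed p N ((Nat.one_le_cast.2 hn0).trans hn) _ hvy))
        rw [← LocalizedModule.zero_mk u]
        exact LocalizedModule.mk_eq.2 ⟨⟨w * v, mul_mem hw.1 hv.1⟩, by
          show (w * v) • ((u : A) • y) = (w * v) • ((u : A) • (0 : N))
          rw [smul_zero, smul_zero, smul_comm, mul_smul, hw.2, smul_zero]⟩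
      have hd : (n : ℕ∞) ≤ _root_.LocCoh.depth B (LocalizedModule p.asIdeal.primeCompl N') :=
        hn.trans (CAlgH3.depth_congr (LinearEquiv.ofBijective _ hbij)).le
      rw [← CAlgH3.depth_quotSMulTop_add_one (R := B)
        ((IsLocalization.AtPrime.to_map_mem_maximal_iff B p.asIdeal x).2 hxp)
        (CAlgH3.isSMulRegular_localization hxr p.asIdeal),
        CAlgH3.depth_congr (CAlgH3.localizedQuotSMulTop p.asIdeal N' x), show n = (n - 1) + 1 by omega] at hd
      exact CAlgH3.natCast_add_one_le_iff.1 hd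
    have hQ := van_of_torP m Q (n - 1) (T - 1) (by omega) hdepth
      (fun K _ _ _ hKp i hi => hK K hKp i (by omega)) htorQ
    refine van_mid I t p h1 j (hΓ j hj) fun z => ?_
    obtain ⟨g, k, hg, hz⟩ := htor' j hj z x hxp
    induction k generalizing g with
    | zero =>
      rw [pow_zero, one_smul] at hz
      exact ⟨g, hg, hz⟩
    | succ k ih =>
      obtain ⟨δ, hδ, -⟩ := exists_les I t h2 (j - 1) j (by omega)
      obtain ⟨v, hv⟩ := (hδ (g • x ^ k • z)).1 (by
        rw [chMap_smul I t μ x (fun y => rfl), smul_comm x g, ← mul_smul x, ← pow_succ']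
        exact hz)
      obtain ⟨g', hg', hv0⟩ := hQ (j - 1) (by omega) v
      refine ih (g' * g) (fun h => (p.2.mem_or_mem h).elim hg' hg) ?_
      rw [mul_smul, ← hv, ← map_smul, hv0, map_zero]

end Groth.Agent.CAlgH3.DT
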