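import Groth.Agent.CAlgH3.DT.PHT
import Groth.Agent.CAlgH3.DT.Module
import Groth.Agent.CAlgH3.GammaQuot
import Groth.Agent.CAlgH3.CohenMacaulay
import Mathlib.RingTheory.Flat.Localization

/-! A finite module of depth two along a specialisation closed set. -/

set_option autoImplicit false
set_option backward.isDefEq.respectTransparency false
set_option linter.style.haveILetI false

universe u

open CategoryTheory CategoryTheory.Limits CategoryTheory.Abelian

attribute [local instance] HasDerivedCategory.standard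

namespace Groth.Agent.CAlgH3.DT

open GammaQuot (gam mem_gam)
open Groth.Agent.LocCoh (toH toH_eq_zero_iff exists_toH quot δ)

section Kill

variable {A : Type u} [CommRing A] [IsNoetherianRing A] {T : Set (PrimeSpectrum A)} {M : Type u} [AddCommGroup M]
  [Module A M]

/-- If `a` kills `H¹_T(M)` and `M` has no sections in `T`, then `a` moves torsion of `M/bM` into zero. -/
theorem mem_smul_of_kills (hgam : gam T M = ⊥) {a b : A} (hb : IsSMulRegular M b)
    (ha : ∀ x : Dual2.HT T 1 M, a • x = 0) {m : M} (K : Dual2.IdealsIn T)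
    (hK : ∀ r ∈ K.obj, ∃ m', b • m' = r • m) : ∃ m', b • m' = a • m := by
  haveI := isFiltered (A := A) T
  let F := Dual2.idealsInDiagram T
  let μ : M →ₗ[A] M := b • LinearMap.id
  let P := M ⧸ LinearMap.range μ
  let π : M →ₗ[A] P := (LinearMap.range μ).mkQ
  have hS := Groth.Agent.LocCoh.shortExact_of (f := μ) (g := π) hb (Submodule.mkQ_surjective _)
    (LinearMap.exact_map_mkQ_range μ)
  have hz : ∀ r ∈ K.obj, r • (Submodule.Quotient.mk m : P) = 0 := fun r hr => by
    obtain ⟨m', hm'⟩ := hK r hr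
    rw [← Submodule.Quotient.mk_smul, Submodule.Quotient.mk_eq_zero]
    exact ⟨m', hm'⟩
  let f : quot F K ⟶ ModuleCat.of A P := ModuleCat.ofHom
    (Submodule.liftQ K.obj (LinearMap.toSpanSingleton A P (Submodule.Quotient.mk m)) hz)
  let x : (Groth.Agent.LocCoh.Hf F 0).obj (ModuleCat.of A P) := toH K 0 (ModuleCat.of A P) (Ext.mk₀ f)
  have h1 : δ F hS (zero_add 1) (a • x) = 0 := by
    rw [map_smul]
    exact ha _
  obtain ⟨z, hz'⟩ := (Groth.Agent.LocCoh.exact₃ (F := F) hS (zero_add 1) _).1 h1
  have h2 : a • x = 0 := by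
    rw [← hz']
    suffices z = 0 by rw [this, map_zero]
    obtain ⟨d, z, rfl⟩ := exists_toH z
    obtain ⟨g, rfl⟩ : ∃ g, Ext.mk₀ g = z := ⟨_, Ext.mk₀_addEquiv₀_apply z⟩
    suffices g = 0 by rw [this, Ext.mk₀_zero, map_zero]
    refine ModuleCat.hom_ext (Submodule.linearMap_qext _ (LinearMap.ext_ring ?_))
    have hmem : g.hom (Submodule.Quotient.mk 1) ∈ gam T M :=
      gam_of_killed (I := d.obj) d.property fun r hr => mk_one_smul g.hom hr
    rw [hgam, Submodule.mem_bot] at hmem
    exact hmem
  have h3 : toH (F := F) K 0 (ModuleCat.of A P) (Ext.mk₀ (a • f)) = 0 := by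
    rw [Ext.mk₀_smul, map_smul]
    exact h2
  obtain ⟨d', w, hw⟩ := (toH_eq_zero_iff _).1 h3
  rw [Ext.mk₀_comp_mk₀, ← Ext.mk₀_zero] at hw
  have h4 := LinearMap.congr_fun (congrArg ModuleCat.Hom.hom (Ext.homEquiv₀.symm.injective hw))
    (Submodule.Quotient.mk 1)
  replace h4 : a • (f.hom (Submodule.Quotient.mk 1)) = 0 := h4
  replace h4 : a • ((1 : A) • (Submodule.Quotient.mk m : P)) = 0 := h4
  rw [one_smul, ← Submodule.Quotient.mk_smul, Submodule.Quotient.mk_eq_zero] at h4
  obtain ⟨m', hm'⟩ := h4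
  exact ⟨m', hm'⟩

end Kill

section Quot

variable {A : Type u} [CommRing A] (T : Set (PrimeSpectrum A)) (M : Type u) [AddCommGroup M] [Module A M]

theorem gam_quotient : gam T (M ⧸ gam T M) = ⊥ := by
  refine (Submodule.eq_bot_iff _).2 fun x hx => ?_
  obtain ⟨m, rfl⟩ := Submodule.Quotient.mk_surjective _ x
  refine (Submodule.Quotient.mk_eq_zero _).2 ((mem_gam T M).2 fun q hq => ?_)
  obtain ⟨s, hs, hsm⟩ := (mem_gam T _).1 hx q hq
  rw [← Submodule.Quotient.mk_smul, Submodule.Quotient.mk_eq_zero] at hsm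
  obtain ⟨t, ht, htm⟩ := (mem_gam T M).1 hsm q hq
  exact ⟨t * s, q.asIdeal.primeCompl.mul_mem ht hs, by rw [mul_smul]; exact htm⟩

end Quot

section Hull

section
variable (A : Type u) [CommRing A] (M : Type u) [AddCommGroup M] [Module A M]

/-- The regular elements. -/
def regEl : Submonoid A where
  carrier := {a | IsSMulRegular M a}
  one_mem' := IsSMulRegular.one M
  mul_mem' := fun ha hb => ha.mul hb

/-- The module of fractions. -/
abbrev Frac : Type u := LocalizedModule (regEl A M) M

/-- `M → Frac A M`. -/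
noncomputable abbrev toFrac : M →ₗ[A] Frac A M := LocalizedModule.mkLinearMap (regEl A M) M

theorem toFrac_injective : Function.Injective (toFrac A M) := by
  refine (injective_iff_map_eq_zero _).2 fun m hm => ?_
  obtain ⟨s, hs⟩ := (IsLocalizedModule.eq_zero_iff (regEl A M) (toFrac A M)).1 hm
  exact s.2.right_eq_zero_of_smul hs

end

variable {A : Type u} [CommRing A] (T : Set (PrimeSpectrum A)) (M : Type u) [AddCommGroup M] [Module A M]

/-- The fractions that lie in `M` after multiplication by an ideal with zeros in `T`. -/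
noncomputable def hull : Submodule A (Frac A M) where
  carrier := {y | ∃ K : Dual2.IdealsIn T, ∀ r ∈ K.obj, r • y ∈ LinearMap.range (toFrac A M)}
  zero_mem' := ⟨⟨⊤, by simp⟩, fun r _ => by rw [smul_zero]; exact zero_mem _⟩
  add_mem' := fun {a b} ⟨K, hK⟩ ⟨L, hL⟩ => ⟨⟨K.obj ⊓ L.obj,
    (PrimeSpectrum.zeroLocus_inf K.obj L.obj).trans_subset (Set.union_subset K.property L.property)⟩,
    fun r hr => by rw [smul_add]; exact add_mem (hK r hr.1) (hL r hr.2)⟩
  smul_mem' := fun c y ⟨K, hK⟩ => ⟨K, fun r hr => by rw [smul_comm]; exact Submodule.smul_mem _ c (hK r hr)⟩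

/-- The map to the hull. -/
noncomputable def toHull : M →ₗ[A] hull T M :=
  LinearMap.codRestrict _ (toFrac A M) fun m => ⟨⟨⊤, by simp⟩, fun r _ => ⟨r • m, map_smul _ r m⟩⟩

theorem toHull_bijective (p : PrimeSpectrum A) (hp : p ∉ T) :
    Function.Bijective (LocalizedModule.map p.asIdeal.primeCompl (toHull T M)) := by
  refine ⟨LocalizedModule.map_injective _ _ fun a b h => toFrac_injective A M (congrArg Subtype.val h), fun y => ?_⟩
  induction y using LocalizedModule.induction_on with | _ y s => ?_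
  obtain ⟨K, hK⟩ := y.2
  obtain ⟨k, hk, hkp⟩ := SetLike.not_le_iff_exists.1 (fun h => hp (K.property h) : ¬ K.obj ≤ p.asIdeal)
  obtain ⟨m, hm⟩ := hK k hk
  let b : p.asIdeal.primeCompl := ⟨k, hkp⟩
  refine ⟨LocalizedModule.mk m (b * s), ?_⟩
  rw [LocalizedModule.map_mk, show toHull T M m = b • y from Subtype.ext hm]
  exact LocalizedModule.mk_cancel_common_left b s y

variable [IsNoetherianRing A] [Module.Finite A M] {T M}

omit [IsNoetherianRing A] [Module.Finite A M] in
theorem isSMulRegular_frac {a : A} (ha : IsSMulRegular M a) : IsSMulRegular (Frac A M) a := fun x y h =>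
  (IsLocalizedModule.smul_inj (toFrac A M) (⟨a, ha⟩ : regEl A M) x y).1 h

variable (hgam : gam T M = ⊥) {a : A} (ha : IsSMulRegular M a) (hkill : ∀ x : Dual2.HT T 1 M, a • x = 0)
include hgam ha hkill

theorem finite_hull : Module.Finite A (hull T M) := by
  have hmem : ∀ y : hull T M, a • (y : Frac A M) ∈ LinearMap.range (toFrac A M) := by
    rintro ⟨y, K, hK⟩
    obtain ⟨⟨m, b⟩, hy⟩ := IsLocalizedModule.surj (regEl A M) (toFrac A M) y
    replace hy : (b : A) • y = toFrac A M m := hy
    have hrm : ∀ r ∈ K.obj, ∃ m', (b : A) • m' = r • m := fun r hr => by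
      obtain ⟨m', hm'⟩ := hK r hr
      exact ⟨m', toFrac_injective A M (by rw [map_smul, map_smul, hm', smul_comm, hy])⟩
    obtain ⟨m', hm'⟩ := mem_smul_of_kills hgam b.2 hkill K hrm
    refine ⟨m', isSMulRegular_frac b.2 ?_⟩
    show (b : A) • toFrac A M m' = (b : A) • a • y
    rw [← map_smul, hm', map_smul, smul_comm, hy]
  let f : hull T M →ₗ[A] LinearMap.range (toFrac A M) :=
    LinearMap.codRestrict _ (a • (hull T M).subtype) hmem
  haveI : Module.Finite A (LinearMap.range (toFrac A M)) := Module.Finite.range (toFrac A M)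
  haveI : IsNoetherian A (LinearMap.range (toFrac A M)) := isNoetherian_of_isNoetherianRing_of_finite A _
  exact Module.Finite.of_injective f fun x y h =>
    Subtype.ext (isSMulRegular_frac ha (congrArg Subtype.val h))

omit hkill ha in
theorem two_le_depth_hull [Module.Finite A (hull T M)] (hT : StableUnderSpecialization T) (p : PrimeSpectrum A)
    (hp : p ∈ T) :
    2 ≤ _root_.LocCoh.depth (Localization.AtPrime p.asIdeal) (LocalizedModule p.asIdeal.primeCompl (hull T M)) := by
  obtain ⟨b, hbp, hb⟩ : ∃ b ∈ p.asIdeal, IsSMulRegular M b := by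
    by_contra h
    push Not at h
    have hsub : (p.asIdeal : Set A) ⊆ ⋃ q ∈ associatedPrimes A M, (q : Set A) := fun x hx => by
      rw [biUnion_associatedPrimes_eq_compl_regular]; exact h x hx
    obtain ⟨q, hq, hle⟩ := (Ideal.subset_union_prime_finite (associatedPrimes.finite A M) ⊥ ⊥
      fun q hq _ _ => IsAssociatedPrime.isPrime hq).1 hsub
    have hqT : (⟨q, hq.isPrime⟩ : PrimeSpectrum A) ∈ T :=
      hT ((PrimeSpectrum.le_iff_specializes p ⟨q, hq.isPrime⟩).1 hle) hp
    obtain ⟨-, f, hf⟩ := (isAssociatedPrime_iff_exists_injective_linearMap q M).1 hq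
    have hmem : f (Submodule.Quotient.mk 1) ∈ gam T M := gam_of_killed (I := q)
      (fun P hP => hT ((PrimeSpectrum.le_iff_specializes ⟨q, hq.isPrime⟩ P).1 hP) hqT)
      (fun r hr => mk_one_smul f hr)
    rw [hgam, Submodule.mem_bot] at hmem
    exact hq.isPrime.ne_top ((Ideal.eq_top_iff_one _).2 ((Submodule.Quotient.mk_eq_zero _).1
      (hf (hmem.trans (map_zero f).symm))))
  let H := hull T M
  have hbH : IsSMulRegular H b := fun x y h => Subtype.ext (isSMulRegular_frac hb (congrArg Subtype.val h))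
  let Rp := Localization.AtPrime p.asIdeal
  have hbm : algebraMap A Rp b ∈ IsLocalRing.maximalIdeal Rp :=
    (IsLocalization.AtPrime.to_map_mem_maximal_iff Rp p.asIdeal b).2 hbp
  have hbHp : IsSMulRegular (LocalizedModule p.asIdeal.primeCompl H) (algebraMap A Rp b) := by
    exact hbH.of_isLocalizedModule Rp p.asIdeal.primeCompl (LocalizedModule.mkLinearMap p.asIdeal.primeCompl H)
  haveI : IsNoetherianRing Rp := IsLocalization.isNoetherianRing p.asIdeal.primeCompl _ inferInstance
  haveI : Module.Finite Rp (LocalizedModule p.asIdeal.primeCompl H) :=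
    Module.Finite.of_isLocalizedModule p.asIdeal.primeCompl (LocalizedModule.mkLinearMap p.asIdeal.primeCompl H)
  rw [← CAlgH3.depth_quotSMulTop_add_one hbm hbHp, CAlgH3.depth_congr (CAlgH3.localizedQuotSMulTop p.asIdeal H b)]
  refine (show ((2 : ℕ) : ℕ∞) = 1 + 1 by norm_num).le.trans (add_le_add_left ?_ 1)
  refine (CommAlg6.one_le_depth_localized_iff (M := QuotSMulTop b H) p.asIdeal).2 fun hass => ?_
  obtain ⟨-, f, hf⟩ := (isAssociatedPrime_iff_exists_injective_linearMap p.asIdeal (QuotSMulTop b H)).1 hass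
  obtain ⟨y, hy⟩ := Submodule.Quotient.mk_surjective _ (f (Submodule.Quotient.mk 1))
  obtain ⟨v, hv⟩ : ∃ v : Frac A M, b • v = (y : Frac A M) :=
    ((Module.End.isUnit_iff _).1 (IsLocalizedModule.map_units (toFrac A M) (⟨b, hb⟩ : regEl A M))).2 _
  have hpv : ∀ r ∈ p.asIdeal, r • v ∈ H := by
    intro r hr
    have h0 : (Submodule.Quotient.mk (r • y) : QuotSMulTop b H) = 0 := by
      rw [Submodule.Quotient.mk_smul, hy]
      exact mk_one_smul f hr
    rw [Submodule.Quotient.mk_eq_zero, Submodule.mem_smul_pointwise_iff_exists] at h0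
    obtain ⟨w, -, hw⟩ := h0
    have : r • v = (w : Frac A M) := isSMulRegular_frac hb (by
      show b • r • v = b • (w : Frac A M)
      rw [smul_comm, hv]
      exact (congrArg Subtype.val hw).symm)
    rw [this]
    exact w.2
  have hvH : v ∈ H := by
    classical
    obtain ⟨G, hG⟩ := IsNoetherian.noetherian p.asIdeal
    have hex : ∀ g : G, ∃ K : Dual2.IdealsIn T, ∀ r ∈ K.obj, r • (g : A) • v ∈ LinearMap.range (toFrac A M) :=
      fun g => hpv g (hG ▸ Submodule.subset_span g.2)
    choose K hK using hex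
    let L : Ideal A := (Finset.univ.inf fun g => (K g).obj) * p.asIdeal
    have hL : PrimeSpectrum.zeroLocus (L : Set A) ⊆ T := fun Q hQ => by
      rcases Q.2.mul_le.1 hQ with hQ | hQ
      · obtain ⟨g, -, hg⟩ := Q.2.inf_le'.1 hQ
        exact (K g).property hg
      · exact hT ((PrimeSpectrum.le_iff_specializes p Q).1 hQ) hp
    refine ⟨⟨L, hL⟩, fun r hr => ?_⟩
    refine Submodule.mul_induction_on hr (fun k hk x hx => ?_) fun u w hu hw => by
      rw [add_smul]; exact add_mem hu hw
    rw [mul_smul]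
    rw [← hG] at hx
    induction hx using Submodule.span_induction with
    | mem g hg =>
      have hle : (Finset.univ.inf fun g => (K g).obj) ≤ (K ⟨g, hg⟩).obj := Finset.inf_le (Finset.mem_univ _)
      exact hK ⟨g, hg⟩ k (hle hk)
    | zero => rw [zero_smul, smul_zero]; exact zero_mem _
    | add u w _ _ hu hw => rw [add_smul, smul_add]; exact add_mem hu hw
    | smul c u _ hu => rw [smul_eq_mul, mul_smul, smul_comm k c]; exact Submodule.smul_mem _ c hu
  have h0 : f (Submodule.Quotient.mk 1) = 0 := by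
    rw [← hy, Submodule.Quotient.mk_eq_zero, Submodule.mem_smul_pointwise_iff_exists]
    exact ⟨⟨v, hvH⟩, trivial, Subtype.ext hv⟩
  exact p.2.ne_top ((Ideal.eq_top_iff_one _).2 ((Submodule.Quotient.mk_eq_zero _).1 (hf (h0.trans (map_zero f).symm))))

end Hull

end Groth.Agent.CAlgH3.DT
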