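import Groth.Agent.CAlgH3.DT.Strata

/-! Stable images of a tower in cohomology with supports, from the points to the whole set. -/

set_option autoImplicit false
set_option backward.isDefEq.respectTransparency false
set_option backward.defeqAttrib.useBackward true
set_option linter.style.haveILetI false

universe u v

open CategoryTheory CategoryTheory.Limits Opposite CategoryTheory.Abelian

attribute [local instance] HasDerivedCategory.standard

namespace Groth.Agent.CAlgH3.DT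

open GammaQuot (gam mem_gam)
open Groth.Agent.LocCoh (Hf toH toH_map toH_eq_zero_iff exists_toH quot)

section Class

variable {A : Type u} [CommRing A] {M N : Type u} [AddCommGroup M] [Module A M] [AddCommGroup N] [Module A N]
variable {φ : M →ₗ[A] N} {J J' : DRing.Cx A} {e : DerivedCategory.Q.obj J ≅ Dual.inD A M}
  {e' : DerivedCategory.Q.obj J' ≅ Dual.inD A N} {σ : J ⟶ J'} [J.IsKInjective] [J'.IsKInjective] {i : ℕ}
  {D : Type v} [SmallCategory D] [HasColimitsOfShape Dᵒᵖ (ModuleCat.{u} A)] {F : D ⥤ Ideal A}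
  [IsFiltered Dᵒᵖ] [PreservesColimitsOfShape Dᵒᵖ (forget (ModuleCat.{u} A))]

/-- The class of a cocycle element. -/
noncomputable abbrev clz (e : DerivedCategory.Q.obj J ≅ Dual.inD A M) (d : D) (z : J.X (i : ℤ))
    (hz : F.obj d ≤ annEl z) (hd : (J.d (i : ℤ) (i + 1)).hom z = 0) : (Hf F i).obj (ModuleCat.of A M) :=
  toH d i (ModuleCat.of A M) (clsE e (elCyc J z hz hd))

theorem exists_clz (e : DerivedCategory.Q.obj J ≅ Dual.inD A M) (x : (Hf F i).obj (ModuleCat.of A M)) :
    ∃ (d : D) (z : J.X (i : ℤ)) (hz : F.obj d ≤ annEl z) (hd : (J.d (i : ℤ) (i + 1)).hom z = 0),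
      clz e d z hz hd = x := by
  obtain ⟨d, x, rfl⟩ := exists_toH x
  obtain ⟨f, rfl⟩ := exists_clsE e x
  refine ⟨d, f.1 (one F d), le_annEl f.1, LinearMap.congr_fun f.2 _, ?_⟩
  refine congrArg (fun g => toH d i (ModuleCat.of A M) (clsE e g)) (Subtype.ext ?_)
  exact Submodule.linearMap_qext _ (LinearMap.ext_ring (one_smul A (f.1 (one F d))))

theorem map_clz_eq_zero_iff (hσ : Lift φ e e' σ) (d : D) (z : J.X (i : ℤ)) (hz : F.obj d ≤ annEl z)
    (hd : (J.d (i : ℤ) (i + 1)).hom z = 0) :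
    ((Hf F i).map (ModuleCat.ofHom φ)).hom (clz e d z hz hd) = 0 ↔
      ∃ (d' : D) (_ : d' ⟶ d) (y : J'.X ((i : ℤ) - 1)), F.obj d' ≤ annEl y ∧
        (σ.f i).hom z = (J'.d ((i : ℤ) - 1) i).hom y := by
  rw [clz, toH_map, clsE_post hσ, toH_eq_zero_iff]
  refine exists_congr fun d' => exists_congr fun w => ?_
  rw [clsE_pre e' _ _ (by
    show (J'.d _ _).hom ∘ₗ _ = 0
    rw [← LinearMap.comp_assoc, (cmap σ (elCyc J z hz hd)).2, LinearMap.zero_comp]), clsE_eq_zero_iff]
  constructor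
  · rintro ⟨g, hg⟩
    refine ⟨g (one F d'), le_annEl g, ?_⟩
    refine Eq.trans ?_ (LinearMap.congr_fun hg (one F d')).symm
    show _ = (σ.f i).hom ((elCyc J z hz hd).1 (((localCohomology.ringModIdeals F).map w).hom (one F d')))
    rw [res_one, elCyc_one]
  · rintro ⟨y, hy, he⟩
    refine ⟨Submodule.liftQ _ (LinearMap.toSpanSingleton A _ y) hy, Submodule.linearMap_qext _ (LinearMap.ext_ring ?_)⟩
    show (J'.d _ _).hom ((1 : A) • y) =
      (σ.f i).hom ((elCyc J z hz hd).1 (((localCohomology.ringModIdeals F).map w).hom (one F d')))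
    rw [one_smul, res_one, elCyc_one, he]

end Class

variable {A : Type u} [CommRing A] [IsNoetherianRing A] {M N : Type u} [AddCommGroup M] [Module A M] [AddCommGroup N]
  [Module A N] (q : PrimeSpectrum A)

local notation "Bq" => Localization.AtPrime q.asIdeal
local notation "Sq" => Ideal.primeCompl (PrimeSpectrum.asIdeal q)

variable {J J' : DRing.Cx A} {g : M →ₗ[A] N} {e : DerivedCategory.Q.obj J ≅ Dual.inD A M}
  {e' : DerivedCategory.Q.obj J' ≅ Dual.inD A N} {σ : J ⟶ J'}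

theorem isKInjective_jc {K : DRing.Cx A} (hK : ∀ j, Module.Injective A (K.X j))
    (hKc : ∀ j < (0 : ℤ), Subsingleton (K.X j)) : (jc q K).IsKInjective := by
  haveI : ∀ j, Injective ((jc q K).X j) := fun j =>
    haveI : Module.Injective Bq ((jc q K).X j) :=
      DualLib.injective_extendScalars (B := Localization.AtPrime q.asIdeal) q.asIdeal.primeCompl (K.X j) (hK j)
    Module.injective_object_of_injective_module Bq ((jc q K).X j)
  haveI : (jc q K).IsStrictlyGE 0 := (CochainComplex.isStrictlyGE_iff _ 0).2 fun j hj =>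
    (ModuleCat.extendScalars.{u, u, u} (algebraMap A Bq)).map_isZero
      (haveI := hKc j hj; ModuleCat.isZero_of_subsingleton _)
  exact CochainComplex.isKInjective_of_injective _ 0

variable {i : ℕ} [(jc q J).IsKInjective] [(jc q J').IsKInjective]

omit [IsNoetherianRing A] in
/-- A cocycle element that is a boundary near `q` has a vanishing image in the local cohomology at `q`. -/
theorem map_clz_loc_eq_zero (h : Lift g e e' σ) (n : ℕ) (z : J.X (i : ℤ)) (hz : ∀ r ∈ q.asIdeal ^ n, r • z = 0)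
    (hd : ((jc q J).d (i : ℤ) (i + 1)).hom (iota q J i z) = 0) {s : A} (hs : s ∉ q.asIdeal) {m : ℕ}
    (y : J'.X ((i : ℤ) - 1)) (hy : ∀ r ∈ q.asIdeal ^ m, r • y = 0)
    (he : s • (σ.f i).hom z = (J'.d ((i : ℤ) - 1) i).hom y) :
    ((Hf (localCohomology.idealPowersDiagram (IsLocalRing.maximalIdeal Bq)) i).map
      (ModuleCat.ofHom (LocalizedModule.map Sq g))).hom
      (clz (eLoc q e) (op n) (iota q J i z) (fun b hb => mem_annEl.2 (pow_maximal_kills q hz b hb)) hd) = 0 := by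
  obtain ⟨v, hv⟩ := isUnit_map q hs
  rw [map_clz_eq_zero_iff (h.loc q)]
  refine ⟨op (max n m), (homOfLE (le_max_left n m)).op, (↑v⁻¹ : Bq) • iota q J' ((i : ℤ) - 1) y, fun b hb => ?_, ?_⟩
  · refine mem_annEl.2 ?_
    rw [smul_comm, pow_maximal_kills q hy b (Ideal.pow_le_pow_right (le_max_right n m) hb), smul_zero]
  · rw [iota_map, map_smul, iota_d, ← he, iota_smul, ← mul_smul, ← hv, Units.inv_mul, one_smul]

/-- A vanishing image in the local cohomology at `q` gives a boundary near `q`. -/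
theorem exists_kill_of_clz (h : Lift g e e' σ) (n : ℕ) (z : J.X (i : ℤ)) (hz : ∀ r ∈ q.asIdeal ^ n, r • z = 0)
    (hd : ((jc q J).d (i : ℤ) (i + 1)).hom (iota q J i z) = 0)
    (h0 : ((Hf (localCohomology.idealPowersDiagram (IsLocalRing.maximalIdeal Bq)) i).map
      (ModuleCat.ofHom (LocalizedModule.map Sq g))).hom
      (clz (eLoc q e) (op n) (iota q J i z) (fun b hb => mem_annEl.2 (pow_maximal_kills q hz b hb)) hd) = 0) :
    ∃ s ∉ q.asIdeal, ∃ (m : ℕ) (y : J'.X ((i : ℤ) - 1)),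
      (∀ r ∈ q.asIdeal ^ m, r • y = 0) ∧ s • (σ.f i).hom z = (J'.d ((i : ℤ) - 1) i).hom y := by
  obtain ⟨d', -, w, hw, he⟩ := (map_clz_eq_zero_iff (h.loc q) _ _ _ _).1 h0
  rw [iota_map] at he
  obtain ⟨s, hs, y, hy⟩ := exists_iota q w
  obtain ⟨t, ht, htk⟩ := exists_smul_killed q hy (n := d'.unop) fun b hb => mem_annEl.1 (hw hb)
  obtain ⟨t', ht', ht'0⟩ := iota_eq_zero q (x := (J'.d ((i : ℤ) - 1) i).hom y - s • (σ.f i).hom z) (by
    rw [iota_sub, ← iota_d, hy, map_smul, ← he, iota_smul, sub_self])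
  refine ⟨t' * t * s, q.asIdeal.primeCompl.mul_mem (q.asIdeal.primeCompl.mul_mem ht' ht) hs, d'.unop, t' • t • y,
    fun r hr => by rw [smul_comm, htk r hr, smul_zero], ?_⟩
  rw [smul_sub, sub_eq_zero] at ht'0
  rw [map_smul, map_smul, smul_comm t' t, ht'0, ← mul_smul, ← mul_smul]
  congr 1
  ring

section Tower

variable {T : Set (PrimeSpectrum A)}

/-- Stable images that inject at the points inject globally. -/
theorem map_image_injective (hT : StableUnderSpecialization T) (e : ℕ) (he : Order.krullDim T ≤ (e : WithBot ℕ∞))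
    (M : ℕ → Type u) [∀ n, AddCommGroup (M n)] [∀ n, Module A (M n)]
    (φ : ∀ k m : ℕ, m ≤ k → (M k →ₗ[A] M m))
    (hφ : ∀ (k l m : ℕ) (h₁ : m ≤ l) (h₂ : l ≤ k), φ k m (h₁.trans h₂) = φ l m h₁ ∘ₗ φ k l h₂)
    (i : ℕ) (m' : ℕ → ℕ) (hm' : ∀ m, m ≤ m' m)
    (h1 : 0 < i → ∀ (p : PrimeSpectrum A), p ∈ T → ∀ (m k : ℕ) (h : m ≤ k), m' m ≤ k →
      (localCohomology (IsLocalRing.maximalIdeal (Localization.AtPrime p.asIdeal)) (i - 1)).map
        (ModuleCat.ofHom (LocalizedModule.map p.asIdeal.primeCompl (φ k m h))) = 0)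
    (h3 : ∀ (p : PrimeSpectrum A), p ∈ T → ∀ (m : ℕ)
      (x : ↑((localCohomology (IsLocalRing.maximalIdeal (Localization.AtPrime p.asIdeal)) i).obj
        (ModuleCat.of (Localization.AtPrime p.asIdeal) (LocalizedModule p.asIdeal.primeCompl (M m))))),
      x ∈ LinearMap.range ((localCohomology (IsLocalRing.maximalIdeal (Localization.AtPrime p.asIdeal)) i).map
          (ModuleCat.ofHom (LocalizedModule.map p.asIdeal.primeCompl (φ (m' m) m (hm' m))))).hom →
      ((localCohomology (IsLocalRing.maximalIdeal (Localization.AtPrime p.asIdeal)) i).map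
          (ModuleCat.ofHom (LocalizedModule.map p.asIdeal.primeCompl (φ m 0 (Nat.zero_le m))))).hom x = 0 → x = 0)
    (m : ℕ) (hm : (m'^[e + 1]) 0 ≤ m) (k : ℕ) (h : m ≤ k) (hk : (m'^[e + 1]) m ≤ k)
    (x : Dual2.HT T i (M m))
    (hx : x ∈ LinearMap.range ((localCohomology.ofDiagram (Dual2.idealsInDiagram T) i).map (ModuleCat.ofHom (φ k m h))).hom)
    (hx0 : ((localCohomology.ofDiagram (Dual2.idealsInDiagram T) i).map (ModuleCat.ofHom (φ m _ hm))).hom x = 0) :
    x = 0 := by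
  haveI := isFiltered (A := A) T
  have hmod : ∀ n, ∃ J : DRing.Cx A, (∀ j < (0 : ℤ), Subsingleton (J.X j)) ∧ J.IsKInjective ∧
      (∀ j, Module.Injective A (J.X j)) ∧ Nonempty (DerivedCategory.Q.obj J ≅ Dual.inD A (M n)) := fun n => by
    haveI : (Dual.inD A (M n)).IsGE 0 := inferInstance
    exact exists_model _ 0 ((DRingLib.isGE_iff_HD _ 0).1 inferInstance)
  choose J hJc hJK hJ he' using hmod
  let ε := fun n => (he' n).some
  have hcomp : ∀ (q : PrimeSpectrum A) (k l m : ℕ) (h₁ : m ≤ l) (h₂ : l ≤ k),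
      LocalizedModule.map q.asIdeal.primeCompl (φ k m (h₁.trans h₂)) =
        LocalizedModule.map q.asIdeal.primeCompl (φ l m h₁) ∘ₗ LocalizedModule.map q.asIdeal.primeCompl (φ k l h₂) :=
    fun q k l m h₁ h₂ => by
      rw [hφ k l m h₁ h₂]
      refine LinearMap.ext fun z => ?_
      induction z using LocalizedModule.induction_on with | _ a s => simp [LocalizedModule.map_mk]
  have key : ∀ r c : ℕ, c + r = e + 1 → ∀ (m k : ℕ) (h : m ≤ k), (m'^[r]) m ≤ k →
      ∀ (a : ℕ) (ha : a ≤ m), (m'^[r]) 0 ≤ a → ∀ (τ : J m ⟶ J a), Lift (φ m a ha) (ε m) (ε a) τ →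
      ∃ σ : J k ⟶ J m, Lift (φ k m h) (ε k) (ε m) σ ∧ ∀ z ∈ gam (Lev T c) ((J k).X (i : ℤ)),
        ((J k).d (i : ℤ) (i + 1)).hom z = 0 → ∀ y ∈ gam (Lev T c) ((J a).X ((i : ℤ) - 1)),
          (τ.f i).hom ((σ.f i).hom z) = ((J a).d ((i : ℤ) - 1) i).hom y →
          ∃ y' ∈ gam (Lev T c) ((J m).X ((i : ℤ) - 1)),
            (σ.f i).hom z = ((J m).d ((i : ℤ) - 1) i).hom y' := by
    intro r
    induction r with
    | zero =>
      intro c hc m k h _ a ha _ τ _
      haveI := hJK m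
      obtain ⟨σ, hσ⟩ := exists_liftMap (φ k m h) (ε k) (ε m)
      refine ⟨σ, hσ, fun z hz _ _ _ _ => ⟨0, zero_mem _, ?_⟩⟩
      rw [show c = e + 1 by omega, Lev_top he] at hz
      have h1 : (annEl z : Ideal A) = ⊤ := PrimeSpectrum.zeroLocus_empty_iff_eq_top.1
        (Set.subset_empty_iff.1 (mem_gam_iff.1 hz))
      have h2 : z = 0 := by simpa using mem_annEl.1 (show (1 : A) ∈ (annEl z : Ideal A) by rw [h1]; trivial)
      rw [h2, map_zero, map_zero]
    | succ r ih =>
      intro c hc m k h hk a ha hra τ hτ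
      let l := (m'^[r]) m
      have hml : m ≤ l := iterate_le hm' (Nat.zero_le r) m
      let a' := (m'^[r]) 0
      rw [Function.iterate_succ_apply'] at hk hra
      have hlk : l ≤ k := (hm' l).trans hk
      have ha' : a' ≤ a := (hm' a').trans hra
      haveI := hJK l
      haveI := hJK a'
      obtain ⟨σ₁, hσ₁⟩ := exists_liftMap (φ k l hlk) (ε k) (ε l)
      obtain ⟨τ₂, hτ₂⟩ := exists_liftMap (φ a a' ha') (ε a) (ε a')
      obtain ⟨σ₂, hσ₂, hy₂⟩ := ih (c + 1) (by omega) m l hml le_rfl a' (ha'.trans ha) le_rfl (τ ≫ τ₂)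
        ((hφ m a a' ha' ha).symm ▸ hτ.comp hτ₂)
      refine ⟨σ₁ ≫ σ₂, (hφ k l m hml hlk).symm ▸ hσ₁.comp hσ₂, fun z hz hd y hy he1 => ?_⟩
      let z₁ := (σ₁.f (i : ℤ)).hom z
      have hd₁ : ((J l).d (i : ℤ) (i + 1)).hom z₁ = 0 := by
        refine (congrArg (fun g => g.hom z) (σ₁.comm (i : ℤ) (i + 1))).trans ?_
        show (σ₁.f ((i : ℤ) + 1)).hom (((J k).d (i : ℤ) (i + 1)).hom z) = 0
        rw [hd, map_zero]
      obtain ⟨Y, hY, hW⟩ := patch_min (Lev_stable hT c) (Lev_min c) (hJ l)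
        (map_gam (σ₁.f (i : ℤ)).hom hz) fun q hq hq' => by
          obtain ⟨s, hs, n, hn⟩ := local_torsion hz q (Lev_min c q hq hq')
          obtain ⟨t, ht, n', hn'⟩ := local_torsion hy q (Lev_min c q hq hq')
          haveI := isKInjective_jc q (hJ k) (hJc k)
          haveI := isKInjective_jc q (hJ l) (hJc l)
          haveI := isKInjective_jc q (hJ a) (hJc a)
          have hdq : ((jc q (J k)).d (i : ℤ) (i + 1)).hom (iota q (J k) i (s • z)) = 0 := by
            rw [iota_d, map_smul, hd, smul_zero, iota_zero]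
          obtain ⟨t', ht', j, y', hy', he'⟩ := exists_kill_of_clz q hσ₁ n (s • z) hn hdq (by
            have hla : a ≤ l := ha.trans hml
            have h4 := map_clz_loc_eq_zero q (i := i) (h := (hσ₁.comp (hσ₂.comp hτ) :
              Lift ((φ m a ha ∘ₗ φ l m hml) ∘ₗ φ k l hlk) (ε k) (ε a) (σ₁ ≫ σ₂ ≫ τ))) n (s • z) hn hdq
              (s := t) ht (m := n') (s • t • y)
              (fun r hr => by rw [smul_comm r s, hn' r hr, smul_zero]) (by
                rw [map_smul (((J a).d ((i : ℤ) - 1) i)).hom, map_smul (((J a).d ((i : ℤ) - 1) i)).hom, ← he1, map_smul,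
                  smul_comm]
                rfl)
            refine h3 q hq.1 l _ ⟨((localCohomology (IsLocalRing.maximalIdeal (Localization.AtPrime q.asIdeal)) i).map
              (ModuleCat.ofHom (LocalizedModule.map q.asIdeal.primeCompl (φ k (m' l) hk)))).hom
                (clz (eLoc q (ε k)) (op n) (iota q (J k) i (s • z))
                  (fun b hb => mem_annEl.2 (pow_maximal_kills q hn b hb)) hdq), ?_⟩ ?_
            · rw [← LinearMap.comp_apply, ← ModuleCat.hom_comp, ← Functor.map_comp, ← ModuleCat.ofHom_comp,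
                ← hcomp q k (m' l) l (hm' l) hk]
              rfl
            · show ((Hf _ i).map _).hom (((Hf _ i).map _).hom _) = 0
              rw [← LinearMap.comp_apply, ← ModuleCat.hom_comp, ← Functor.map_comp, ← ModuleCat.ofHom_comp,
                ← hcomp q k l 0 (Nat.zero_le l) hlk, hcomp q k a 0 (Nat.zero_le a) (hla.trans hlk),
                ModuleCat.ofHom_comp, Functor.map_comp, ModuleCat.hom_comp, LinearMap.comp_apply,
                hφ k l a hla hlk, hφ l m a ha hml]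
              exact (congrArg _ h4).trans (map_zero _))
          refine ⟨t' * s, q.asIdeal.primeCompl.mul_mem ht' hs, j, y', hy', ?_⟩
          rw [mul_smul, ← he', map_smul]
      let W := z₁ - ((J l).d ((i : ℤ) - 1) i).hom Y
      have hdW : ((J l).d (i : ℤ) (i + 1)).hom W = 0 := by
        rw [map_sub, hd₁, zero_sub, neg_eq_zero]
        exact congrArg (fun g => g.hom Y) ((J l).d_comp_d ((i : ℤ) - 1) i (i + 1))
      let w := y - (τ.f ((i : ℤ) - 1)).hom ((σ₂.f ((i : ℤ) - 1)).hom Y)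
      have hw : w ∈ gam (Lev T c) ((J a).X ((i : ℤ) - 1)) := sub_mem hy (map_gam _ (map_gam _ hY))
      have hc₂ : ((J m).d ((i : ℤ) - 1) i).hom ((σ₂.f ((i : ℤ) - 1)).hom Y) =
          (σ₂.f i).hom (((J l).d ((i : ℤ) - 1) i).hom Y) :=
        congrArg (fun g => g.hom Y) (σ₂.comm ((i : ℤ) - 1) i)
      have hcτ : ∀ u, ((J a).d ((i : ℤ) - 1) i).hom ((τ.f ((i : ℤ) - 1)).hom u) =
          (τ.f i).hom (((J m).d ((i : ℤ) - 1) i).hom u) := fun u =>
        congrArg (fun g => g.hom u) (τ.comm ((i : ℤ) - 1) i)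
      have hdw : ((J a).d ((i : ℤ) - 1) i).hom w = (τ.f i).hom ((σ₂.f i).hom W) := by
        rw [map_sub, ← he1, hcτ, hc₂, ← map_sub]
        exact congrArg _ (map_sub (σ₂.f (i : ℤ)).hom z₁ _).symm
      have hprev : ∀ p : ℤ, p + 1 = i → ∀ u : (J a).X p, u ∈ gam (Lev T c) ((J a).X p) →
          ((J a).d p i).hom u ∈ gam (Lev T (c + 1)) ((J a).X (i : ℤ)) →
          ∃ V ∈ gam (Lev T c) ((J a').X (p - 1)),
            (τ₂.f p).hom u - ((J a').d (p - 1) p).hom V ∈ gam (Lev T (c + 1)) ((J a').X p) := by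
        intro p hp u hu hdu
        by_cases hp0 : p < 0
        · haveI := hJc a' p hp0
          refine ⟨0, zero_mem _, ?_⟩
          rw [Subsingleton.elim (_ - _) (0 : (J a').X p)]
          exact zero_mem _
        lift p to ℕ using (by omega)
        obtain rfl : i = p + 1 := by omega
        refine patch_min (Lev_stable hT c) (Lev_min c) (hJ a') (map_gam (τ₂.f (p : ℤ)).hom hu) fun q hq hq' => ?_
        obtain ⟨s, hs, n, hn⟩ := local_torsion hu q (Lev_min c q hq hq')
        obtain ⟨t, ht, htd⟩ := (mem_gam _ _).1 hdu q hq'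
        obtain ⟨t', ht', j, v, hv, he'⟩ := exists_kill_of_loc q (hJ a) (hJ a') (hJc a) (hJc a') hτ₂ p
          (h1 (Nat.succ_pos p) q hq.1 a' a ha' hra) n (t • s • u) (fun r hr => by rw [smul_comm r t, hn r hr, smul_zero])
          (by rw [smul_comm t s, map_smul, map_smul]; exact (congrArg (s • ·) htd).trans (smul_zero s))
        refine ⟨t' * (t * s), q.asIdeal.primeCompl.mul_mem ht' (q.asIdeal.primeCompl.mul_mem ht hs), j, v, hv, ?_⟩
        rw [mul_smul, ← he', mul_smul, map_smul, map_smul]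
      obtain ⟨V, hV, hV'⟩ := hprev ((i : ℤ) - 1) (by omega) w hw
        (by rw [hdw]; exact map_gam _ (map_gam _ hW))
      obtain ⟨Y', hY', he2⟩ := hy₂ W hW hdW _ hV' (by
        show (τ₂.f i).hom ((τ.f i).hom ((σ₂.f i).hom W)) = _
        have hc' : ∀ u, ((J a').d ((i : ℤ) - 1) i).hom ((τ₂.f ((i : ℤ) - 1)).hom u) =
            (τ₂.f i).hom (((J a).d ((i : ℤ) - 1) i).hom u) := fun u =>
          congrArg (fun g => g.hom u) (τ₂.comm ((i : ℤ) - 1) i)
        have hdd : ((J a').d ((i : ℤ) - 1) i).hom (((J a').d ((i : ℤ) - 1 - 1) ((i : ℤ) - 1)).hom V) = 0 :=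
          congrArg (fun g => g.hom V) ((J a').d_comp_d ((i : ℤ) - 1 - 1) ((i : ℤ) - 1) i)
        rw [← hdw, ← hc' w]
        refine Eq.symm ((map_sub _ _ _).trans ?_)
        rw [hdd, sub_zero])
      refine ⟨Y' + (σ₂.f ((i : ℤ) - 1)).hom Y,
        add_mem (gam_mono (Lev_succ_subset c) hY') (map_gam _ hY), ?_⟩
      rw [map_add, ← he2, hc₂, ← map_add]
      show (σ₂.f i).hom z₁ = _
      rw [sub_add_cancel]
  obtain ⟨y, rfl⟩ := hx
  haveI := hJK m
  haveI := hJK k
  haveI := hJK ((m'^[e + 1]) 0)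
  obtain ⟨τ, hτ⟩ := exists_liftMap (φ m _ hm) (ε m) (ε ((m'^[e + 1]) 0))
  obtain ⟨σ, hσ, hkey⟩ := key (e + 1) 0 (zero_add _) m k h hk _ hm le_rfl τ hτ
  obtain ⟨d, z, hz, hd, rfl⟩ := exists_clz (F := Dual2.idealsInDiagram T) (ε k) y
  rw [← LinearMap.comp_apply, ← ModuleCat.hom_comp, ← Functor.map_comp, ← ModuleCat.ofHom_comp] at hx0
  obtain ⟨d₀, -, y₀, hy₀, he₀⟩ := (map_clz_eq_zero_iff (hσ.comp hτ) d z hz hd).1 hx0
  have hmem : ∀ (d : Dual2.IdealsIn T) {X : Type u} [AddCommGroup X] [Module A X] (u : X), d.obj ≤ annEl u →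
      u ∈ gam (Lev T 0) X := fun d X _ _ u hu => by
    rw [Lev_zero]
    exact mem_gam_iff.2 ((PrimeSpectrum.zeroLocus_anti_mono hu).trans d.property)
  obtain ⟨y', hy', he3⟩ := hkey z (hmem d z hz) hd y₀ (hmem d₀ y₀ hy₀) he₀
  rw [Lev_zero] at hy'
  refine (map_clz_eq_zero_iff hσ d z hz hd).2
    ⟨⟨d.obj ⊓ annEl y', (PrimeSpectrum.zeroLocus_inf d.obj (annEl y')).trans_subset
      (Set.union_subset d.property (mem_gam_iff.1 hy'))⟩,
      ObjectProperty.homMk (homOfLE inf_le_left), y', fun a ha => ha.2, he3⟩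

end Tower

end Groth.Agent.CAlgH3.DT
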