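import Groth.Agent.CAlgH3.DT.CechLim

/-! Elements of low degree cohomology of the completed Čech complex are killed by powers of suitable constants. -/

set_option autoImplicit false
set_option backward.isDefEq.respectTransparency false
set_option backward.isDefEq.respectTransparency.types false
set_option backward.defeqAttrib.useBackward true
set_option linter.style.haveILetI false

universe u

open CategoryTheory CategoryTheory.Limits

attribute [local instance] HasDerivedCategory.standard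

namespace Groth.Agent.CAlgH3.DT

open Groth.Agent.CAlgH3.RGam Groth.Agent.CAlgH3.RGam.CechF Groth.Agent.CAlgH3.RGam.Lam Groth.Agent.CAlgH3.ExtCech
open PHT (pw inc)

variable {A : Type u} [CommRing A]

/-- Induced maps on cohomology. -/
noncomputable abbrev hm {P Q : DRing.Cx A} (f : P ⟶ Q) (i : ℤ) : P.homology i →ₗ[A] Q.homology i :=
  (HomologicalComplex.homologyMap f i).hom

theorem hm_comp {P Q R : DRing.Cx A} (f : P ⟶ Q) (g : Q ⟶ R) (i : ℤ) (x : P.homology i) :
    hm (f ≫ g) i x = hm g i (hm f i x) :=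
  congrArg (fun φ => φ.hom x) (HomologicalComplex.homologyMap_comp f g i)

theorem exists_hm_of_exact {X Y Z : DRing.Cx A} (g : X ⟶ Y) (h : Y ⟶ Z)
    (hinj : ∀ q, Function.Injective (g.f q).hom) (hex : ∀ q, Function.Exact (g.f q).hom (h.f q).hom)
    (hsurj : ∀ q, Function.Surjective (h.f q).hom) (i : ℤ) (y : Y.homology i) (hy : hm h i y = 0) :
    ∃ w, hm g i w = y := by
  obtain ⟨⟨z, hz⟩, rfl⟩ := cl_surjective Y i y
  rw [hm, homologyMap_cl, cl_eq_zero_iff] at hy
  obtain ⟨w, hw⟩ := hy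
  obtain ⟨w', rfl⟩ := hsurj (i - 1) w
  obtain ⟨u, hu⟩ := (hex i (z - (Y.d (i - 1) i).hom w')).1 (by rw [map_sub, ← RGam.comm h (i - 1) i w', hw, sub_self])
  refine ⟨cl X i ⟨u, hinj (i + 1) ?_⟩, ?_⟩
  · rw [map_zero, ← RGam.comm g i (i + 1) u, hu, map_sub, show (Y.d i (i + 1)).hom z = 0 from hz, dd, sub_zero]
  · rw [hm, homologyMap_cl, ← sub_eq_zero, ← map_sub, cl_eq_zero_iff]
    refine ⟨-w', ?_⟩
    show _ = (g.f i).hom u - z
    rw [map_neg, hu]
    abel

theorem d_congr {P : DRing.Cx A} {j a b : ℤ} (h : a = b) {x : P.X j} (hx : (P.d j a).hom x = 0) :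
    (P.d j b).hom x = 0 := by
  subst h; exact hx

theorem exists_d_eq {P : DRing.Cx A} {a b k : ℤ} (h : a = b) (v : P.X a) :
    ∃ v' : P.X b, (P.d b k).hom v' = (P.d a k).hom v := by
  subst h; exact ⟨v, rfl⟩

variable (I : Ideal A) (t : List A) (M : ModuleCat.{u} A)

/-- The identification of the reduced complexes. -/
theorem exists_redIso' (n : ℕ) : ∃ γ : (C t (Qn I n)).obj M ≅ (C t (𝟭 _)).obj ((Qn I n).obj M),
    (cN (mkN I n) t).app M ≫ γ.hom = (C t (𝟭 _)).map ((mkN I n).app M) :=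
  exists_iso_of_ker ((cN (mkN I n) t).app M) ((C t (𝟭 _)).map ((mkN I n).app M))
    (fun q => cN_surjective (mkN I n) (fun N => Submodule.mkQ_surjective _) t M q)
    (fun q => (red_compare t _ (red_mk n M) q).1) fun q x => ((red_compare t _ (red_mk n M) q).2 x).symm

/-- The identification chosen. -/
noncomputable def red (n : ℕ) : (C t (Qn I n)).obj M ≅ (C t (𝟭 _)).obj ((Qn I n).obj M) :=
  (exists_redIso' I t M n).choose

theorem red_natural (n : ℕ) :
    (cN (tr I n) t).app M ≫ (red I t M n).hom = (red I t M (n + 1)).hom ≫ (C t (𝟭 _)).map ((tr I n).app M) := by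
  haveI : Epi ((cN (mkN I (n + 1)) t).app M) := by
    haveI : ∀ q, Epi (((cN (mkN I (n + 1)) t).app M).f q) := fun q =>
      (ModuleCat.epi_iff_surjective _).2 (cN_surjective (mkN I (n + 1)) (fun N => Submodule.mkQ_surjective _) t M q)
    exact HomologicalComplex.epi_of_epi_f _ inferInstance
  have h1 : (cN (mkN I (n + 1)) t).app M ≫ (cN (tr I n) t).app M = (cN (mkN I n) t).app M := by
    ext q x
    have h := (cN_comp (mkN I (n + 1)) (tr I n) t M q x).symm
    rw [show mkN I (n + 1) ≫ tr I n = mkN I n by ext N : 2; rfl] at h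
    exact h
  rw [← cancel_epi ((cN (mkN I (n + 1)) t).app M), reassoc_of% h1,
    reassoc_of% (show (cN (mkN I (n + 1)) t).app M ≫ (red I t M (n + 1)).hom = _ from
      (exists_redIso' I t M (n + 1)).choose_spec),
    show (cN (mkN I n) t).app M ≫ (red I t M n).hom = _ from (exists_redIso' I t M n).choose_spec,
    ← Functor.map_comp]
  rfl

/-- A class of the completed complex with vanishing components. -/
theorem eq_zero_of_components (i : ℤ) (hart : ∀ n, IsArtinian A (((C t (Qn I n)).obj M).homology (i - 1)))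
    (y : ((C t (Lam I)).obj M).homology i)
    (hy : ∀ n, hm ((cN (incl I ≫ prj I n) t).app M) i y = 0) : y = 0 := by
  obtain ⟨⟨z, hz⟩, rfl⟩ := cl_surjective _ i y
  have hw : ∀ n, ∃ w, (((C t (Qn I n)).obj M).d (i - 1) i).hom w =
      (((cN (prj I n) t).app M).f i).hom ((((cN (incl I) t).app M).f i).hom z) := fun n => by
    have h := hy n
    rw [hm, homologyMap_cl, cl_eq_zero_iff] at h
    obtain ⟨w, hw⟩ := h
    exact ⟨w, hw.trans (cN_comp (incl I) (prj I n) t M i z)⟩
  choose w hw using hw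
  obtain ⟨W, hW, -⟩ := existsUnique_family t M (i - 1) w
  have hdW : (((C t (PiQ I)).obj M).d (i - 1) i).hom W = (((cN (incl I) t).app M).f i).hom z :=
    (existsUnique_family t M i _).unique (fun n => by rw [← RGam.comm, hW, hw]) fun n => rfl
  let V := (((cN (δ I) t).app M).f (i - 1)).hom W
  have hV : (((C t (PiQ I)).obj M).d (i - 1) i).hom V = 0 := by
    rw [RGam.comm, hdW]
    exact (cN_exact (incl I) (δ I) (exact_incl_δ I) t M i).apply_apply_eq_zero z
  have hVn : ∀ n, (((C t (Qn I n)).obj M).d (i - 1) (i - 1 + 1)).hom ((((cN (prj I n) t).app M).f (i - 1)).hom V) = 0 := by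
    intro n
    rw [RGam.comm, show i - 1 + 1 = i by omega, hV, map_zero]
  haveI := hart
  obtain ⟨v, hv⟩ := exists_ml (fun n => hm ((cN (tr I n) t).app M) (i - 1)) fun n => cl _ (i - 1) ⟨_, hVn n⟩
  choose v' hv' using fun n => cl_surjective ((C t (Qn I n)).obj M) (i - 1) (v n)
  have hd : ∀ n, ∃ d, (((C t (Qn I n)).obj M).d (i - 1 - 1) (i - 1)).hom d =
      (v' n).1 - (((cN (tr I n) t).app M).f (i - 1)).hom (v' (n + 1)).1 - (((cN (prj I n) t).app M).f (i - 1)).hom V := by
    intro n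
    have h := hv n
    rw [← hv' n, ← hv' (n + 1), hm, homologyMap_cl, ← map_sub, ← sub_eq_zero, ← map_sub, cl_eq_zero_iff] at h
    exact h
  choose d hd using hd
  obtain ⟨V', hV', -⟩ := existsUnique_family t M (i - 1) fun n => (v' n).1
  obtain ⟨U, hU, -⟩ := existsUnique_family t M (i - 1 - 1) d
  obtain ⟨U', hU'⟩ := cN_surjective (δ I) (surjective_δ I) t M (i - 1 - 1) U
  have hdV' : (((C t (PiQ I)).obj M).d (i - 1) i).hom V' = 0 :=
    (existsUnique_family t M i _).unique (fun n => by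
      rw [← RGam.comm, hV']
      exact d_congr (show i - 1 + 1 = i by omega) (v' n).2) fun n => map_zero _
  let W' := W - V' + (((C t (PiQ I)).obj M).d (i - 1 - 1) (i - 1)).hom U'
  have hδV' : ∀ n, (((cN (prj I n) t).app M).f (i - 1)).hom ((((cN (δ I) t).app M).f (i - 1)).hom V') =
      (v' n).1 - (((cN (tr I n) t).app M).f (i - 1)).hom (v' (n + 1)).1 := by
    intro n
    have h := cN_sub (δ I ≫ prj I n) (prj I n) (prj I (n + 1) ≫ tr I n)
      (fun N z => sub_add_cancel (z n) _) t M (i - 1) V'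
    rw [cN_comp, cN_comp, hV', hV'] at h
    exact eq_sub_of_add_eq h
  have hδW' : (((cN (δ I) t).app M).f (i - 1)).hom W' = 0 := by
    refine (existsUnique_family t M (i - 1) _).unique (fun n => ?_) fun n => map_zero _
    simp only [W', map_add, map_sub]
    rw [← RGam.comm, hU', ← RGam.comm, hU, hd, hδV']
    abel
  obtain ⟨x, hx⟩ := (cN_exact (incl I) (δ I) (exact_incl_δ I) t M (i - 1) W').1 hδW'
  refine (cl_eq_zero_iff _ _ _).2 ⟨x, cN_injective (incl I) (injective_incl I) t M i ?_⟩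
  rw [← RGam.comm, hx]
  simp only [W', map_add, map_sub]
  rw [hdW, hdV', dd, sub_zero, add_zero]

variable [IsNoetherianRing A] [IsLocalRing A] [Module.Finite A M]
  {ω : Dual.D A} (hω : Dual.IsDualizing A ω) (hn : Dual.IsNormalized A ω)
  (ht : Ideal.ofList t = IsLocalRing.maximalIdeal A)

omit [IsNoetherianRing A] [IsLocalRing A] in
/-- Lifting a class up to a constant. -/
theorem exists_lift_of_kills {P P' N N' K : ModuleCat.{u} A} (ι : P ⟶ K) (ι' : P' ⟶ K) (π : K ⟶ N) (π' : K ⟶ N')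
    (j : P' ⟶ P) (T : N' ⟶ N) (hj : j ≫ ι = ι') (hT : π' ≫ T = π)
    (hex : Function.Exact ι.hom π.hom) (hex' : Function.Exact ι'.hom π'.hom) (hinj' : Function.Injective ι'.hom)
    (hsur' : ∀ q, Function.Surjective (((C t (𝟭 _)).map π').f q).hom) (c : A) (i : ℕ)
    (h0 : ∀ w, c • hm ((C t (𝟭 _)).map j) ((i + 1 : ℕ) : ℤ) w = 0) (y : ((C t (𝟭 _)).obj N').homology (i : ℤ)) :
    ∃ x, hm ((C t (𝟭 _)).map π) (i : ℤ) x = c • hm ((C t (𝟭 _)).map T) (i : ℤ) y := by
  obtain ⟨⟨z, hz⟩, rfl⟩ := cl_surjective _ _ y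
  obtain ⟨x, hx⟩ := hsur' i z
  obtain ⟨u, hu⟩ := (C_map_exact t ι' π' hex' ((i : ℤ) + 1) ((((C t (𝟭 _)).obj K).d i (i + 1)).hom x)).1 (by
    rw [← RGam.comm, hx]; exact hz)
  have hdu : (((C t (𝟭 _)).obj P').d ((i : ℤ) + 1) (i + 1 + 1)).hom u = 0 :=
    C_map_injective t ι' hinj' _ (by rw [← RGam.comm, hu, dd, map_zero])
  have hcast : ((i + 1 : ℕ) : ℤ) = (i : ℤ) + 1 := by push_cast; rfl
  rw [hcast] at h0
  have h1 := h0 (cl _ _ ⟨u, hdu⟩)
  rw [hm, homologyMap_cl, ← map_smul, cl_eq_zero_iff] at h1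
  obtain ⟨v, hv⟩ := h1
  obtain ⟨v₀, hv₀⟩ := exists_d_eq (P := (C t (𝟭 _)).obj P) (k := (i : ℤ) + 1) (show (i : ℤ) + 1 - 1 = i by omega) v
  have hv' : (((C t (𝟭 _)).obj P).d (i : ℤ) (i + 1)).hom v₀ =
      c • (((C t (𝟭 _)).map j).f ((i : ℤ) + 1)).hom u := hv₀.trans hv
  have hcomp : (((C t (𝟭 _)).map ι).f ((i : ℤ) + 1)).hom ((((C t (𝟭 _)).map j).f ((i : ℤ) + 1)).hom u) =
      (((C t (𝟭 _)).map ι').f ((i : ℤ) + 1)).hom u := by
    rw [← hj, Functor.map_comp]
    rfl
  refine ⟨cl _ _ ⟨c • x - (((C t (𝟭 _)).map ι).f i).hom v₀, ?_⟩, ?_⟩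
  · rw [LinearMap.mem_ker, map_sub, map_smul, RGam.comm, hv', map_smul, hcomp, hu, sub_self]
  · rw [hm, hm, homologyMap_cl, homologyMap_cl]
    refine Eq.trans (congrArg _ (Subtype.ext ?_)) (map_smul _ _ _)
    show (((C t (𝟭 _)).map π).f i).hom (c • x - _) = c • (((C t (𝟭 _)).map T).f i).hom z
    rw [map_sub, map_smul, (C_map_exact t ι π hex i).apply_apply_eq_zero, sub_zero, ← hx, ← hT, Functor.map_comp]
    rfl

/-- The components of a class. -/
noncomputable def component (i : ℤ) (y : ((C t (Lam I)).obj M).homology i) (n : ℕ) :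
    ((C t (𝟭 _)).obj ((Qn I n).obj M)).homology i :=
  hm (red I t M n).hom i (hm ((cN (incl I ≫ prj I n) t).app M) i y)

omit [IsNoetherianRing A] [IsLocalRing A] in
theorem component_step (i : ℤ) (y : ((C t (Lam I)).obj M).homology i) (n : ℕ) :
    hm ((C t (𝟭 _)).map ((tr I n).app M)) i (component I t M i y (n + 1)) = component I t M i y n := by
  unfold component
  rw [← hm_comp, ← red_natural, hm_comp, ← hm_comp ((cN (incl I ≫ prj I (n + 1)) t).app M)]
  refine congrArg (fun φ => hm (red I t M n).hom i (hm φ i y)) ?_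
  ext q x
  have h1 := (cN_comp (incl I ≫ prj I (n + 1)) (tr I n) t M q x).symm
  rw [show (incl I ≫ prj I (n + 1)) ≫ tr I n = incl I ≫ prj I n by
    ext N : 2
    exact ModuleCat.hom_ext (LinearMap.ext fun x : AdicCompletion I N => x.2 (Nat.le_succ n))] at h1
  exact h1

omit [IsNoetherianRing A] [IsLocalRing A] in
theorem component_trans (i : ℤ) (y : ((C t (Lam I)).obj M).homology i) {n m : ℕ} (h : n ≤ m)
    (T : (Qn I m).obj M ⟶ (Qn I n).obj M) (hT : (mkN I m).app M ≫ T = (mkN I n).app M) :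
    hm ((C t (𝟭 _)).map T) i (component I t M i y m) = component I t M i y n := by
  haveI : ∀ k, Epi ((mkN I k).app M) := fun k => (ModuleCat.epi_iff_surjective _).2 (Submodule.mkQ_surjective _)
  induction m, h using Nat.le_induction with
  | base =>
    rw [← cancel_epi ((mkN I n).app M) |>.1 (hT.trans (Category.comp_id _).symm) |>.symm]
    generalize component I t M i y n = z
    have h1 := congrArg (fun φ => φ.hom z) (HomologicalComplex.homologyMap_id ((C t (𝟭 _)).obj ((Qn I n).obj M)) i)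
    rw [← CategoryTheory.Functor.map_id] at h1
    exact h1
  | succ m h ih =>
    let T' : (Qn I m).obj M ⟶ (Qn I n).obj M := ModuleCat.ofHom (AdicCompletion.transitionMap I M h)
    have hT' : (mkN I m).app M ≫ T' = (mkN I n).app M := rfl
    have e : T = (tr I m).app M ≫ T' := (cancel_epi ((mkN I (m + 1)).app M)).1 (hT.trans (by rfl))
    rw [e, Functor.map_comp, hm_comp, component_step, ih T' hT']

include hω hn ht in
/-- Torsion. -/
theorem exists_pow_kills (c : A) (hc : c ∈ IsLocalRing.maximalIdeal A) (e i : ℕ)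
    (hp : ∀ i' : ℕ, (i' = i ∨ i' = i + 1) → ∀ n : ℕ, ∃ (m : ℕ) (h : n ≤ m),
      ∀ a : _root_.LocCoh.H (IsLocalRing.maximalIdeal A) i' (pw I M m),
        c ^ e • LocCoh.Hmap (IsLocalRing.maximalIdeal A) i' (inc I M h) a = 0)
    (y : ((C t (Lam I)).obj M).homology (i : ℤ)) : ∃ K : ℕ, c ^ K • y = 0 := by
  let B := C t (𝟭 (ModuleCat.{u} A))
  let Mn : ℕ → ModuleCat.{u} A := fun n => (Qn I n).obj M
  let Pn : ℕ → ModuleCat.{u} A := fun n => ModuleCat.of A (pw I M n)
  let π : ∀ n, M ⟶ Mn n := fun n => (mkN I n).app M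
  let ι : ∀ n, Pn n ⟶ M := fun n => ModuleCat.ofHom (pw I M n).subtype
  let T : ∀ {n m : ℕ}, n ≤ m → (Mn m ⟶ Mn n) := fun h => ModuleCat.ofHom (AdicCompletion.transitionMap I M h)
  have hπT : ∀ {n m : ℕ} (h : n ≤ m), π m ≫ T h = π n := fun h => rfl
  let yn := component I t M (i : ℤ) y
  have hT : ∀ {n m : ℕ} (h : n ≤ m), hm (B.map (T h)) i (yn m) = yn n := fun {n m} h =>
    component_trans I t M (i : ℤ) y h (T h) (hπT h)
  have hex : ∀ n q, Function.Exact ((B.map (ι n)).f q).hom ((B.map (π n)).f q).hom := fun n q =>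
    C_map_exact t (ι n) (π n) (LinearMap.exact_subtype_mkQ _) q
  have hinj : ∀ n q, Function.Injective ((B.map (ι n)).f q).hom := fun n q =>
    C_map_injective t (ι n) Subtype.val_injective q
  have hsur : ∀ n q, Function.Surjective ((B.map (π n)).f q).hom := fun n q =>
    (red_compare t _ (red_mk n M) q).1
  have hkill : ∀ (i' : ℕ), (i' = i ∨ i' = i + 1) → ∀ n, ∃ (m : ℕ) (h : n ≤ m), ∀ w,
      c ^ e • hm (B.map (ModuleCat.ofHom (inc I M h) : Pn m ⟶ Pn n)) (i' : ℤ) w = 0 := fun i' hi' n => by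
    obtain ⟨m, hm', h0⟩ := hp i' hi' n
    exact ⟨m, hm', fun w => kills_cech (IsLocalRing.maximalIdeal A) ht _ i' _ h0 w⟩
  have hlift : ∀ n, ∃ x, hm (B.map (π n)) i x = c ^ e • yn n := by
    intro n
    obtain ⟨m, hnm, h0⟩ := hkill (i + 1) (Or.inr rfl) n
    obtain ⟨x, hx⟩ := exists_lift_of_kills t (ι n) (ι m) (π n) (π m) (ModuleCat.ofHom (inc I M hnm)) (T hnm) rfl
      (hπT hnm) (LinearMap.exact_subtype_mkQ _) (LinearMap.exact_subtype_mkQ _) Subtype.val_injective
      (hsur m) (c ^ e) i h0 (yn m)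
    exact ⟨x, hx.trans (congrArg (c ^ e • ·) (hT hnm))⟩
  choose x hx using hlift
  obtain ⟨m₀, hm₀, h0⟩ := hkill i (Or.inl rfl) 0
  have hdiff : ∀ n, m₀ ≤ n → c ^ e • (x n - x m₀) = 0 := by
    intro n hn'
    obtain ⟨w, hw⟩ := exists_hm_of_exact (B.map (ι m₀)) (B.map (π m₀)) (hinj m₀) (hex m₀) (hsur m₀) i (x n - x m₀) (by
      rw [map_sub, ← hπT hn', Functor.map_comp, hm_comp, hx, map_smul, hT, ← Functor.map_comp, hπT hn', hx, sub_self])
    rw [← hw, show ι m₀ = ModuleCat.ofHom (inc I M hm₀) ≫ ι 0 from rfl, Functor.map_comp, hm_comp, ← map_smul, h0,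
      map_zero]
  obtain ⟨L, hL⟩ : ∃ L, c ^ L • x m₀ = 0 := by
    obtain ⟨e', -⟩ := @exists_compare A _ _ (IsLocalRing.maximalIdeal A) (hasRgammaI _) t ht M
    haveI := hasRgammaI (A := A) (IsLocalRing.maximalIdeal A)
    obtain ⟨L, hL⟩ := (tors_Q_iff _).1 (Tors.of_iso e'.symm (tors_RgammaI _ _)) i (x m₀)
    exact ⟨L, hL _ (Ideal.pow_mem_pow hc L)⟩
  have hbig : ∀ n, m₀ ≤ n → c ^ (L + e + e) • yn n = 0 := fun n hn' => by
    have h1 := hdiff n hn'
    rw [smul_sub, sub_eq_zero] at h1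
    rw [pow_add, mul_smul, ← hx, ← map_smul, pow_add, mul_smul, h1, smul_comm, hL, smul_zero, map_zero]
  refine ⟨L + e + e, eq_zero_of_components I t M i (fun n => ?_) _ fun n => ?_⟩
  · haveI : Module.Finite A (Mn n) := inferInstanceAs (Module.Finite A (M ⧸ (I ^ n • ⊤ : Submodule A M)))
    haveI : IsArtinian A ((HomologicalComplex.homologyFunctor (ModuleCat.{u} A) (ComplexShape.up ℤ) ((i : ℤ) - 1)).obj
        ((C t (𝟭 (ModuleCat.{u} A))).obj ((Qn I n).obj M))) := isArtinian_cech hω hn ht (Mn n) ((i : ℤ) - 1)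
    exact isArtinian_of_linearEquiv
      ((HomologicalComplex.homologyFunctor (ModuleCat.{u} A) (ComplexShape.up ℤ) ((i : ℤ) - 1)).mapIso
        (red I t M n)).toLinearEquiv.symm
  · have h1 : c ^ (L + e + e) • yn n = 0 := by
      rw [← hT (le_max_left n m₀), ← map_smul, hbig _ (le_max_right n m₀), map_zero]
    apply ((HomologicalComplex.homologyFunctor (ModuleCat.{u} A) (ComplexShape.up ℤ) (i : ℤ)).mapIso
        (red I t M n)).toLinearEquiv.injective
    rw [map_zero, map_smul (hm _ _), map_smul]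
    exact h1

end Groth.Agent.CAlgH3.DT
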