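import Groth.Agent.S1755
import Groth.Agent.S9228
import Groth.Agent.CAlgMisc2.CatenaryLocal
import Groth.Agent.CommAlg6.CompletionEquidim
import Groth.Agent.CommAlg6.FormalFibreQuot
import Groth.Agent.CommAlg6.SerreOne
import Groth.Agent.CommAlg6.GeomFib
import Mathlib.RingTheory.KrullDimension.NonZeroDivisors

/-! Completions of local domains of dimension at least two. -/

set_option autoImplicit false
set_option linter.style.haveILetI false

universe u

open IsLocalRing

namespace Groth.Agent.CAlgH3.DT.UCFibres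

variable {A : Type u} [CommRing A]

/-- A chain of length two between `p` and `q` gives dimension two. -/
theorem two_le_ringKrullDim_quotient (p q : PrimeSpectrum A) (hpq : p ≤ q)
    (h : (2 : ℕ∞) ≤ Order.height (⟨q, hpq⟩ : Set.Ici p)) :
    (2 : WithBot ℕ∞) ≤ ringKrullDim (Localization.AtPrime q.asIdeal ⧸
      p.asIdeal.map (algebraMap A (Localization.AtPrime q.asIdeal))) := by
  obtain ⟨s, hs, hlen⟩ := Order.exists_series_of_le_height (⟨q, hpq⟩ : Set.Ici p) (n := 2) (by exact_mod_cast h)
  have hle : ∀ i, (s i).1.asIdeal ≤ q.asIdeal := fun i => by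
    have h1 : (s i).1 ≤ s.last.1 := s.monotone (Fin.le_last i)
    rw [hs] at h1
    exact h1
  have hd : ∀ i, Disjoint (q.asIdeal.primeCompl : Set A) ((s i).1.asIdeal : Set A) := fun i =>
    Set.disjoint_left.2 fun x hx hxp => hx (hle i hxp)
  let f : Fin (s.length + 1) → PrimeSpectrum.zeroLocus
      ((p.asIdeal.map (algebraMap A (Localization.AtPrime q.asIdeal)) : Ideal _) : Set (Localization.AtPrime q.asIdeal)) :=
    fun i => ⟨⟨(s i).1.asIdeal.map (algebraMap A _),
      IsLocalization.isPrime_of_isPrime_disjoint q.asIdeal.primeCompl _ _ (s i).1.2 (hd i)⟩,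
      Ideal.map_mono (s i).2⟩
  have hf : ∀ i, (f i).1.asIdeal.comap (algebraMap A _) = (s i).1.asIdeal := fun i =>
    IsLocalization.under_map_of_isPrime_disjoint q.asIdeal.primeCompl _ (s i).1.2 (hd i)
  have hmono : StrictMono f := fun i j hij => by
    have hlt : (s i).1 < (s j).1 := s.strictMono hij
    refine lt_of_le_of_ne (Ideal.map_mono hlt.le) fun he => hlt.ne (PrimeSpectrum.ext ?_)
    rw [← hf i, ← hf j, he]
  rw [ringKrullDim_quotient]
  have h1 := Order.LTSeries.length_le_krullDim (LTSeries.mk s.length f hmono)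
  rw [show (LTSeries.mk s.length f hmono).length = s.length from rfl, hlen] at h1
  exact h1

/-- In a reduced ring the associated primes are minimal. -/
theorem mem_minimalPrimes_of_mem_associatedPrimes {D : Type u} [CommRing D] [IsReduced D] {P : Ideal D}
    (hP : P ∈ associatedPrimes D D) : P ∈ minimalPrimes D := by
  obtain ⟨hP', x, hx⟩ := hP
  have hx0 : x ≠ 0 := fun h0 => hP'.ne_top ((Ideal.eq_top_iff_one _).2 (by
    rw [hx]; exact Ideal.le_radical (by simp [h0])))
  obtain ⟨Q, hQ, hxQ⟩ : ∃ Q ∈ minimalPrimes D, x ∉ Q := by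
    by_contra! hall
    refine hx0 ?_
    have h1 : x ∈ sInf (⊥ : Ideal D).minimalPrimes := Submodule.mem_sInf.2 hall
    rw [Ideal.sInf_minimalPrimes] at h1
    simpa [nilradical_eq_zero] using (show x ∈ nilradical D from h1)
  have hle : P ≤ Q := by
    intro t ht
    rw [hx] at ht
    obtain ⟨n, hn⟩ := ht
    have hQp : Q.IsPrime := hQ.1.1
    have : t ^ n * x ∈ Q := by
      rw [show t ^ n * x = 0 by simpa [Submodule.mem_colon_singleton] using hn]
      exact Q.zero_mem
    exact hQp.mem_of_pow_mem n ((hQp.mem_or_mem this).resolve_right hxQ)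
  exact le_antisymm hle (hQ.2 ⟨hP', bot_le⟩ hle) ▸ hQ

variable {B : Type u} [CommRing B] [IsLocalRing B] [IsNoetherianRing B]

/-- If the completion of a formally equidimensional ring of dimension at least two has no embedded primes,
then all its associated primes have coheight at least two. -/
theorem two_le_dim_quotient_of_equidim (hE : EGA4.IsFormallyEquidim B) (hd : (2 : WithBot ℕ∞) ≤ ringKrullDim B)
    (hmin : ∀ P ∈ associatedPrimes (EGA4.Cpl B) (EGA4.Cpl B), P ∈ minimalPrimes (EGA4.Cpl B)) :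
    ∀ P ∈ associatedPrimes (EGA4.Cpl B) (EGA4.Cpl B), (2 : WithBot ℕ∞) ≤ ringKrullDim (EGA4.Cpl B ⧸ P) := by
  intro P hP
  rw [hE P (hmin P hP), CommAlg6.ringKrullDim_completion]
  exact hd

/-- A domain whose generic formal fibre satisfies `(S₁)` has a completion without embedded primes. -/
theorem mem_minimalPrimes_of_hasSk_fibre [IsDomain B]
    (hS : _root_.LocCoh.HasSk 1 (EGA4.formalFibre B ⊥) (EGA4.formalFibre B ⊥)) {P : Ideal (EGA4.Cpl B)}
    (hP : P ∈ associatedPrimes (EGA4.Cpl B) (EGA4.Cpl B)) : P ∈ minimalPrimes (EGA4.Cpl B) := by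
  haveI : IsNoetherianRing (EGA4.Cpl B) := Matlis6.isNoetherianRing_adicCompletion (maximalIdeal B)
  haveI : Module.Flat B (EGA4.Cpl B) := AdicCompletion.flat_of_isNoetherian (maximalIdeal B)
  haveI hP' := hP.isPrime
  let T := Algebra.algebraMapSubmonoid (EGA4.Cpl B) (⊥ : Ideal B).primeCompl
  let L := Localization T
  haveI : IsNoetherianRing L := IsLocalization.isNoetherianRing T L inferInstance
  letI := Algebra.TensorProduct.rightAlgebra (R := B) (A := (⊥ : Ideal B).ResidueField) (B := EGA4.Cpl B)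
  let e : EGA4.formalFibre B ⊥ ≃+* L :=
    (Ideal.Fiber.algEquivAux₁ (⊥ : Ideal B)).toRingEquiv.trans
      ((Ideal.quotEquivOfEq (by rw [Ideal.map_bot, Ideal.map_bot])).trans (RingEquiv.quotientBot L))
  haveI : IsNoetherianRing (EGA4.formalFibre B ⊥) := isNoetherianRing_of_ringEquiv L e.symm
  have hL := CommAlg6.hasSk_one_iff.1 (CommAlg6.hasSk_of_ringEquiv e hS)
  have hdisj : ∀ {r : Ideal (EGA4.Cpl B)}, r ≤ P → Disjoint (T : Set (EGA4.Cpl B)) (r : Set (EGA4.Cpl B)) :=
    fun {r} hr => Set.disjoint_left.2 fun x ⟨b, hb, hbx⟩ hxr => by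
      have hb0 : b ≠ 0 := hb
      obtain ⟨-, y, hy⟩ := hP
      have hxP := hr hxr
      rw [hy] at hxP
      obtain ⟨n, hn⟩ := hxP
      have hreg : IsSMulRegular (EGA4.Cpl B) (b ^ n) :=
        (fun x y hxy => (IsSMulRegular.of_flat (S := EGA4.Cpl B) (isRegular_of_ne_zero (pow_ne_zero n hb0)).left) (by simpa [Algebra.smul_def] using hxy))
      have hy0 : y = 0 := hreg.right_eq_zero_of_smul (by
        rw [Algebra.smul_def, map_pow]
        rw [← hbx] at hn
        simpa [Submodule.mem_colon_singleton] using hn)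
      exact hP'.ne_top ((Ideal.eq_top_iff_one _).2 (by rw [hy]; exact Ideal.le_radical (by simp [hy0])))
  rw [minimalPrimes_eq_minimals]
  refine ⟨hP', fun r hr hrP => ?_⟩
  have key : ∀ {r : Ideal (EGA4.Cpl B)}, r.IsPrime → r ≤ P → (r.map (algebraMap _ L)).IsPrime ∧
      (r.map (algebraMap _ L)).comap (algebraMap _ L) = r := fun hr hle =>
    ⟨IsLocalization.isPrime_of_isPrime_disjoint T L _ hr (hdisj hle),
      IsLocalization.under_map_of_isPrime_disjoint T L hr (hdisj hle)⟩
  haveI : IsLocalizedModule T (Algebra.linearMap (EGA4.Cpl B) L) := inferInstance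
  have hass : P.map (algebraMap _ L) ∈ associatedPrimes L L := by
    rw [← Module.associatedPrimes.preimage_comap_associatedPrimes_eq_associatedPrimes_of_isLocalizedModule
      T L (f := Algebra.linearMap (EGA4.Cpl B) L)]
    rw [Set.mem_preimage]
    rwa [(key hP' le_rfl).2]
  haveI := (key hr hrP).1
  have h1 := hL ⟨_, (key hP' le_rfl).1⟩ hass ⟨_, (key hr hrP).1⟩
    (Module.mem_support_iff_of_finite.2 (by rw [Module.annihilator_eq_bot.2 inferInstance]; exact bot_le))
    (Ideal.map_mono hrP)
  rw [← (key hP' le_rfl).2, ← (key hr hrP).2]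
  exact (Ideal.comap_mono (K := _) h1.ge)

/-- Kollár's condition at `q` from a condition on the local domain `A_q / p A_q`. -/
theorem finite_H_one_of_local [IsNoetherianRing A] (I : Ideal A) (M : Type u) [AddCommGroup M] [Module A M]
    [Module.Finite A M]
    (h : ∀ (p q : PrimeSpectrum A) (hpq : p ≤ q), p.asIdeal ∈ associatedPrimes A M → ¬ I ≤ p.asIdeal → I ≤ q.asIdeal →
      ∀ (B : Type u) [CommRing B] [IsLocalRing B] [IsDomain B] [IsNoetherianRing B] (π : Localization.AtPrime q.asIdeal →+* B),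
        Function.Surjective π → RingHom.ker π = p.asIdeal.map (algebraMap A (Localization.AtPrime q.asIdeal)) →
        EGA4.IsFormallyEquidim B → (2 : WithBot ℕ∞) ≤ ringKrullDim B →
        ∀ P ∈ associatedPrimes (EGA4.Cpl B) (EGA4.Cpl B), P ∈ minimalPrimes (EGA4.Cpl B))
    (hU : CAlg.IsUniversallyCatenary A)
    (hh : ∀ (p q : PrimeSpectrum A) (hpq : p ≤ q), p.asIdeal ∈ associatedPrimes A M → ¬ I ≤ p.asIdeal → I ≤ q.asIdeal →
      (2 : ℕ∞) ≤ Order.height (⟨q, hpq⟩ : Set.Ici p)) :
    Module.Finite A (_root_.LocCoh.H I 1 M) := by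
  refine Groth.Agent.S1755.result A I M fun p hp hIp q hpq hq => ?_
  haveI := hp.isPrime
  let P₀ : PrimeSpectrum A := ⟨p, hp.isPrime⟩
  haveI : IsNoetherianRing (Localization.AtPrime q.asIdeal) :=
    IsLocalization.isNoetherianRing q.asIdeal.primeCompl _ inferInstance
  haveI hprime : (p.map (algebraMap A (Localization.AtPrime q.asIdeal))).IsPrime :=
    IsLocalization.isPrime_of_isPrime_disjoint q.asIdeal.primeCompl _ p inferInstance
      (Set.disjoint_left.2 fun x hx hxp => hx (hpq hxp))
  set J := p.map (algebraMap A (Localization.AtPrime q.asIdeal))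
  haveI : IsLocalRing (Localization.AtPrime q.asIdeal ⧸ J) := IsLocalRing.of_surjective' _ Ideal.Quotient.mk_surjective
  have hm : (maximalIdeal (Localization.AtPrime q.asIdeal)).map (Ideal.Quotient.mk J) =
      maximalIdeal (Localization.AtPrime q.asIdeal ⧸ J) :=
    IsLocalRing.map_maximalIdeal_of_surjective _ Ideal.Quotient.mk_surjective
  have hE : EGA4.IsFormallyEquidim (Localization.AtPrime q.asIdeal ⧸ J) :=
    Groth.Agent.S9228.result _ (CAlgMisc2.isUniversallyCatenary_localization q.asIdeal.primeCompl _ hU) J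
  have hd := two_le_ringKrullDim_quotient P₀ q hpq (hh P₀ q hpq hp hIp hq)
  rw [hm]
  exact two_le_dim_quotient_of_equidim hE hd
    (h P₀ q hpq hp hIp hq _ (Ideal.Quotient.mk J) Ideal.Quotient.mk_surjective Ideal.mk_ker hE hd)

end Groth.Agent.CAlgH3.DT.UCFibres
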